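import Mathlib

/-!
# Coordinates on a Sylow 2-subgroup of the large Ree groups (helper78)
-/

set_option autoImplicit false
set_option linter.unusedSectionVars false

namespace H78.Oct

/-- A Tits endomorphism: a square root of the Frobenius map. -/
class Tits (K : Type*) [Field K] where
  /-- the automorphism -/
  s : K ≃+* K
  sq : ∀ x, s (s x) = x ^ 2

/-- The Tits automorphism. -/
abbrev σ {K : Type*} [Field K] [Tits K] : K ≃+* K := Tits.s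

/-- Coordinates of `x₁(a1) y₂(a2,b2) x₃(a3) y₄(a4,b4) x₅(a5) y₆(a6,b6) x₇(a7) y₈(a8,b8)`. -/
@[ext] structure Co (K : Type*) where
  (a1 a2 b2 a3 a4 b4 a5 a6 b6 a7 a8 b8 : K)

section Gen

variable {A : Type*} [Add A] [Mul A] [Pow A ℕ] [Zero A] (s : A → A)

/-- The product in coordinates. -/
def mulG (x y : Co A) : Co A where
  a1 := x.a1 + y.a1
  a2 := x.a2 + x.a8 * y.a1 + y.a2
  b2 := x.a2 * s x.a8 * s y.a1 + x.a2 * s y.a2 + x.b2 + x.a4 * y.a1 + x.a6 * s y.a1 + x.a8 * y.a1 * s y.a2 +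
      x.b8 * y.a1 * s y.a1 + y.b2
  a3 := x.a3 + x.a4 * x.a8 * y.a1 + x.a4 * y.a2 + s x.a6 * y.a1 + x.a7 * s y.a1 +
      x.a8 ^ 2 * s x.a8 * y.a1 * s y.a1 + x.a8 * x.b8 * y.a1 * s y.a1 + x.a8 * y.a2 * s y.a2 + x.a8 * y.b2 +
      x.b8 * s y.a1 * y.a2 + s x.b8 * y.a1 * s y.a1 + y.a3
  a4 := x.a4 + x.a8 * s y.a2 + x.b8 * s y.a1 + y.a4
  b4 := x.a4 * s x.a8 * y.a2 ^ 2 + x.a4 * s x.b8 * y.a1 ^ 2 + x.a4 * s y.a4 + x.b4 + x.a5 * x.a8 * y.a1 +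
      x.a5 * y.a2 + x.a6 * x.a7 * s y.a1 + x.a6 * x.a8 ^ 2 * s x.a8 * y.a1 * s y.a1 +
      x.a6 * x.a8 * x.b8 * y.a1 * s y.a1 + x.a6 * x.a8 * y.a2 * s y.a2 + x.a6 * x.a8 * y.b2 +
      x.a6 * x.b8 * s y.a1 * y.a2 + x.a6 * s x.b8 * y.a1 * s y.a1 + x.a6 * y.a3 + x.b6 * y.a1 +
      x.a7 * x.a8 * s x.a8 * y.a1 * s y.a1 + x.a7 * s x.a8 * s y.a1 * y.a2 + x.a7 * x.b8 * y.a1 * s y.a1 +
      x.a7 * y.a2 * s y.a2 + x.a7 * y.b2 + s x.a7 * x.a8 * y.a1 ^ 2 + s x.a7 * y.a1 * y.a2 +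
      x.a8 ^ 3 * s x.a8 ^ 2 * y.a1 ^ 2 * s y.a1 + x.a8 ^ 2 * s x.a8 ^ 2 * y.a1 * s y.a1 * y.a2 +
      x.a8 * s x.a8 * s x.b8 * y.a1 ^ 2 * s y.a1 + x.a8 * s x.a8 * y.a1 * y.a3 +
      x.a8 * s x.a8 * y.a2 ^ 2 * s y.a2 + x.a8 * s x.a8 * y.a2 * y.b2 + x.a8 * x.b8 ^ 2 * y.a1 ^ 2 * s y.a1 +
      x.a8 * s y.a2 * s y.a4 + x.a8 * s y.a3 + s x.a8 * x.b8 * s y.a1 * y.a2 ^ 2 +
      s x.a8 * s x.b8 * y.a1 * s y.a1 * y.a2 + s x.a8 * y.a2 * y.a3 + x.b8 ^ 2 * y.a1 * s y.a1 * y.a2 +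
      x.b8 * s x.b8 * y.a1 ^ 2 * s y.a1 + x.b8 * y.a1 * y.a3 + x.b8 * s y.a1 * s y.a4 +
      x.b8 * y.a2 ^ 2 * s y.a2 + x.b8 * y.a2 * y.b2 + x.b8 * s y.b2 + s x.b8 * y.a1 * y.a2 * s y.a2 +
      s x.b8 * y.a1 * y.b2 + y.b4
  a5 := x.a5 + x.a6 * x.a8 * s y.a2 + x.a6 * x.b8 * s y.a1 + x.a6 * y.a4 + x.a7 * s x.a8 * s y.a1 +
      x.a7 * s y.a2 + s x.a7 * y.a1 + x.a8 ^ 2 * s x.a8 ^ 2 * y.a1 * s y.a1 + x.a8 * s x.a8 * y.a1 * y.a4 +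
      x.a8 * s x.a8 * y.b2 + s x.a8 * s x.b8 * y.a1 * s y.a1 + s x.a8 * y.a2 * y.a4 + s x.a8 * y.a3 +
      x.b8 ^ 2 * y.a1 * s y.a1 + x.b8 * y.a1 * y.a4 + x.b8 * y.b2 + s x.b8 * y.a1 * s y.a2 + y.a5
  a6 := x.a6 + x.a8 * s x.a8 * y.a1 + s x.a8 * y.a2 + x.b8 * y.a1 + y.a6
  b6 := x.a6 * x.a8 ^ 2 * s x.a8 * s y.a1 + x.a6 * x.a8 ^ 2 * s y.a2 + x.a6 * s x.b8 * s y.a1 + x.a6 * s y.a6 +
      x.b6 + x.a7 * x.a8 * s y.a2 + x.a7 * x.b8 * s y.a1 + x.a7 * y.a4 + s x.a7 * x.a8 * y.a1 + s x.a7 * y.a2 +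
      x.a8 ^ 3 * s x.a8 ^ 2 * y.a1 * s y.a1 + x.a8 ^ 2 * s x.a8 ^ 2 * s y.a1 * y.a2 +
      x.a8 ^ 2 * s x.a8 * y.a1 * y.a4 + x.a8 ^ 2 * s x.a8 * y.b2 + x.a8 * s x.a8 * s x.b8 * y.a1 * s y.a1 +
      x.a8 * s x.a8 * y.a1 * s y.a6 + x.a8 * x.b8 ^ 2 * y.a1 * s y.a1 + x.a8 * x.b8 * y.a1 * y.a4 +
      x.a8 * x.b8 * y.b2 + x.a8 * s x.b8 * y.a1 * s y.a2 + x.a8 * y.a5 + s x.a8 * s x.b8 * s y.a1 * y.a2 +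
      s x.a8 * y.a2 * s y.a6 + x.b8 ^ 2 * s y.a1 * y.a2 + x.b8 * y.a1 * s y.a6 + x.b8 * y.a2 * y.a4 +
      x.b8 * y.a3 + s x.b8 * y.a1 * y.a4 + s x.b8 * y.a2 * s y.a2 + s x.b8 * y.b2 + y.b6
  a7 := x.a7 + x.a8 ^ 2 * s x.a8 * y.a1 + x.a8 * x.b8 * y.a1 + x.a8 * y.a6 + x.b8 * y.a2 + s x.b8 * y.a1 + y.a7
  a8 := x.a8 + y.a8
  b8 := x.a8 * s y.a8 + x.b8 + y.b8

/-- Conjugation by `n₁` on `R = U₂ ⋯ U₈`. -/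
def w1G (x : Co A) : Co A where
  a1 := 0
  a2 := x.a8
  b2 := x.b8
  a3 := x.a2 * x.a8 * s x.a8 + x.a2 * x.b8 + x.a6 * x.a8 + x.a7
  a4 := x.a2 * s x.a8 + x.a6
  b4 := x.a2 * s x.a2 * x.a8 ^ 2 * s x.a8 + x.a2 * s x.a2 * x.a8 * x.b8 + x.a2 * s x.a7 +
      s x.a2 * x.a6 * x.a8 ^ 2 + s x.a2 * x.a7 * x.a8 + x.b2 * x.a8 ^ 2 * s x.a8 + x.b2 * x.a8 * x.b8 +
      x.b2 * s x.b8 + x.a3 * x.a8 * s x.a8 + x.a3 * x.b8 + x.a4 * x.a6 * x.a8 + x.a4 * x.a7 + x.a5 * x.a8 +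
      x.b6
  a5 := x.a2 * s x.a2 * x.b8 + s x.a2 * x.a7 + x.b2 * x.b8 + x.a3 * s x.a8 + x.a4 * x.a6 + x.a5
  a6 := s x.a2 * x.a8 + x.a4
  b6 := x.a2 ^ 2 * s x.a2 * x.b8 + x.a2 * x.b2 * x.b8 + x.a2 * x.a3 * s x.a8 + x.a2 * x.a4 * x.a6 + x.a2 * x.a5 +
      s x.a2 * s x.a4 * x.a8 + x.b2 * x.a7 + s x.b2 * x.a8 * s x.a8 + s x.b2 * x.b8 + x.a3 * x.a6 +
      s x.a3 * x.a8 + x.b4
  a7 := x.a2 * x.a4 + x.b2 * x.a8 + x.a3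
  a8 := x.a2
  b8 := x.b2

/-- Conjugation by `n₂` on `Q = U₁ ⋯ U₇`. -/
def w2G (x : Co A) : Co A where
  a1 := x.a7
  a2 := x.a6
  b2 := x.a2 * s x.a7 + x.a4 * x.a7 + x.b6
  a3 := x.a1 * s x.a7 + s x.a2 * x.a7 + x.a4 * x.a6 + x.a5
  a4 := x.a4
  b4 := x.a1 * x.a2 * s x.a7 + x.a1 * x.a4 * x.a7 + x.a1 * x.a6 * s x.a6 + x.a1 * x.b6 + s x.a1 * x.a6 * x.a7 +
      x.a2 * x.a4 * x.a6 + x.a2 * x.a5 + x.b2 * x.a7 + x.a3 * x.a6 + x.b4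
  a5 := x.a1 * s x.a6 + s x.a1 * x.a7 + x.a2 * x.a4 + x.a3
  a6 := x.a2
  b6 := x.a1 * x.a4 + s x.a1 * x.a6 + x.b2
  a7 := x.a1
  a8 := 0
  b8 := 0

end Gen

variable {K : Type*} [Field K] [Tits K]

@[simp] theorem σσ (x : K) : σ (σ x) = x ^ 2 := Tits.sq x

instance titsCharP : CharP K 2 := by
  have h := σσ (1 + 1 : K)
  simp only [map_add, map_one] at h
  exact (CharP.charP_iff_prime_eq_zero Nat.prime_two).2 (by push_cast; linear_combination -h)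

theorem σ_ne {x : K} (h : x ≠ 0) : σ x ≠ 0 := (map_ne_zero _).2 h

/-- `x ↦ x · σ x` is injective. -/
theorem N_inj {x y : K} (h : x * σ x = y * σ y) : x = y := by
  have h1 := congrArg σ h
  simp only [map_mul, σσ] at h1
  by_cases hx : x = 0
  · subst hx
    simpa using h.symm |>.trans (zero_mul _) |> mul_eq_zero.1 |>.elim Eq.symm fun e => ((map_eq_zero _).1 e).symm
  exact mul_right_cancel₀ (mul_ne_zero hx (σ_ne hx)) (by linear_combination h1 - y * h)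

theorem N_eq_zero {x : K} (h : x * σ x = 0) : x = 0 := N_inj (by simpa using h)

theorem N_surj [Finite K] (y : K) : ∃ x : K, x * σ x = y :=
  (Finite.injective_iff_surjective.1 fun _ _ => N_inj) y

/-- The Tits automorphism on units. -/
def σu (c : Kˣ) : Kˣ := Units.map (σ : K ≃+* K).toMonoidHom c

@[simp] theorem σu_val (c : Kˣ) : (σu c : K) = σ (c : K) := rfl

namespace Co

/-- The inverse in coordinates. -/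
def inv (x : Co K) : Co K where
  a1 := x.a1
  a2 := x.a1 * x.a8 + x.a2
  b2 := x.a1 * σ x.a1 * x.a8 * σ x.a8 + x.a1 * σ x.a1 * x.b8 + x.a1 * σ x.a2 * x.a8 + x.a1 * x.a4 +
      σ x.a1 * x.a6 + x.a2 * σ x.a2 + x.b2
  a3 := x.a1 * σ x.a1 * x.a8 ^ 2 * σ x.a8 + x.a1 * σ x.a1 * x.a8 * x.b8 + x.a1 * σ x.a1 * σ x.b8 +
      x.a1 * x.a4 * x.a8 + x.a1 * σ x.a6 + σ x.a1 * x.a2 * x.a8 * σ x.a8 + σ x.a1 * x.a2 * x.b8 +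
      σ x.a1 * x.a6 * x.a8 + σ x.a1 * x.a7 + x.a2 * x.a4 + x.b2 * x.a8 + x.a3
  a4 := σ x.a1 * x.a8 * σ x.a8 + σ x.a1 * x.b8 + σ x.a2 * x.a8 + x.a4
  b4 := x.a1 ^ 2 * σ x.a1 * x.a8 ^ 2 * σ x.a8 * x.b8 + x.a1 ^ 2 * σ x.a1 * x.a8 * x.b8 ^ 2 +
      x.a1 ^ 2 * σ x.a1 * x.b8 * σ x.b8 + x.a1 ^ 2 * x.a4 * x.a8 ^ 2 * σ x.a8 + x.a1 ^ 2 * x.a4 * σ x.b8 +
      x.a1 ^ 2 * σ x.a6 * x.a8 * σ x.a8 + x.a1 ^ 2 * σ x.a7 * x.a8 +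
      x.a1 * σ x.a1 * x.a2 * x.a8 ^ 2 * σ x.a8 ^ 2 + x.a1 * σ x.a1 * x.a2 * σ x.a8 * σ x.b8 +
      x.a1 * σ x.a1 * x.a2 * x.b8 ^ 2 + x.a1 * σ x.a1 * x.a6 * x.a8 ^ 2 * σ x.a8 +
      x.a1 * σ x.a1 * x.a6 * σ x.b8 + x.a1 * σ x.a1 * x.a7 * x.b8 + x.a1 * x.a2 * σ x.a6 * σ x.a8 +
      x.a1 * x.a2 * σ x.a7 + x.a1 * x.b2 * x.a8 ^ 2 * σ x.a8 + x.a1 * x.b2 * σ x.b8 + x.a1 * x.a3 * x.b8 +
      x.a1 * x.a4 * x.a7 + x.a1 * x.a6 * σ x.a6 + x.a1 * x.b6 + σ x.a1 * x.a2 ^ 2 * x.a8 * σ x.a8 ^ 2 +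
      σ x.a1 * x.a2 ^ 2 * σ x.a8 * x.b8 + σ x.a1 * x.a2 * x.a6 * x.b8 + σ x.a1 * x.a2 * x.a7 * σ x.a8 +
      σ x.a1 * x.a6 ^ 2 * x.a8 + σ x.a1 * x.a6 * x.a7 + x.a2 ^ 2 * σ x.a2 * x.a8 * σ x.a8 +
      x.a2 ^ 2 * σ x.a2 * x.b8 + x.a2 ^ 2 * x.a4 * σ x.a8 + x.a2 * x.b2 * x.b8 + x.a2 * x.a3 * σ x.a8 +
      x.a2 * x.a4 * x.a6 + x.a2 * x.a5 + x.b2 * x.a7 + σ x.b2 * x.a8 * σ x.a8 + σ x.b2 * x.b8 + x.a3 * x.a6 +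
      σ x.a3 * x.a8 + x.a4 * σ x.a4 + x.b4
  a5 := x.a1 * σ x.a1 * x.a8 ^ 2 * σ x.a8 ^ 2 + x.a1 * σ x.a1 * σ x.a8 * σ x.b8 + x.a1 * σ x.a1 * x.b8 ^ 2 +
      x.a1 * σ x.a2 * x.a8 ^ 2 * σ x.a8 + x.a1 * σ x.a2 * σ x.b8 + x.a1 * σ x.a6 * σ x.a8 + x.a1 * σ x.a7 +
      σ x.a1 * x.a6 * x.b8 + σ x.a1 * x.a7 * σ x.a8 + x.a2 * σ x.a2 * x.b8 + σ x.a2 * x.a7 + x.b2 * x.b8 +
      x.a3 * σ x.a8 + x.a4 * x.a6 + x.a5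
  a6 := x.a1 * x.b8 + x.a2 * σ x.a8 + x.a6
  b6 := x.a1 * σ x.a1 * x.a8 ^ 3 * σ x.a8 ^ 2 + x.a1 * σ x.a1 * x.a8 * σ x.a8 * σ x.b8 +
      x.a1 * σ x.a1 * x.a8 * x.b8 ^ 2 + x.a1 * σ x.a2 * x.a8 ^ 3 * σ x.a8 + x.a1 * σ x.a2 * x.a8 * σ x.b8 +
      x.a1 * σ x.a6 * x.a8 * σ x.a8 + x.a1 * σ x.a7 * x.a8 + σ x.a1 * x.a2 * x.a8 ^ 2 * σ x.a8 ^ 2 +
      σ x.a1 * x.a2 * σ x.a8 * σ x.b8 + σ x.a1 * x.a2 * x.b8 ^ 2 + σ x.a1 * x.a6 * x.a8 ^ 2 * σ x.a8 +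
      σ x.a1 * x.a6 * x.a8 * x.b8 + σ x.a1 * x.a6 * σ x.b8 + σ x.a1 * x.a7 * x.a8 * σ x.a8 +
      σ x.a1 * x.a7 * x.b8 + x.a2 * σ x.a2 * x.a8 * x.b8 + x.a2 * σ x.a6 * σ x.a8 + x.a2 * σ x.a7 +
      σ x.a2 * x.a7 * x.a8 + x.b2 * x.a8 ^ 2 * σ x.a8 + x.b2 * x.a8 * x.b8 + x.b2 * σ x.b8 +
      x.a3 * x.a8 * σ x.a8 + x.a3 * x.b8 + x.a4 * x.a6 * x.a8 + x.a4 * x.a7 + x.a5 * x.a8 + x.a6 * σ x.a6 +
      x.b6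
  a7 := x.a1 * x.a8 ^ 2 * σ x.a8 + x.a1 * x.a8 * x.b8 + x.a1 * σ x.b8 + x.a2 * x.a8 * σ x.a8 + x.a2 * x.b8 +
      x.a6 * x.a8 + x.a7
  a8 := x.a8
  b8 := x.a8 * σ x.a8 + x.b8

instance coMul : Mul (Co K) := ⟨mulG σ⟩
instance coInv : Inv (Co K) := ⟨inv⟩
instance coOne : One (Co K) := ⟨⟨0, 0, 0, 0, 0, 0, 0, 0, 0, 0, 0, 0⟩⟩

/-- Conjugation by `n₁` on `R`. -/
def w1 (x : Co K) : Co K := w1G σ x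

/-- Conjugation by `n₂` on `Q`. -/
def w2 (x : Co K) : Co K := w2G σ x

@[simp] theorem mul_a1 (x y : Co K) : (x * y).a1 =
      x.a1 + y.a1 := rfl
@[simp] theorem mul_a2 (x y : Co K) : (x * y).a2 =
      x.a2 + x.a8 * y.a1 + y.a2 := rfl
@[simp] theorem mul_b2 (x y : Co K) : (x * y).b2 =
      x.a2 * σ x.a8 * σ y.a1 + x.a2 * σ y.a2 + x.b2 + x.a4 * y.a1 + x.a6 * σ y.a1 + x.a8 * y.a1 * σ y.a2 +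
      x.b8 * y.a1 * σ y.a1 + y.b2 := rfl
@[simp] theorem mul_a3 (x y : Co K) : (x * y).a3 =
      x.a3 + x.a4 * x.a8 * y.a1 + x.a4 * y.a2 + σ x.a6 * y.a1 + x.a7 * σ y.a1 +
      x.a8 ^ 2 * σ x.a8 * y.a1 * σ y.a1 + x.a8 * x.b8 * y.a1 * σ y.a1 + x.a8 * y.a2 * σ y.a2 + x.a8 * y.b2 +
      x.b8 * σ y.a1 * y.a2 + σ x.b8 * y.a1 * σ y.a1 + y.a3 := rfl
@[simp] theorem mul_a4 (x y : Co K) : (x * y).a4 =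
      x.a4 + x.a8 * σ y.a2 + x.b8 * σ y.a1 + y.a4 := rfl
@[simp] theorem mul_b4 (x y : Co K) : (x * y).b4 =
      x.a4 * σ x.a8 * y.a2 ^ 2 + x.a4 * σ x.b8 * y.a1 ^ 2 + x.a4 * σ y.a4 + x.b4 + x.a5 * x.a8 * y.a1 +
      x.a5 * y.a2 + x.a6 * x.a7 * σ y.a1 + x.a6 * x.a8 ^ 2 * σ x.a8 * y.a1 * σ y.a1 +
      x.a6 * x.a8 * x.b8 * y.a1 * σ y.a1 + x.a6 * x.a8 * y.a2 * σ y.a2 + x.a6 * x.a8 * y.b2 +
      x.a6 * x.b8 * σ y.a1 * y.a2 + x.a6 * σ x.b8 * y.a1 * σ y.a1 + x.a6 * y.a3 + x.b6 * y.a1 +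
      x.a7 * x.a8 * σ x.a8 * y.a1 * σ y.a1 + x.a7 * σ x.a8 * σ y.a1 * y.a2 + x.a7 * x.b8 * y.a1 * σ y.a1 +
      x.a7 * y.a2 * σ y.a2 + x.a7 * y.b2 + σ x.a7 * x.a8 * y.a1 ^ 2 + σ x.a7 * y.a1 * y.a2 +
      x.a8 ^ 3 * σ x.a8 ^ 2 * y.a1 ^ 2 * σ y.a1 + x.a8 ^ 2 * σ x.a8 ^ 2 * y.a1 * σ y.a1 * y.a2 +
      x.a8 * σ x.a8 * σ x.b8 * y.a1 ^ 2 * σ y.a1 + x.a8 * σ x.a8 * y.a1 * y.a3 +
      x.a8 * σ x.a8 * y.a2 ^ 2 * σ y.a2 + x.a8 * σ x.a8 * y.a2 * y.b2 + x.a8 * x.b8 ^ 2 * y.a1 ^ 2 * σ y.a1 +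
      x.a8 * σ y.a2 * σ y.a4 + x.a8 * σ y.a3 + σ x.a8 * x.b8 * σ y.a1 * y.a2 ^ 2 +
      σ x.a8 * σ x.b8 * y.a1 * σ y.a1 * y.a2 + σ x.a8 * y.a2 * y.a3 + x.b8 ^ 2 * y.a1 * σ y.a1 * y.a2 +
      x.b8 * σ x.b8 * y.a1 ^ 2 * σ y.a1 + x.b8 * y.a1 * y.a3 + x.b8 * σ y.a1 * σ y.a4 +
      x.b8 * y.a2 ^ 2 * σ y.a2 + x.b8 * y.a2 * y.b2 + x.b8 * σ y.b2 + σ x.b8 * y.a1 * y.a2 * σ y.a2 +
      σ x.b8 * y.a1 * y.b2 + y.b4 := rfl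
@[simp] theorem mul_a5 (x y : Co K) : (x * y).a5 =
      x.a5 + x.a6 * x.a8 * σ y.a2 + x.a6 * x.b8 * σ y.a1 + x.a6 * y.a4 + x.a7 * σ x.a8 * σ y.a1 +
      x.a7 * σ y.a2 + σ x.a7 * y.a1 + x.a8 ^ 2 * σ x.a8 ^ 2 * y.a1 * σ y.a1 + x.a8 * σ x.a8 * y.a1 * y.a4 +
      x.a8 * σ x.a8 * y.b2 + σ x.a8 * σ x.b8 * y.a1 * σ y.a1 + σ x.a8 * y.a2 * y.a4 + σ x.a8 * y.a3 +
      x.b8 ^ 2 * y.a1 * σ y.a1 + x.b8 * y.a1 * y.a4 + x.b8 * y.b2 + σ x.b8 * y.a1 * σ y.a2 + y.a5 := rfl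
@[simp] theorem mul_a6 (x y : Co K) : (x * y).a6 =
      x.a6 + x.a8 * σ x.a8 * y.a1 + σ x.a8 * y.a2 + x.b8 * y.a1 + y.a6 := rfl
@[simp] theorem mul_b6 (x y : Co K) : (x * y).b6 =
      x.a6 * x.a8 ^ 2 * σ x.a8 * σ y.a1 + x.a6 * x.a8 ^ 2 * σ y.a2 + x.a6 * σ x.b8 * σ y.a1 + x.a6 * σ y.a6 +
      x.b6 + x.a7 * x.a8 * σ y.a2 + x.a7 * x.b8 * σ y.a1 + x.a7 * y.a4 + σ x.a7 * x.a8 * y.a1 + σ x.a7 * y.a2 +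
      x.a8 ^ 3 * σ x.a8 ^ 2 * y.a1 * σ y.a1 + x.a8 ^ 2 * σ x.a8 ^ 2 * σ y.a1 * y.a2 +
      x.a8 ^ 2 * σ x.a8 * y.a1 * y.a4 + x.a8 ^ 2 * σ x.a8 * y.b2 + x.a8 * σ x.a8 * σ x.b8 * y.a1 * σ y.a1 +
      x.a8 * σ x.a8 * y.a1 * σ y.a6 + x.a8 * x.b8 ^ 2 * y.a1 * σ y.a1 + x.a8 * x.b8 * y.a1 * y.a4 +
      x.a8 * x.b8 * y.b2 + x.a8 * σ x.b8 * y.a1 * σ y.a2 + x.a8 * y.a5 + σ x.a8 * σ x.b8 * σ y.a1 * y.a2 +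
      σ x.a8 * y.a2 * σ y.a6 + x.b8 ^ 2 * σ y.a1 * y.a2 + x.b8 * y.a1 * σ y.a6 + x.b8 * y.a2 * y.a4 +
      x.b8 * y.a3 + σ x.b8 * y.a1 * y.a4 + σ x.b8 * y.a2 * σ y.a2 + σ x.b8 * y.b2 + y.b6 := rfl
@[simp] theorem mul_a7 (x y : Co K) : (x * y).a7 =
      x.a7 + x.a8 ^ 2 * σ x.a8 * y.a1 + x.a8 * x.b8 * y.a1 + x.a8 * y.a6 + x.b8 * y.a2 + σ x.b8 * y.a1 + y.a7 := rfl
@[simp] theorem mul_a8 (x y : Co K) : (x * y).a8 =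
      x.a8 + y.a8 := rfl
@[simp] theorem mul_b8 (x y : Co K) : (x * y).b8 =
      x.a8 * σ y.a8 + x.b8 + y.b8 := rfl
@[simp] theorem inv_a1 (x : Co K) : x⁻¹.a1 =
      x.a1 := rfl
@[simp] theorem inv_a2 (x : Co K) : x⁻¹.a2 =
      x.a1 * x.a8 + x.a2 := rfl
@[simp] theorem inv_b2 (x : Co K) : x⁻¹.b2 =
      x.a1 * σ x.a1 * x.a8 * σ x.a8 + x.a1 * σ x.a1 * x.b8 + x.a1 * σ x.a2 * x.a8 + x.a1 * x.a4 +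
      σ x.a1 * x.a6 + x.a2 * σ x.a2 + x.b2 := rfl
@[simp] theorem inv_a3 (x : Co K) : x⁻¹.a3 =
      x.a1 * σ x.a1 * x.a8 ^ 2 * σ x.a8 + x.a1 * σ x.a1 * x.a8 * x.b8 + x.a1 * σ x.a1 * σ x.b8 +
      x.a1 * x.a4 * x.a8 + x.a1 * σ x.a6 + σ x.a1 * x.a2 * x.a8 * σ x.a8 + σ x.a1 * x.a2 * x.b8 +
      σ x.a1 * x.a6 * x.a8 + σ x.a1 * x.a7 + x.a2 * x.a4 + x.b2 * x.a8 + x.a3 := rfl
@[simp] theorem inv_a4 (x : Co K) : x⁻¹.a4 =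
      σ x.a1 * x.a8 * σ x.a8 + σ x.a1 * x.b8 + σ x.a2 * x.a8 + x.a4 := rfl
@[simp] theorem inv_b4 (x : Co K) : x⁻¹.b4 =
      x.a1 ^ 2 * σ x.a1 * x.a8 ^ 2 * σ x.a8 * x.b8 + x.a1 ^ 2 * σ x.a1 * x.a8 * x.b8 ^ 2 +
      x.a1 ^ 2 * σ x.a1 * x.b8 * σ x.b8 + x.a1 ^ 2 * x.a4 * x.a8 ^ 2 * σ x.a8 + x.a1 ^ 2 * x.a4 * σ x.b8 +
      x.a1 ^ 2 * σ x.a6 * x.a8 * σ x.a8 + x.a1 ^ 2 * σ x.a7 * x.a8 +
      x.a1 * σ x.a1 * x.a2 * x.a8 ^ 2 * σ x.a8 ^ 2 + x.a1 * σ x.a1 * x.a2 * σ x.a8 * σ x.b8 +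
      x.a1 * σ x.a1 * x.a2 * x.b8 ^ 2 + x.a1 * σ x.a1 * x.a6 * x.a8 ^ 2 * σ x.a8 +
      x.a1 * σ x.a1 * x.a6 * σ x.b8 + x.a1 * σ x.a1 * x.a7 * x.b8 + x.a1 * x.a2 * σ x.a6 * σ x.a8 +
      x.a1 * x.a2 * σ x.a7 + x.a1 * x.b2 * x.a8 ^ 2 * σ x.a8 + x.a1 * x.b2 * σ x.b8 + x.a1 * x.a3 * x.b8 +
      x.a1 * x.a4 * x.a7 + x.a1 * x.a6 * σ x.a6 + x.a1 * x.b6 + σ x.a1 * x.a2 ^ 2 * x.a8 * σ x.a8 ^ 2 +
      σ x.a1 * x.a2 ^ 2 * σ x.a8 * x.b8 + σ x.a1 * x.a2 * x.a6 * x.b8 + σ x.a1 * x.a2 * x.a7 * σ x.a8 +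
      σ x.a1 * x.a6 ^ 2 * x.a8 + σ x.a1 * x.a6 * x.a7 + x.a2 ^ 2 * σ x.a2 * x.a8 * σ x.a8 +
      x.a2 ^ 2 * σ x.a2 * x.b8 + x.a2 ^ 2 * x.a4 * σ x.a8 + x.a2 * x.b2 * x.b8 + x.a2 * x.a3 * σ x.a8 +
      x.a2 * x.a4 * x.a6 + x.a2 * x.a5 + x.b2 * x.a7 + σ x.b2 * x.a8 * σ x.a8 + σ x.b2 * x.b8 + x.a3 * x.a6 +
      σ x.a3 * x.a8 + x.a4 * σ x.a4 + x.b4 := rfl
@[simp] theorem inv_a5 (x : Co K) : x⁻¹.a5 =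
      x.a1 * σ x.a1 * x.a8 ^ 2 * σ x.a8 ^ 2 + x.a1 * σ x.a1 * σ x.a8 * σ x.b8 + x.a1 * σ x.a1 * x.b8 ^ 2 +
      x.a1 * σ x.a2 * x.a8 ^ 2 * σ x.a8 + x.a1 * σ x.a2 * σ x.b8 + x.a1 * σ x.a6 * σ x.a8 + x.a1 * σ x.a7 +
      σ x.a1 * x.a6 * x.b8 + σ x.a1 * x.a7 * σ x.a8 + x.a2 * σ x.a2 * x.b8 + σ x.a2 * x.a7 + x.b2 * x.b8 +
      x.a3 * σ x.a8 + x.a4 * x.a6 + x.a5 := rfl
@[simp] theorem inv_a6 (x : Co K) : x⁻¹.a6 =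
      x.a1 * x.b8 + x.a2 * σ x.a8 + x.a6 := rfl
@[simp] theorem inv_b6 (x : Co K) : x⁻¹.b6 =
      x.a1 * σ x.a1 * x.a8 ^ 3 * σ x.a8 ^ 2 + x.a1 * σ x.a1 * x.a8 * σ x.a8 * σ x.b8 +
      x.a1 * σ x.a1 * x.a8 * x.b8 ^ 2 + x.a1 * σ x.a2 * x.a8 ^ 3 * σ x.a8 + x.a1 * σ x.a2 * x.a8 * σ x.b8 +
      x.a1 * σ x.a6 * x.a8 * σ x.a8 + x.a1 * σ x.a7 * x.a8 + σ x.a1 * x.a2 * x.a8 ^ 2 * σ x.a8 ^ 2 +
      σ x.a1 * x.a2 * σ x.a8 * σ x.b8 + σ x.a1 * x.a2 * x.b8 ^ 2 + σ x.a1 * x.a6 * x.a8 ^ 2 * σ x.a8 +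
      σ x.a1 * x.a6 * x.a8 * x.b8 + σ x.a1 * x.a6 * σ x.b8 + σ x.a1 * x.a7 * x.a8 * σ x.a8 +
      σ x.a1 * x.a7 * x.b8 + x.a2 * σ x.a2 * x.a8 * x.b8 + x.a2 * σ x.a6 * σ x.a8 + x.a2 * σ x.a7 +
      σ x.a2 * x.a7 * x.a8 + x.b2 * x.a8 ^ 2 * σ x.a8 + x.b2 * x.a8 * x.b8 + x.b2 * σ x.b8 +
      x.a3 * x.a8 * σ x.a8 + x.a3 * x.b8 + x.a4 * x.a6 * x.a8 + x.a4 * x.a7 + x.a5 * x.a8 + x.a6 * σ x.a6 +
      x.b6 := rfl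
@[simp] theorem inv_a7 (x : Co K) : x⁻¹.a7 =
      x.a1 * x.a8 ^ 2 * σ x.a8 + x.a1 * x.a8 * x.b8 + x.a1 * σ x.b8 + x.a2 * x.a8 * σ x.a8 + x.a2 * x.b8 +
      x.a6 * x.a8 + x.a7 := rfl
@[simp] theorem inv_a8 (x : Co K) : x⁻¹.a8 =
      x.a8 := rfl
@[simp] theorem inv_b8 (x : Co K) : x⁻¹.b8 =
      x.a8 * σ x.a8 + x.b8 := rfl
@[simp] theorem one_a1 : (1 : Co K).a1 = 0 := rfl
@[simp] theorem one_a2 : (1 : Co K).a2 = 0 := rfl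
@[simp] theorem one_b2 : (1 : Co K).b2 = 0 := rfl
@[simp] theorem one_a3 : (1 : Co K).a3 = 0 := rfl
@[simp] theorem one_a4 : (1 : Co K).a4 = 0 := rfl
@[simp] theorem one_b4 : (1 : Co K).b4 = 0 := rfl
@[simp] theorem one_a5 : (1 : Co K).a5 = 0 := rfl
@[simp] theorem one_a6 : (1 : Co K).a6 = 0 := rfl
@[simp] theorem one_b6 : (1 : Co K).b6 = 0 := rfl
@[simp] theorem one_a7 : (1 : Co K).a7 = 0 := rfl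
@[simp] theorem one_a8 : (1 : Co K).a8 = 0 := rfl
@[simp] theorem one_b8 : (1 : Co K).b8 = 0 := rfl
@[simp] theorem w1_a1 (x : Co K) : (w1 x).a1 =
      0 := rfl
@[simp] theorem w1_a2 (x : Co K) : (w1 x).a2 =
      x.a8 := rfl
@[simp] theorem w1_b2 (x : Co K) : (w1 x).b2 =
      x.b8 := rfl
@[simp] theorem w1_a3 (x : Co K) : (w1 x).a3 =
      x.a2 * x.a8 * σ x.a8 + x.a2 * x.b8 + x.a6 * x.a8 + x.a7 := rfl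
@[simp] theorem w1_a4 (x : Co K) : (w1 x).a4 =
      x.a2 * σ x.a8 + x.a6 := rfl
@[simp] theorem w1_b4 (x : Co K) : (w1 x).b4 =
      x.a2 * σ x.a2 * x.a8 ^ 2 * σ x.a8 + x.a2 * σ x.a2 * x.a8 * x.b8 + x.a2 * σ x.a7 +
      σ x.a2 * x.a6 * x.a8 ^ 2 + σ x.a2 * x.a7 * x.a8 + x.b2 * x.a8 ^ 2 * σ x.a8 + x.b2 * x.a8 * x.b8 +
      x.b2 * σ x.b8 + x.a3 * x.a8 * σ x.a8 + x.a3 * x.b8 + x.a4 * x.a6 * x.a8 + x.a4 * x.a7 + x.a5 * x.a8 +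
      x.b6 := rfl
@[simp] theorem w1_a5 (x : Co K) : (w1 x).a5 =
      x.a2 * σ x.a2 * x.b8 + σ x.a2 * x.a7 + x.b2 * x.b8 + x.a3 * σ x.a8 + x.a4 * x.a6 + x.a5 := rfl
@[simp] theorem w1_a6 (x : Co K) : (w1 x).a6 =
      σ x.a2 * x.a8 + x.a4 := rfl
@[simp] theorem w1_b6 (x : Co K) : (w1 x).b6 =
      x.a2 ^ 2 * σ x.a2 * x.b8 + x.a2 * x.b2 * x.b8 + x.a2 * x.a3 * σ x.a8 + x.a2 * x.a4 * x.a6 + x.a2 * x.a5 +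
      σ x.a2 * σ x.a4 * x.a8 + x.b2 * x.a7 + σ x.b2 * x.a8 * σ x.a8 + σ x.b2 * x.b8 + x.a3 * x.a6 +
      σ x.a3 * x.a8 + x.b4 := rfl
@[simp] theorem w1_a7 (x : Co K) : (w1 x).a7 =
      x.a2 * x.a4 + x.b2 * x.a8 + x.a3 := rfl
@[simp] theorem w1_a8 (x : Co K) : (w1 x).a8 =
      x.a2 := rfl
@[simp] theorem w1_b8 (x : Co K) : (w1 x).b8 =
      x.b2 := rfl
@[simp] theorem w2_a1 (x : Co K) : (w2 x).a1 =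
      x.a7 := rfl
@[simp] theorem w2_a2 (x : Co K) : (w2 x).a2 =
      x.a6 := rfl
@[simp] theorem w2_b2 (x : Co K) : (w2 x).b2 =
      x.a2 * σ x.a7 + x.a4 * x.a7 + x.b6 := rfl
@[simp] theorem w2_a3 (x : Co K) : (w2 x).a3 =
      x.a1 * σ x.a7 + σ x.a2 * x.a7 + x.a4 * x.a6 + x.a5 := rfl
@[simp] theorem w2_a4 (x : Co K) : (w2 x).a4 =
      x.a4 := rfl
@[simp] theorem w2_b4 (x : Co K) : (w2 x).b4 =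
      x.a1 * x.a2 * σ x.a7 + x.a1 * x.a4 * x.a7 + x.a1 * x.a6 * σ x.a6 + x.a1 * x.b6 + σ x.a1 * x.a6 * x.a7 +
      x.a2 * x.a4 * x.a6 + x.a2 * x.a5 + x.b2 * x.a7 + x.a3 * x.a6 + x.b4 := rfl
@[simp] theorem w2_a5 (x : Co K) : (w2 x).a5 =
      x.a1 * σ x.a6 + σ x.a1 * x.a7 + x.a2 * x.a4 + x.a3 := rfl
@[simp] theorem w2_a6 (x : Co K) : (w2 x).a6 =
      x.a2 := rfl
@[simp] theorem w2_b6 (x : Co K) : (w2 x).b6 =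
      x.a1 * x.a4 + σ x.a1 * x.a6 + x.b2 := rfl
@[simp] theorem w2_a7 (x : Co K) : (w2 x).a7 =
      x.a1 := rfl
@[simp] theorem w2_a8 (x : Co K) : (w2 x).a8 =
      0 := rfl
@[simp] theorem w2_b8 (x : Co K) : (w2 x).b8 =
      0 := rfl

theorem assoc (x y z : Co K) : x * y * z = x * (y * z) := by
  ext <;> simp only [mul_a1, mul_a2, mul_b2, mul_a3, mul_a4, mul_b4, mul_a5, mul_a6, mul_b6, mul_a7, mul_a8, mul_b8, map_add, map_mul, map_pow, σσ] <;> grind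

instance coGroup : Group (Co K) := Group.ofLeftAxioms assoc (fun x => by ext <;> simp) fun x => by
  ext <;> simp only [mul_a1, mul_a2, mul_b2, mul_a3, mul_a4, mul_b4, mul_a5, mul_a6, mul_b6, mul_a7, mul_a8, mul_b8,
    inv_a1, inv_a2, inv_b2, inv_a3, inv_a4, inv_b4, inv_a5, inv_a6, inv_b6, inv_a7, inv_a8, inv_b8,
    one_a1, one_a2, one_b2, one_a3, one_a4, one_b4, one_a5, one_a6, one_b6, one_a7, one_a8, one_b8,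
    map_add, map_mul, map_pow, σσ] <;> grind

/-- A root element. -/
def x1 (s : K) : Co K := ⟨s, 0, 0, 0, 0, 0, 0, 0, 0, 0, 0, 0⟩
@[simp] theorem x1_a1 (s : K) : (x1 s).a1 = s := rfl
@[simp] theorem x1_a2 (s : K) : (x1 s).a2 = 0 := rfl
@[simp] theorem x1_b2 (s : K) : (x1 s).b2 = 0 := rfl
@[simp] theorem x1_a3 (s : K) : (x1 s).a3 = 0 := rfl
@[simp] theorem x1_a4 (s : K) : (x1 s).a4 = 0 := rfl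
@[simp] theorem x1_b4 (s : K) : (x1 s).b4 = 0 := rfl
@[simp] theorem x1_a5 (s : K) : (x1 s).a5 = 0 := rfl
@[simp] theorem x1_a6 (s : K) : (x1 s).a6 = 0 := rfl
@[simp] theorem x1_b6 (s : K) : (x1 s).b6 = 0 := rfl
@[simp] theorem x1_a7 (s : K) : (x1 s).a7 = 0 := rfl
@[simp] theorem x1_a8 (s : K) : (x1 s).a8 = 0 := rfl
@[simp] theorem x1_b8 (s : K) : (x1 s).b8 = 0 := rfl
/-- A root element. -/
def y2 (s u : K) : Co K := ⟨0, s, u, 0, 0, 0, 0, 0, 0, 0, 0, 0⟩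
@[simp] theorem y2_a1 (s u : K) : (y2 s u).a1 = 0 := rfl
@[simp] theorem y2_a2 (s u : K) : (y2 s u).a2 = s := rfl
@[simp] theorem y2_b2 (s u : K) : (y2 s u).b2 = u := rfl
@[simp] theorem y2_a3 (s u : K) : (y2 s u).a3 = 0 := rfl
@[simp] theorem y2_a4 (s u : K) : (y2 s u).a4 = 0 := rfl
@[simp] theorem y2_b4 (s u : K) : (y2 s u).b4 = 0 := rfl
@[simp] theorem y2_a5 (s u : K) : (y2 s u).a5 = 0 := rfl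
@[simp] theorem y2_a6 (s u : K) : (y2 s u).a6 = 0 := rfl
@[simp] theorem y2_b6 (s u : K) : (y2 s u).b6 = 0 := rfl
@[simp] theorem y2_a7 (s u : K) : (y2 s u).a7 = 0 := rfl
@[simp] theorem y2_a8 (s u : K) : (y2 s u).a8 = 0 := rfl
@[simp] theorem y2_b8 (s u : K) : (y2 s u).b8 = 0 := rfl
/-- A root element. -/
def x3 (s : K) : Co K := ⟨0, 0, 0, s, 0, 0, 0, 0, 0, 0, 0, 0⟩
@[simp] theorem x3_a1 (s : K) : (x3 s).a1 = 0 := rfl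
@[simp] theorem x3_a2 (s : K) : (x3 s).a2 = 0 := rfl
@[simp] theorem x3_b2 (s : K) : (x3 s).b2 = 0 := rfl
@[simp] theorem x3_a3 (s : K) : (x3 s).a3 = s := rfl
@[simp] theorem x3_a4 (s : K) : (x3 s).a4 = 0 := rfl
@[simp] theorem x3_b4 (s : K) : (x3 s).b4 = 0 := rfl
@[simp] theorem x3_a5 (s : K) : (x3 s).a5 = 0 := rfl
@[simp] theorem x3_a6 (s : K) : (x3 s).a6 = 0 := rfl
@[simp] theorem x3_b6 (s : K) : (x3 s).b6 = 0 := rfl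
@[simp] theorem x3_a7 (s : K) : (x3 s).a7 = 0 := rfl
@[simp] theorem x3_a8 (s : K) : (x3 s).a8 = 0 := rfl
@[simp] theorem x3_b8 (s : K) : (x3 s).b8 = 0 := rfl
/-- A root element. -/
def y4 (s u : K) : Co K := ⟨0, 0, 0, 0, s, u, 0, 0, 0, 0, 0, 0⟩
@[simp] theorem y4_a1 (s u : K) : (y4 s u).a1 = 0 := rfl
@[simp] theorem y4_a2 (s u : K) : (y4 s u).a2 = 0 := rfl
@[simp] theorem y4_b2 (s u : K) : (y4 s u).b2 = 0 := rfl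
@[simp] theorem y4_a3 (s u : K) : (y4 s u).a3 = 0 := rfl
@[simp] theorem y4_a4 (s u : K) : (y4 s u).a4 = s := rfl
@[simp] theorem y4_b4 (s u : K) : (y4 s u).b4 = u := rfl
@[simp] theorem y4_a5 (s u : K) : (y4 s u).a5 = 0 := rfl
@[simp] theorem y4_a6 (s u : K) : (y4 s u).a6 = 0 := rfl
@[simp] theorem y4_b6 (s u : K) : (y4 s u).b6 = 0 := rfl
@[simp] theorem y4_a7 (s u : K) : (y4 s u).a7 = 0 := rfl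
@[simp] theorem y4_a8 (s u : K) : (y4 s u).a8 = 0 := rfl
@[simp] theorem y4_b8 (s u : K) : (y4 s u).b8 = 0 := rfl
/-- A root element. -/
def x5 (s : K) : Co K := ⟨0, 0, 0, 0, 0, 0, s, 0, 0, 0, 0, 0⟩
@[simp] theorem x5_a1 (s : K) : (x5 s).a1 = 0 := rfl
@[simp] theorem x5_a2 (s : K) : (x5 s).a2 = 0 := rfl
@[simp] theorem x5_b2 (s : K) : (x5 s).b2 = 0 := rfl
@[simp] theorem x5_a3 (s : K) : (x5 s).a3 = 0 := rfl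
@[simp] theorem x5_a4 (s : K) : (x5 s).a4 = 0 := rfl
@[simp] theorem x5_b4 (s : K) : (x5 s).b4 = 0 := rfl
@[simp] theorem x5_a5 (s : K) : (x5 s).a5 = s := rfl
@[simp] theorem x5_a6 (s : K) : (x5 s).a6 = 0 := rfl
@[simp] theorem x5_b6 (s : K) : (x5 s).b6 = 0 := rfl
@[simp] theorem x5_a7 (s : K) : (x5 s).a7 = 0 := rfl
@[simp] theorem x5_a8 (s : K) : (x5 s).a8 = 0 := rfl
@[simp] theorem x5_b8 (s : K) : (x5 s).b8 = 0 := rfl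
/-- A root element. -/
def y6 (s u : K) : Co K := ⟨0, 0, 0, 0, 0, 0, 0, s, u, 0, 0, 0⟩
@[simp] theorem y6_a1 (s u : K) : (y6 s u).a1 = 0 := rfl
@[simp] theorem y6_a2 (s u : K) : (y6 s u).a2 = 0 := rfl
@[simp] theorem y6_b2 (s u : K) : (y6 s u).b2 = 0 := rfl
@[simp] theorem y6_a3 (s u : K) : (y6 s u).a3 = 0 := rfl
@[simp] theorem y6_a4 (s u : K) : (y6 s u).a4 = 0 := rfl
@[simp] theorem y6_b4 (s u : K) : (y6 s u).b4 = 0 := rfl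
@[simp] theorem y6_a5 (s u : K) : (y6 s u).a5 = 0 := rfl
@[simp] theorem y6_a6 (s u : K) : (y6 s u).a6 = s := rfl
@[simp] theorem y6_b6 (s u : K) : (y6 s u).b6 = u := rfl
@[simp] theorem y6_a7 (s u : K) : (y6 s u).a7 = 0 := rfl
@[simp] theorem y6_a8 (s u : K) : (y6 s u).a8 = 0 := rfl
@[simp] theorem y6_b8 (s u : K) : (y6 s u).b8 = 0 := rfl
/-- A root element. -/
def x7 (s : K) : Co K := ⟨0, 0, 0, 0, 0, 0, 0, 0, 0, s, 0, 0⟩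
@[simp] theorem x7_a1 (s : K) : (x7 s).a1 = 0 := rfl
@[simp] theorem x7_a2 (s : K) : (x7 s).a2 = 0 := rfl
@[simp] theorem x7_b2 (s : K) : (x7 s).b2 = 0 := rfl
@[simp] theorem x7_a3 (s : K) : (x7 s).a3 = 0 := rfl
@[simp] theorem x7_a4 (s : K) : (x7 s).a4 = 0 := rfl
@[simp] theorem x7_b4 (s : K) : (x7 s).b4 = 0 := rfl
@[simp] theorem x7_a5 (s : K) : (x7 s).a5 = 0 := rfl
@[simp] theorem x7_a6 (s : K) : (x7 s).a6 = 0 := rfl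
@[simp] theorem x7_b6 (s : K) : (x7 s).b6 = 0 := rfl
@[simp] theorem x7_a7 (s : K) : (x7 s).a7 = s := rfl
@[simp] theorem x7_a8 (s : K) : (x7 s).a8 = 0 := rfl
@[simp] theorem x7_b8 (s : K) : (x7 s).b8 = 0 := rfl
/-- A root element. -/
def y8 (s u : K) : Co K := ⟨0, 0, 0, 0, 0, 0, 0, 0, 0, 0, s, u⟩
@[simp] theorem y8_a1 (s u : K) : (y8 s u).a1 = 0 := rfl
@[simp] theorem y8_a2 (s u : K) : (y8 s u).a2 = 0 := rfl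
@[simp] theorem y8_b2 (s u : K) : (y8 s u).b2 = 0 := rfl
@[simp] theorem y8_a3 (s u : K) : (y8 s u).a3 = 0 := rfl
@[simp] theorem y8_a4 (s u : K) : (y8 s u).a4 = 0 := rfl
@[simp] theorem y8_b4 (s u : K) : (y8 s u).b4 = 0 := rfl
@[simp] theorem y8_a5 (s u : K) : (y8 s u).a5 = 0 := rfl
@[simp] theorem y8_a6 (s u : K) : (y8 s u).a6 = 0 := rfl
@[simp] theorem y8_b6 (s u : K) : (y8 s u).b6 = 0 := rfl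
@[simp] theorem y8_a7 (s u : K) : (y8 s u).a7 = 0 := rfl
@[simp] theorem y8_a8 (s u : K) : (y8 s u).a8 = s := rfl
@[simp] theorem y8_b8 (s u : K) : (y8 s u).b8 = u := rfl

theorem eq_prod (x : Co K) : x = x1 x.a1 * y2 x.a2 x.b2 * x3 x.a3 * y4 x.a4 x.b4 * x5 x.a5 *
    y6 x.a6 x.b6 * x7 x.a7 * y8 x.a8 x.b8 := by
  have h1 : x1 x.a1 * y2 x.a2 x.b2 * x3 x.a3 * y4 x.a4 x.b4 =
      ⟨x.a1, x.a2, x.b2, x.a3, x.a4, x.b4, 0, 0, 0, 0, 0, 0⟩ := by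
    rw [show x1 x.a1 * y2 x.a2 x.b2 = ⟨x.a1, x.a2, x.b2, 0, 0, 0, 0, 0, 0, 0, 0, 0⟩ by ext <;> simp,
      show _ * x3 x.a3 = ⟨x.a1, x.a2, x.b2, x.a3, 0, 0, 0, 0, 0, 0, 0, 0⟩ by ext <;> simp]
    ext <;> simp
  rw [h1, show _ * x5 x.a5 = ⟨x.a1, x.a2, x.b2, x.a3, x.a4, x.b4, x.a5, 0, 0, 0, 0, 0⟩ by ext <;> simp,
    show _ * y6 x.a6 x.b6 = ⟨x.a1, x.a2, x.b2, x.a3, x.a4, x.b4, x.a5, x.a6, x.b6, 0, 0, 0⟩ by ext <;> simp,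
    show _ * x7 x.a7 = ⟨x.a1, x.a2, x.b2, x.a3, x.a4, x.b4, x.a5, x.a6, x.b6, x.a7, 0, 0⟩ by ext <;> simp]
  ext <;> simp

/-- `R = U₂ ⋯ U₈`. -/
def R : Subgroup (Co K) where
  carrier := {x | x.a1 = 0}
  mul_mem' := fun ha hb => by simp_all
  one_mem' := by simp
  inv_mem' := fun ha => by simp_all

@[simp] theorem mem_R {x : Co K} : x ∈ (R : Subgroup (Co K)) ↔
    x.a1 = 0 := Iff.rfl

/-- `Q = U₁ ⋯ U₇`. -/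
def Q : Subgroup (Co K) where
  carrier := {x | x.a8 = 0 ∧ x.b8 = 0}
  mul_mem' := fun ha hb => by simp_all
  one_mem' := by simp
  inv_mem' := fun ha => by simp_all

@[simp] theorem mem_Q {x : Co K} : x ∈ (Q : Subgroup (Co K)) ↔
    x.a8 = 0 ∧ x.b8 = 0 := Iff.rfl

/-- `F = E U₄`. -/
def F : Subgroup (Co K) where
  carrier := {x | x.a1 = 0 ∧ x.a2 = 0 ∧ x.a6 = 0 ∧ x.a7 = 0 ∧ x.a8 = 0 ∧ x.b8 = 0}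
  mul_mem' := fun ha hb => by simp_all
  one_mem' := by simp
  inv_mem' := fun ha => by simp_all

@[simp] theorem mem_F {x : Co K} : x ∈ (F : Subgroup (Co K)) ↔
    x.a1 = 0 ∧ x.a2 = 0 ∧ x.a6 = 0 ∧ x.a7 = 0 ∧ x.a8 = 0 ∧ x.b8 = 0 := Iff.rfl

/-- `E = Z₂ U₃ Z₄ U₅ Z₆`. -/
def E : Subgroup (Co K) where
  carrier := {x | x.a1 = 0 ∧ x.a2 = 0 ∧ x.a4 = 0 ∧ x.a6 = 0 ∧ x.a7 = 0 ∧ x.a8 = 0 ∧ x.b8 = 0}
  mul_mem' := fun ha hb => by simp_all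
  one_mem' := by simp
  inv_mem' := fun ha => by simp_all

@[simp] theorem mem_E {x : Co K} : x ∈ (E : Subgroup (Co K)) ↔
    x.a1 = 0 ∧ x.a2 = 0 ∧ x.a4 = 0 ∧ x.a6 = 0 ∧ x.a7 = 0 ∧ x.a8 = 0 ∧ x.b8 = 0 := Iff.rfl

/-- `V = Z₄ Z₆`. -/
def V : Subgroup (Co K) where
  carrier := {x | x.a1 = 0 ∧ x.a2 = 0 ∧ x.b2 = 0 ∧ x.a3 = 0 ∧ x.a4 = 0 ∧ x.a5 = 0 ∧ x.a6 = 0 ∧ x.a7 = 0 ∧ x.a8 = 0 ∧ x.b8 = 0}
  mul_mem' := fun ha hb => by simp_all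
  one_mem' := by simp
  inv_mem' := fun ha => by simp_all

@[simp] theorem mem_V {x : Co K} : x ∈ (V : Subgroup (Co K)) ↔
    x.a1 = 0 ∧ x.a2 = 0 ∧ x.b2 = 0 ∧ x.a3 = 0 ∧ x.a4 = 0 ∧ x.a5 = 0 ∧ x.a6 = 0 ∧ x.a7 = 0 ∧ x.a8 = 0 ∧ x.b8 = 0 := Iff.rfl

/-- `Z = Z₄`. -/
def Z : Subgroup (Co K) where
  carrier := {x | x.a1 = 0 ∧ x.a2 = 0 ∧ x.b2 = 0 ∧ x.a3 = 0 ∧ x.a4 = 0 ∧ x.a5 = 0 ∧ x.a6 = 0 ∧ x.b6 = 0 ∧ x.a7 = 0 ∧ x.a8 = 0 ∧ x.b8 = 0}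
  mul_mem' := fun ha hb => by simp_all
  one_mem' := by simp
  inv_mem' := fun ha => by simp_all

@[simp] theorem mem_Z {x : Co K} : x ∈ (Z : Subgroup (Co K)) ↔
    x.a1 = 0 ∧ x.a2 = 0 ∧ x.b2 = 0 ∧ x.a3 = 0 ∧ x.a4 = 0 ∧ x.a5 = 0 ∧ x.a6 = 0 ∧ x.b6 = 0 ∧ x.a7 = 0 ∧ x.a8 = 0 ∧ x.b8 = 0 := Iff.rfl

/-- The action of the torus element with `β₄ = c`, `β₆ = k`. -/
def tor (c k : Kˣ) : Co K →* Co K where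
  toFun x := ⟨(c : K) * σ (c : K) * ((k : K) * σ (k : K))⁻¹ * x.a1,
    σ (c : K) * (k : K)⁻¹ * x.a2,
    (c : K) ^ 2 * σ (c : K) * ((k : K) * σ (k : K))⁻¹ * x.b2,
    (c : K) * σ (c : K) * (k : K)⁻¹ * x.a3,
    (c : K) * x.a4,
    (c : K) * σ (c : K) * x.b4,
    (c : K) * (k : K) * x.a5,
    (k : K) * x.a6,
    (k : K) * σ (k : K) * x.b6,
    (k : K) * σ (k : K) * (c : K)⁻¹ * x.a7,
    σ (k : K) * (c : K)⁻¹ * x.a8,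
    (k : K) ^ 2 * σ (k : K) * ((c : K) * σ (c : K))⁻¹ * x.b8⟩
  map_one' := by ext <;> simp
  map_mul' x y := by
    have := c.ne_zero
    have := k.ne_zero
    have := σ_ne c.ne_zero
    have := σ_ne k.ne_zero
    ext <;> simp only [mul_a1, mul_a2, mul_b2, mul_a3, mul_a4, mul_b4, mul_a5, mul_a6, mul_b6, mul_a7, mul_a8, mul_b8, map_add, map_mul, map_pow, map_inv₀, σσ] <;> field_simp

@[simp] theorem tor_a1 (c k : Kˣ) (x : Co K) : (tor c k x).a1 = (c : K) * σ (c : K) * ((k : K) * σ (k : K))⁻¹ * x.a1 := rfl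
@[simp] theorem tor_a2 (c k : Kˣ) (x : Co K) : (tor c k x).a2 = σ (c : K) * (k : K)⁻¹ * x.a2 := rfl
@[simp] theorem tor_b2 (c k : Kˣ) (x : Co K) : (tor c k x).b2 = (c : K) ^ 2 * σ (c : K) * ((k : K) * σ (k : K))⁻¹ * x.b2 := rfl
@[simp] theorem tor_a3 (c k : Kˣ) (x : Co K) : (tor c k x).a3 = (c : K) * σ (c : K) * (k : K)⁻¹ * x.a3 := rfl
@[simp] theorem tor_a4 (c k : Kˣ) (x : Co K) : (tor c k x).a4 = (c : K) * x.a4 := rfl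
@[simp] theorem tor_b4 (c k : Kˣ) (x : Co K) : (tor c k x).b4 = (c : K) * σ (c : K) * x.b4 := rfl
@[simp] theorem tor_a5 (c k : Kˣ) (x : Co K) : (tor c k x).a5 = (c : K) * (k : K) * x.a5 := rfl
@[simp] theorem tor_a6 (c k : Kˣ) (x : Co K) : (tor c k x).a6 = (k : K) * x.a6 := rfl
@[simp] theorem tor_b6 (c k : Kˣ) (x : Co K) : (tor c k x).b6 = (k : K) * σ (k : K) * x.b6 := rfl
@[simp] theorem tor_a7 (c k : Kˣ) (x : Co K) : (tor c k x).a7 = (k : K) * σ (k : K) * (c : K)⁻¹ * x.a7 := rfl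
@[simp] theorem tor_a8 (c k : Kˣ) (x : Co K) : (tor c k x).a8 = σ (k : K) * (c : K)⁻¹ * x.a8 := rfl
@[simp] theorem tor_b8 (c k : Kˣ) (x : Co K) : (tor c k x).b8 = (k : K) ^ 2 * σ (k : K) * ((c : K) * σ (c : K))⁻¹ * x.b8 := rfl

theorem tor_one (x : Co K) : tor 1 1 x = x := by ext <;> simp

theorem tor_tor (c k c' k' : Kˣ) (x : Co K) : tor c k (tor c' k' x) = tor (c * c') (k * k') x := by
  ext <;> simp <;> ring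

theorem w1_mul {x y : Co K} (hx : x ∈ R) (hy : y ∈ R) : w1 (x * y) = w1 x * w1 y := by
  rw [mem_R] at hx hy
  ext <;> simp [hx, hy] <;> grind

theorem w1_w1 {x : Co K} (hx : x ∈ R) : w1 (w1 x) = x := by
  rw [mem_R] at hx
  ext <;> simp [hx] <;> grind

theorem w1_mem (x : Co K) : w1 x ∈ R := by simp

theorem w2_mul {x y : Co K} (hx : x ∈ Q) (hy : y ∈ Q) : w2 (x * y) = w2 x * w2 y := by
  rw [mem_Q] at hx hy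
  ext <;> simp [hx, hy] <;> grind

theorem w2_w2 {x : Co K} (hx : x ∈ Q) : w2 (w2 x) = x := by
  rw [mem_Q] at hx
  ext <;> simp [hx] <;> grind

theorem w2_mem (x : Co K) : w2 x ∈ Q := by simp

theorem w1_tor (c k : Kˣ) (x : Co K) : w1 (tor c k x) = tor k c (w1 x) := by
  have := c.ne_zero
  have := k.ne_zero
  have := σ_ne c.ne_zero
  have := σ_ne k.ne_zero
  ext <;> simp <;> field_simp

/-- Coordinates as a function. -/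
def equivFun (K : Type*) : Co K ≃ (Fin 12 → K) where
  toFun x := ![x.a1, x.a2, x.b2, x.a3, x.a4, x.b4, x.a5, x.a6, x.b6, x.a7, x.a8, x.b8]
  invFun v := ⟨v 0, v 1, v 2, v 3, v 4, v 5, v 6, v 7, v 8, v 9, v 10, v 11⟩
  left_inv _ := rfl
  right_inv v := by ext i; fin_cases i <;> rfl

instance coFinite [Finite K] : Finite (Co K) := .of_equiv _ (equivFun K).symm

theorem card_co [Finite K] : Nat.card (Co K) = Nat.card K ^ 12 := by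
  rw [Nat.card_congr (equivFun K), Nat.card_fun, Nat.card_eq_fintype_card (α := Fin 12), Fintype.card_fin]

theorem pow_16 (x : Co K) : x ^ 16 = 1 := by
  have h1 : ∀ x : Co K, (x * x).a8 = 0 ∧ (x * x).a1 = 0 := fun x => by simp [CharTwo.add_self_eq_zero]
  have h2 : ∀ x : Co K, x.a8 = 0 ∧ x.a1 = 0 → x * x ∈ Q ∧ (x * x).a1 = 0 ∧ (x * x).a2 = 0 ∧
      (x * x).a4 = 0 ∧ (x * x).a6 = 0 := fun x h => by simp [h, CharTwo.add_self_eq_zero]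
  have h3 : ∀ x : Co K, x ∈ Q ∧ x.a1 = 0 ∧ x.a2 = 0 ∧ x.a4 = 0 ∧ x.a6 = 0 → x * x ∈ Z := fun x h => by
    simp_all [CharTwo.add_self_eq_zero]
  have h4 : ∀ x : Co K, x ∈ Z → x * x = 1 := fun x h => by ext <;> simp_all [CharTwo.add_self_eq_zero]
  rw [← h4 _ (h3 _ (h2 _ (h1 x)))]
  simp only [← pow_two, ← pow_mul]
  norm_num

theorem isPGroup : IsPGroup 2 (Co K) := fun x => ⟨4, pow_16 x⟩

end Co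

theorem auto_lemmas_co : True := by
  have := @mulG.eq_1.{0}
  have := @w1G.eq_1.{0}
  have := @w2G.eq_1.{0}
  have := @σu.eq_1.{0}
  have := @Co.inv.eq_1.{0}
  have := @Co.w1.eq_1.{0}
  have := @Co.w2.eq_1.{0}
  have := @Co.x1.eq_1.{0}
  have := @Co.y2.eq_1.{0}
  have := @Co.x3.eq_1.{0}
  have := @Co.y4.eq_1.{0}
  have := @Co.x5.eq_1.{0}
  have := @Co.y6.eq_1.{0}
  have := @Co.x7.eq_1.{0}
  have := @Co.y8.eq_1.{0}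
  have := @Co.R.eq_1.{0}
  have := @Co.Q.eq_1.{0}
  have := @Co.F.eq_1.{0}
  have := @Co.E.eq_1.{0}
  have := @Co.V.eq_1.{0}
  have := @Co.Z.eq_1.{0}
  have := @Co.tor.eq_1.{0}
  have := @Co.equivFun.eq_1.{0}
  trivial

end H78.Oct
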