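import Mathlib
import Cfsg.Agent.Lib.Oct.Co

/-!
# The large Ree groups and the centralizer of a 2-central involution: interfaces (helper78)
-/

set_option autoImplicit false
set_option linter.unusedSectionVars false

namespace H78.Oct

open Co

/-- The group `²F₄(q)`: Sylow 2-subgroup `nf`, Weyl elements `n1`, `n2`, torus `h`. -/
structure Oct (K Γ : Type*) [Field K] [Tits K] [Group Γ] where
  /-- normal forms -/
  nf : Co K →* Γ
  inj : Function.Injective nf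
  /-- the reflection in `U₁` -/
  n1 : Γ
  /-- the reflection in `U₈` -/
  n2 : Γ
  n11 : n1 * n1 = 1
  n22 : n2 * n2 = 1
  rho : (n1 * n2) ^ 8 = 1
  n1_nf : ∀ a ∈ R, n1 * nf a * n1 = nf (w1 a)
  n2_nf : ∀ a ∈ Q, n2 * nf a * n2 = nf (w2 a)
  /-- the torus -/
  h : Kˣ × Kˣ →* Γ
  h_nf : ∀ c k a, h (c, k) * nf a * (h (c, k))⁻¹ = nf (tor c k a)
  n1_h : ∀ c k, n1 * h (c, k) * n1 = h (k, c)
  n2_h : ∀ c k, n2 * h (c, k) * n2 = h (c, σu c * k⁻¹)
  sl2 : ∀ s, s ≠ 0 → ∃ a b x, n1 * nf (x1 s) * n1 = nf (x1 a) * h x * n1 * nf (x1 b)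
  n1_eq : n1 = nf (x1 1) * (n1 * nf (x1 1) * n1) * nf (x1 1)
  sz : ∀ t v, ¬ (t = 0 ∧ v = 0) →
    ∃ a b a' b' x, n2 * nf (y8 t v) * n2 = nf (y8 a b) * h x * n2 * nf (y8 a' b')
  opp : ∀ a b, (n1 * n2) ^ 4 * nf a * (n1 * n2) ^ 4 = nf b → a = 1
  gen : ∀ X : Subgroup Γ, (∀ a, nf a ∈ X) → n1 ∈ X → n2 ∈ X → X = ⊤

/-- The centralizer `C = Q : Sz(q)` of a 2-central involution of `²F₄(q)`; `T` is the action of the
maximal torus, `d k` induces `T (1, k)`. -/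
structure Par (K C : Type*) [Field K] [Tits K] [Group C] where
  /-- normal forms -/
  nf : Co K →* C
  inj : Function.Injective nf
  /-- the reflection in `U₈` -/
  n : C
  nn : n * n = 1
  n_nf : ∀ a ∈ Q, n * nf a * n = nf (w2 a)
  n_y8 : ∀ t v a, n * nf (y8 t v) * n = nf a → t = 0 ∧ v = 0
  /-- the torus of the Suzuki group -/
  d : Kˣ →* C
  /-- the action of the full torus -/
  T : Kˣ × Kˣ →* MulAut C
  T_nf : ∀ c k a, T (c, k) (nf a) = nf (tor c k a)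
  T_d : ∀ x k, T x (d k) = d k
  T_n : ∀ c k, T (c, k) n = d (k ^ 2 * (σu c)⁻¹) * n
  d_conj : ∀ k x, d k * x * (d k)⁻¹ = T (1, k) x
  bruhat : ∀ c, (∃ a k, c = nf a * d k) ∨ ∃ a k t v, c = nf a * d k * n * nf (y8 t v)

variable {K C G : Type*} [Field K] [Tits K] [Group C] [Group G]

/-- The 2-central involution. -/
def Par.z (P : Par K C) : C := P.nf (y4 0 1)

/-- The 2-central involution. -/
def Oct.z {Γ : Type*} [Group Γ] (O : Oct K Γ) : Γ := O.nf (y4 0 1)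

/-- `P` describes the centralizer of `O.z`. -/
structure Oct.Cen {Γ : Type*} [Group Γ] (O : Oct K Γ)
    (P : Par K (Subgroup.centralizer ({O.z} : Set Γ))) : Prop where
  nf : ∀ a, (P.nf a : Γ) = O.nf a
  n : (P.n : Γ) = O.n2
  d : ∀ k, (P.d k : Γ) = O.h (1, k)
  T : ∀ x c, (P.T x c : Γ) = O.h x * c * (O.h x)⁻¹

/-- `g` normalises the image of `ι`. -/
def Nm (ι : C →* G) (g : G) : Prop := ∀ c, ∃ c', g * ι c * g⁻¹ = ι c'

/-- The hypothesis on `G`: `ι C` is normal of odd index in the centralizer of `τ = ι P.z`. -/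
structure Hyp (P : Par K C) (ι : C →* G) : Prop where
  inj : Function.Injective ι
  odd : Odd ι.range.index
  norm : ∀ g, Commute g (ι P.z) → Nm ι g
  core : ∀ g, (∀ a ∈ Q, Commute g (ι (P.nf a))) → Odd (orderOf g) → g = 1

/-- `n` interchanges `Z₄` and `Z₆`. -/
structure Sw (P : Par K C) (ι : C →* G) (n : G) : Prop where
  z4 : ∀ t, n * ι (P.nf (y4 0 t)) * n⁻¹ = ι (P.nf (y6 0 t))
  z6 : ∀ t, n * ι (P.nf (y6 0 t)) * n⁻¹ = ι (P.nf (y4 0 t))
  sq : ∃ r ∈ R, n * n = ι (P.nf r)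
  gen : n ∈ ι.range ⊔ ι.range.map (MulAut.conj n).toMonoidHom

/-- `n` interchanges generators of the two rank one tori. -/
structure Tor (P : Par K C) (ι : C →* G) (n : G) (k : Kˣ) : Prop where
  gen : ∀ j, j ∈ Subgroup.zpowers k
  back : n * (n * ι (P.d k) * n⁻¹) * n⁻¹ = ι (P.d k)
  act : ∀ c, n * ι (P.d k) * n⁻¹ * ι c * (n * ι (P.d k) * n⁻¹)⁻¹ = ι (P.T (k, 1) c)

/-- A frame: the second parabolic subgroup and the torus. -/
structure Fr (P : Par K C) (ι : C →* G) (n : G) (θ : Kˣ × Kˣ →* G) : Prop where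
  nn : n * n = 1
  n_nf : ∀ a ∈ R, n * ι (P.nf a) * n = ι (P.nf (w1 a))
  θ_d : ∀ k, θ (1, k) = ι (P.d k)
  θ_conj : ∀ x c, θ x * ι c * (θ x)⁻¹ = ι (P.T x c)
  n_θ : ∀ c k, n * θ (c, k) * n = θ (k, c)
  gen : n ∈ ι.range ⊔ ι.range.map (MulAut.conj n).toMonoidHom

theorem auto_lemmas_defs : True := by
  have := @Par.z.eq_1.{0, 0}
  have := @Oct.z.eq_1.{0, 0}
  have := @Nm.eq_1.{0, 0}
  trivial

end H78.Oct
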