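import Mathlib
import Cfsg.Agent.Lib.Oct.Defs

/-!
# The group C: normal subgroups, Sylow subgroup, centralizers
-/

set_option autoImplicit false
set_option linter.unusedSectionVars false

namespace H78.Oct

open Co

variable {K C : Type*} [Field K] [Tits K] [Finite K] [Group C] [Finite C]

theorem odd_unit (k : Kˣ) : Odd (orderOf k) := Nat.not_even_iff_odd.1 fun h => by
  have o := orderOf_pow_orderOf_div (orderOf_pos k).ne' h.two_dvd
  generalize k ^ (orderOf k / 2) = j at o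
  have e : (j : K) * j = 1 := by rw [← Units.val_mul, ← pow_two, ← o, pow_orderOf_eq_one, Units.val_one]
  rw [mul_self_eq_one_iff, CharTwo.neg_eq, or_self, Units.val_eq_one] at e
  simp [e] at o

theorem PA_eq_one {H : Type*} [Group H] {x : H} {j : ℕ} (h : x ^ 2 ^ j = 1) (o : Odd (orderOf x)) : x = 1 :=
  orderOf_eq_one_iff.1 (Nat.eq_one_of_dvd_coprimes (Nat.Coprime.pow_right j (Nat.coprime_two_right.2 o)) dvd_rfl
    (orderOf_dvd_of_pow_eq_one h))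

theorem PA_Q {a b c : Co K} (ha : a ∈ Q) (h : b * c = c * a) : b ∈ Q := by
  rw [mem_Q] at ha ⊢
  have h1 := congrArg Co.a8 h
  have h2 := congrArg Co.b8 h
  simp only [mul_a8, mul_b8, ha, map_zero] at h1 h2
  grind

theorem PA_F {a b c : Co K} (ha : a ∈ F) (h : b * c = c * a) : b ∈ F ∧ b.a4 = a.a4 := by
  rw [mem_F] at ha ⊢
  obtain ⟨e8, f8⟩ := PA_Q ⟨ha.2.2.2.2.1, ha.2.2.2.2.2⟩ h
  have h1 := congrArg Co.a1 h
  have h2 := congrArg Co.a2 h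
  have h3 := congrArg Co.a4 h
  have h4 := congrArg Co.a6 h
  have h5 := congrArg Co.a7 h
  simp only [mul_a1, mul_a2, mul_a4, mul_a6, mul_a7, ha, e8, f8, map_zero] at h1 h2 h3 h4 h5
  grind

theorem PA_E {a b c : Co K} (ha : a ∈ E) (h : b * c = c * a) : b ∈ E ∧ b.b2 = a.b2 ∧ (a.b2 = 0 → b.a3 = a.a3) := by
  rw [mem_E] at ha ⊢
  obtain ⟨⟨e1, e2, e6, e7, e8, f8⟩, e4⟩ := PA_F ⟨ha.1, ha.2.1, ha.2.2.2⟩ h
  rw [ha.2.2.1] at e4
  have h1 := congrArg Co.b2 h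
  have h2 := congrArg Co.a3 h
  simp only [mul_b2, mul_a3, ha, e2, e4, e6, e7, e8, f8, map_zero] at h1 h2
  grind

theorem PA_comm {a b f : Co K} (ha : a ∈ Q) (hb : b ∈ Q) (h : b * a * f = a * b) : f ∈ E := by
  rw [mem_Q] at ha hb
  have h8 := congrArg Co.a8 h
  have h9 := congrArg Co.b8 h
  have h1 := congrArg Co.a1 h
  have h2 := congrArg Co.a2 h
  have h3 := congrArg Co.a4 h
  have h4 := congrArg Co.a6 h
  have h5 := congrArg Co.a7 h
  simp only [mul_a1, mul_a2, mul_a4, mul_a6, mul_a7, mul_a8, mul_b8, ha, hb, map_zero, add_zero, zero_mul, mul_zero,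
    zero_add, zero_pow two_ne_zero] at h1 h2 h3 h4 h5 h8 h9
  rw [mem_E]
  grind

theorem PA_FE {a e : Co K} (ha : a ∈ F) (he : e ∈ E) : a * e = e * a := by
  rw [mem_F] at ha
  rw [mem_E] at he
  ext <;> simp [ha, he] <;> grind

namespace Par

variable (P : Par K C)

theorem n_inv : P.n⁻¹ = P.n := inv_eq_of_mul_eq_one_right P.nn

theorem PA_dn (k : Kˣ) : P.d k * P.n * (P.d k)⁻¹ = P.d (k ^ 2) * P.n := by
  rw [P.d_conj, P.T_n, show σu (1 : Kˣ) = 1 from map_one _, inv_one, mul_one]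

theorem n_d (k : Kˣ) : P.n * P.d k * P.n = P.d k⁻¹ := by
  have := P.PA_dn k⁻¹
  rw [pow_two, map_mul, mul_assoc, mul_assoc, mul_right_inj, map_inv, inv_inv] at this
  rw [this, mul_assoc, P.nn, mul_one, map_inv]

theorem d_nf (k : Kˣ) (a : Co K) : P.d k * P.nf a * (P.d k)⁻¹ = P.nf (tor 1 k a) := by
  rw [P.d_conj, P.T_nf]

theorem odd_d (k : Kˣ) : Odd (orderOf (P.d k)) := (odd_unit k).of_dvd_nat (orderOf_map_dvd _ _)

theorem odd_T (x : Kˣ × Kˣ) : Odd (orderOf (P.T x)) :=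
  ((odd_unit x.1).mul (odd_unit x.2)).of_dvd_nat
    ((orderOf_map_dvd _ _).trans (by rw [Prod.orderOf]; exact Nat.lcm_dvd_mul _ _))

theorem PA_16 (a : Co K) : P.nf a ^ 2 ^ 4 = 1 := by rw [← map_pow, show 2 ^ 4 = 16 from rfl, pow_16, map_one]

theorem nf_eq_d {a : Co K} {k : Kˣ} (h : P.nf a = P.d k) : a = 1 ∧ k = 1 := by
  have e : P.nf a = 1 := PA_eq_one (P.PA_16 a) (h ▸ P.odd_d k)
  have := P.d_nf k (y6 1 0)
  rw [← h, e, one_mul, inv_one, mul_one] at this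
  exact ⟨P.inj (e.trans (map_one _).symm), by simpa [eq_comm] using congrArg Co.a6 (P.inj this)⟩

theorem PA_small (a b : Co K) (k : Kˣ) :
    P.nf a * P.d k * P.nf b * (P.nf a * P.d k)⁻¹ = P.nf (a * tor 1 k b * a⁻¹) := by
  rw [map_mul, map_mul, ← P.d_nf, map_inv]; group

theorem PA_big {a y b b' : Co K} {k : Kˣ}
    (h : P.nf a * P.d k * P.n * P.nf y * P.nf b * (P.nf a * P.d k * P.n * P.nf y)⁻¹ = P.nf b') :
    P.n * P.nf (y * b * y⁻¹) * P.n = P.nf (tor 1 k⁻¹ (a⁻¹ * b' * a)) := by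
  rw [← P.d_nf, map_mul, map_mul, map_mul, map_mul, ← h, map_inv, map_inv, map_inv]
  conv_lhs => rw [← P.n_inv]
  conv_lhs => enter [1, 1]; rw [P.n_inv]
  group

theorem two_B {a : Co K} {k : Kˣ} {j : ℕ} (h : (P.nf a * P.d k) ^ 2 ^ j = 1) : k = 1 := by
  have e : ∀ m : ℕ, ∃ a', (P.nf a * P.d k) ^ m = P.nf a' * P.d (k ^ m) := fun m => by
    induction m with
    | zero => exact ⟨1, by simp⟩
    | succ m ih =>
      obtain ⟨a', ih⟩ := ih
      exact ⟨a' * tor 1 (k ^ m) a, by rw [pow_succ, ih, map_mul, ← P.d_nf, pow_succ, map_mul]; group⟩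
  obtain ⟨a', e⟩ := e (2 ^ j)
  rw [h, eq_comm, mul_eq_one_iff_inv_eq, ← map_inv] at e
  exact PA_eq_one (P.nf_eq_d e).2 (odd_unit k)

theorem inter {a b : Co K} (h : P.n * P.nf a * P.n = P.nf b) : a ∈ Q := by
  have hq : a * (y8 a.a8 a.b8)⁻¹ ∈ Q := by simp; grind
  refine P.n_y8 a.a8 a.b8 ((w2 (a * (y8 a.a8 a.b8)⁻¹))⁻¹ * b) ?_
  rw [map_mul, map_inv, ← P.n_nf _ hq, ← h, map_mul, map_inv, mul_inv_rev, mul_inv_rev, mul_inv_rev, P.n_inv, inv_inv]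
  simp only [mul_assoc]
  rw [← mul_assoc P.n P.n, P.nn, one_mul, inv_mul_cancel_left]

/-- The two cells are disjoint. -/
theorem cell_ne (a b : Co K) (k : Kˣ) : P.n ≠ P.nf a * P.d k * P.nf b := fun h => by
  refine one_ne_zero (P.n_y8 1 0 (a * tor 1 k (b * y8 1 0 * b⁻¹) * a⁻¹) ?_).1
  rw [← P.PA_small, map_mul, map_mul, map_inv]
  conv_lhs => enter [2]; rw [← P.n_inv]
  rw [h]; group

theorem PA_ind {p : C → Prop} (mul : ∀ x y, p x → p y → p (x * y)) (h1 : ∀ a, p (P.nf a)) (h2 : ∀ k, p (P.d k))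
    (h3 : p P.n) (c : C) : p c := by
  rcases P.bruhat c with ⟨a, k, rfl⟩ | ⟨a, k, t, v, rfl⟩
  exacts [mul _ _ (h1 a) (h2 k), mul _ _ (mul _ _ (mul _ _ (h1 a) (h2 k)) h3) (h1 _)]

include P in
theorem gen2 (X : Subgroup C) (h : ∀ (c : C) (j : ℕ), c ^ 2 ^ j = 1 → c ∈ X) : X = ⊤ := by
  have hn : ∀ g, g * P.n * g⁻¹ ∈ X := fun g => h _ 1 (by rw [conj_pow, pow_one, pow_two, P.nn]; simp)
  have n : P.n ∈ X := by simpa using hn 1
  refine eq_top_iff.2 fun c _ => P.PA_ind (p := (· ∈ X)) (fun _ _ => mul_mem) (fun a => h _ 4 (P.PA_16 a))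
    (fun k => ?_) n c
  obtain ⟨j, hj⟩ := odd_unit k
  have e : (k ^ (j + 1)) ^ 2 = k := by
    rw [← pow_mul, show (j + 1) * 2 = orderOf k + 1 by omega, pow_succ, pow_orderOf_eq_one, one_mul]
  have := hn (P.d (k ^ (j + 1)))
  rwa [P.PA_dn, e, mul_mem_cancel_right n] at this

theorem z_comm (c : C) (t : K) : Commute c (P.nf (y4 0 t)) := by
  refine P.PA_ind (p := fun c => Commute c (P.nf (y4 0 t))) (fun _ _ => Commute.mul_left) (fun a => ?_) (fun k => ?_)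
    ?_ c
  · exact Commute.map (show a * y4 0 t = y4 0 t * a by ext <;> simp <;> ring) P.nf
  · exact mul_inv_eq_iff_eq_mul.1 ((P.d_nf k _).trans (congrArg P.nf (by ext <;> simp)))
  · exact mul_inv_eq_iff_eq_mul.1 (by
      rw [P.n_inv, P.n_nf _ (by simp)]; exact congrArg P.nf (by ext <;> simp))

theorem eq_of_le (X : Subgroup C) (hX : IsPGroup 2 X) (h : ∀ a, P.nf a ∈ X) :
    ∀ x ∈ X, ∃ a, x = P.nf a := fun x hx => by
  by_contra n
  have := hX.isNilpotent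
  obtain ⟨g, h1, h2⟩ := SetLike.exists_of_lt (Group.normalizerCondition_of_isNilpotent (G := X)
    (P.nf.range.subgroupOf X) (lt_top_iff_ne_top.2 fun e => by
      obtain ⟨a, ha⟩ : (⟨x, hx⟩ : X) ∈ P.nf.range.subgroupOf X := e ▸ Subgroup.mem_top _
      exact n ⟨a, ha.symm⟩))
  have k1 : ∀ b, ∃ b', P.nf b' = g * P.nf b * (g : C)⁻¹ := fun b =>
    (Subgroup.mem_normalizer_iff.1 h1 ⟨_, h b⟩).1 ⟨b, rfl⟩
  obtain ⟨j, hj⟩ := hX g
  have k2 : (g : C) ^ 2 ^ j = 1 := congrArg Subtype.val hj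
  rcases P.bruhat g with ⟨a, k, e⟩ | ⟨a, k, t, v, e⟩
  · rw [e] at k2
    exact h2 ⟨a, by rw [P.two_B k2, map_one, mul_one] at e; exact e.symm⟩
  · obtain ⟨b', hb⟩ := k1 ((y8 t v)⁻¹ * y8 1 0 * y8 t v)
    have := P.PA_big (e ▸ hb.symm)
    rw [show y8 t v * ((y8 t v)⁻¹ * y8 1 0 * y8 t v) * (y8 t v)⁻¹ = y8 1 0 by group] at this
    exact one_ne_zero (P.n_y8 1 0 _ this).1

theorem sylow (X : Subgroup C) (hX : IsPGroup 2 X) : ∃ c, ∀ x ∈ X, ∃ a, c * x * c⁻¹ = P.nf a := by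
  let S : Sylow 2 C := ⟨P.nf.range, Co.isPGroup.of_surjective _ P.nf.rangeRestrict_surjective, fun {Y} hY l =>
    le_antisymm (fun x hx => (P.eq_of_le Y hY (fun a => l ⟨a, rfl⟩) x hx).imp fun _ => Eq.symm) l⟩
  obtain ⟨T, hT⟩ := hX.exists_le_sylow
  obtain ⟨c, hc⟩ := MulAction.exists_smul_eq C T S
  refine ⟨c, fun x hx => ?_⟩
  have : MulAut.conj c • x ∈ (S : Subgroup C) := hc ▸ Subgroup.smul_mem_pointwise_smul _ _ _ (hT hx)
  exact this.imp fun _ => Eq.symm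

theorem PA_conj {Y : Subgroup (Co K)} (h0 : Y ≤ Q) (h1 : ∀ a ∈ Y, ∀ c, c * a * c⁻¹ ∈ Y)
    (h2 : ∀ a ∈ Y, ∀ k, tor 1 k a ∈ Y) (h3 : ∀ a ∈ Y, w2 a ∈ Y) (c : C) :
    ∀ a ∈ Y, ∃ b ∈ Y, c * P.nf a * c⁻¹ = P.nf b := by
  refine P.PA_ind (p := fun c => ∀ a ∈ Y, ∃ b ∈ Y, c * P.nf a * c⁻¹ = P.nf b) (fun x y hx hy a ha => ?_)
    (fun c a ha => ⟨_, h1 a ha c, by simp⟩) (fun k a ha => ⟨_, h2 a ha k, P.d_nf k a⟩)
    (fun a ha => ⟨_, h3 a ha, by rw [P.n_inv, P.n_nf a (h0 ha)]⟩) c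
  obtain ⟨b, hb, e⟩ := hy a ha
  obtain ⟨b', hb', e'⟩ := hx b hb
  exact ⟨b', hb', by rw [← e', ← e]; group⟩

theorem conj_Q (c : C) {a : Co K} (ha : a ∈ Q) : ∃ b ∈ Q, c * P.nf a * c⁻¹ = P.nf b :=
  P.PA_conj le_rfl (fun _ h _ => PA_Q h (inv_mul_cancel_right _ _)) (fun _ h _ => by simp_all)
    (fun _ _ => w2_mem _) c a ha

theorem conj_F (c : C) {a : Co K} (ha : a ∈ F) : ∃ b ∈ F, c * P.nf a * c⁻¹ = P.nf b :=
  P.PA_conj (Y := F) (fun _ h => h.2.2.2.2) (fun _ h _ => (PA_F h (inv_mul_cancel_right _ _)).1) (fun _ h _ => by simp_all)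
    (fun _ _ => by simp_all) c a ha

theorem conj_E (c : C) {a : Co K} (ha : a ∈ E) : ∃ b ∈ E, c * P.nf a * c⁻¹ = P.nf b :=
  P.PA_conj (Y := E) (fun _ h => h.2.2.2.2.2) (fun _ h _ => (PA_E h (inv_mul_cancel_right _ _)).1) (fun _ h _ => by simp_all)
    (fun _ _ => by simp_all) c a ha

theorem aut_Q (α : MulAut C) {a : Co K} (ha : a ∈ Q) : ∃ b ∈ Q, α (P.nf a) = P.nf b := by
  obtain ⟨c, hc⟩ := P.sylow (Q.map (α.toMonoidHom.comp P.nf)) (Co.isPGroup.to_subgroup _ |>.map _)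
  have k : ∀ g, ∃ b, g * α (P.nf a) * g⁻¹ = P.nf b := fun g => by
    obtain ⟨b, hb, e⟩ := P.conj_Q (α.symm (c⁻¹ * g)) ha
    obtain ⟨b', e'⟩ := hc _ ⟨b, hb, rfl⟩
    refine ⟨b', ?_⟩
    rw [← e', MonoidHom.comp_apply, ← e]
    simp [mul_assoc]
  obtain ⟨b, e⟩ := k 1
  obtain ⟨b', e'⟩ := k P.n
  rw [one_mul, inv_one, mul_one] at e
  rw [e, P.n_inv] at e'
  exact ⟨b, P.inter e', e⟩

theorem aut_E (α : MulAut C) {a : Co K} (ha : a ∈ E) : ∃ b ∈ E, α (P.nf a) = P.nf b := by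
  have k : ∀ {x y e : Co K}, x ∈ Q → y ∈ Q → y * x * e = x * y → ∃ b ∈ E, α (P.nf e) = P.nf b := fun hx hy h => by
    obtain ⟨x', h1, e1⟩ := P.aut_Q α hx
    obtain ⟨y', h2, e2⟩ := P.aut_Q α hy
    exact ⟨(y' * x')⁻¹ * (x' * y'), PA_comm h1 h2 (mul_inv_cancel_left _ _), by
      simp [eq_inv_mul_of_mul_eq h, e1, e2]⟩
  have m : ∀ {x y : Co K}, (∃ b ∈ E, α (P.nf x) = P.nf b) → (∃ b ∈ E, α (P.nf y) = P.nf b) →
      ∃ b ∈ E, α (P.nf (x * y)) = P.nf b := fun ⟨b, h, e⟩ ⟨b', h', e'⟩ => ⟨_, mul_mem h h', by simp [e, e']⟩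
  rw [mem_E] at ha
  have e : a = y2 0 a.b2 * x3 a.a3 * y4 0 a.b4 * x5 a.a5 * y6 0 a.b6 := by ext <;> simp [ha]
  rw [e]
  refine m (m (m (m ?_ ?_) ?_) ?_) ?_
  · exact k (x := y4 1 0) (y := x1 a.b2) (by simp) (by simp) (by ext <;> simp)
  · exact k (x := y4 1 0) (y := y2 a.a3 0) (by simp) (by simp) (by ext <;> simp)
  · exact k (x := x5 1) (y := y2 a.b4 0) (by simp) (by simp) (by ext <;> simp)
  · exact k (x := y6 a.a5 0) (y := y4 1 0) (by simp) (by simp) (by ext <;> simp)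
  · exact k (x := x7 a.b6) (y := y4 1 0) (by simp) (by simp) (by ext <;> simp)

theorem cent_z6' {c : C} {s : K} (h : c * P.nf (y6 0 1) * c⁻¹ = P.nf (y4 0 s * y6 0 1)) :
    ∃ a, c = P.nf a := by
  rcases P.bruhat c with ⟨a, k, rfl⟩ | ⟨a, k, t, v, rfl⟩
  · rw [P.PA_small] at h
    have := congrArg Co.b6 (mul_inv_eq_iff_eq_mul.1 (P.inj h))
    simp at this
    have e : (k : K) = 1 := N_inj (by rw [map_one]; grind)
    exact ⟨a, by rw [Units.val_eq_one.1 e, map_one, mul_one]⟩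
  · have := P.PA_big h
    rw [show y8 t v * y6 0 1 = y6 0 1 * y8 t v by ext <;> simp, mul_inv_cancel_right, P.n_nf _ (by simp)] at this
    have e := (PA_E (a := y4 0 s * y6 0 1) (b := a⁻¹ * (y4 0 s * y6 0 1) * a) (c := a⁻¹) (by simp)
      (mul_inv_cancel_right _ _)).2.1
    have := congrArg Co.b2 (P.inj this)
    rw [tor_b2, e] at this
    simp at this

theorem cent_z6 {c : C} (h : Commute c (P.nf (y6 0 1))) : ∃ a ∈ R, c = P.nf a := by
  obtain ⟨a, rfl⟩ := P.cent_z6' (c := c) (s := 0) (by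
    rw [h.eq, mul_inv_cancel_right]; exact congrArg P.nf (by ext <;> simp))
  have := congrArg Co.b4 (P.inj ((map_mul _ _ _).trans (h.eq.trans (map_mul _ _ _).symm)))
  simp at this
  exact ⟨a, mem_R.2 (by grind), rfl⟩

theorem cent_x5 {c : C} (h : Commute c (P.nf (x5 1))) : ∃ a, a.a8 = 0 ∧ c = P.nf a := by
  have h' := mul_inv_eq_iff_eq_mul.2 h.eq
  rcases P.bruhat c with ⟨a, k, rfl⟩ | ⟨a, k, t, v, rfl⟩
  · rw [P.PA_small] at h'
    have h1 := congrArg Co.a5 (mul_inv_eq_iff_eq_mul.1 (P.inj h'))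
    have h2 := congrArg Co.b6 (mul_inv_eq_iff_eq_mul.1 (P.inj h'))
    simp at h1 h2
    have e : (k : K) = 1 := by grind
    exact ⟨a, by grind, by rw [Units.val_eq_one.1 e, map_one, mul_one]⟩
  · have := P.PA_big h'
    rw [show y8 t v * x5 1 = x5 1 * y6 0 t * y8 t v by ext <;> simp, mul_inv_cancel_right, P.n_nf _ (by simp)] at this
    have e := (PA_E (a := x5 1) (b := a⁻¹ * x5 1 * a) (c := a⁻¹) (by simp) (mul_inv_cancel_right _ _)).2.2 rfl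
    have := congrArg Co.a3 (P.inj this)
    rw [tor_a3, e] at this
    simp at this

theorem PA_cm {a b : Co K} (h : Commute (P.nf a) (P.nf b)) : a * b = b * a :=
  P.inj ((map_mul _ _ _).trans (h.eq.trans (map_mul _ _ _).symm))

theorem cent_E {c : C} (h : ∀ e ∈ E, Commute c (P.nf e)) : ∃ a ∈ F, c = P.nf a := by
  obtain ⟨a, ha, rfl⟩ := P.cent_z6 (h _ (by simp))
  rw [mem_R] at ha
  have e2 := P.PA_cm (h (y2 0 1) (by simp))
  have h1 := congrArg Co.a3 e2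
  simp [ha] at h1
  have h8 : a.a8 = 0 := by grind
  have h2 := congrArg Co.a5 e2
  simp [ha, h8] at h2
  have h9 : a.b8 = 0 := by grind
  have h3 := congrArg Co.b4 e2
  have h4 := congrArg Co.b4 (P.PA_cm (h (x3 1) (by simp)))
  have h5 := congrArg Co.b4 (P.PA_cm (h (x5 1) (by simp)))
  simp [ha, h8, h9] at h3 h4 h5
  exact ⟨a, mem_F.2 (by grind), rfl⟩

theorem cent_R {c : C} (h : ∀ a ∈ R, Commute c (P.nf a)) : ∃ v ∈ V, c = P.nf v := by
  obtain ⟨a, ha, rfl⟩ := P.cent_E fun e he => h e he.1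
  rw [mem_F] at ha
  have h1 := congrArg Co.a3 (P.PA_cm (h (y2 1 0) (by simp)))
  have h2 := congrArg Co.b4 (P.PA_cm (h (y2 1 0) (by simp)))
  have h3 := congrArg Co.b4 (P.PA_cm (h (y6 1 0) (by simp)))
  have h4 := congrArg Co.b4 (P.PA_cm (h (x7 1) (by simp)))
  simp [ha] at h1 h2 h3 h4
  exact ⟨a, mem_V.2 (by grind), rfl⟩

theorem cent_Q {c : C} (h : ∀ a ∈ Q, Commute c (P.nf a)) : ∃ t, c = P.nf (y4 0 t) := by
  obtain ⟨a, ha, rfl⟩ := P.cent_E fun e he => h e he.2.2.2.2.2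
  rw [mem_F] at ha
  have h1 := congrArg Co.a3 (P.PA_cm (h (y2 1 0) (by simp)))
  have h2 := congrArg Co.b4 (P.PA_cm (h (y2 1 0) (by simp)))
  have h3 := congrArg Co.b4 (P.PA_cm (h (y6 1 0) (by simp)))
  have h4 := congrArg Co.b4 (P.PA_cm (h (x7 1) (by simp)))
  have h5 := congrArg Co.b4 (P.PA_cm (h (x1 1) (by simp)))
  simp [ha] at h1 h2 h3 h4 h5
  exact ⟨a.b4, congrArg P.nf (by ext <;> simp [ha] <;> grind)⟩

theorem aut_F (α : MulAut C) {a : Co K} (ha : a ∈ F) : ∃ b ∈ F, α (P.nf a) = P.nf b :=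
  P.cent_E fun e he => by
    obtain ⟨e', h, f⟩ := P.aut_E α.symm he
    rw [α.symm_apply_eq.1 f]
    exact (Commute.map (PA_FE ha h) P.nf).map α

theorem aut_Z (α : MulAut C) (t : K) : ∃ u, α (P.nf (y4 0 t)) = P.nf (y4 0 u) :=
  P.cent_Q fun a _ => by simpa using (P.z_comm (α.symm (P.nf a)) t).symm.map α

end Par

end H78.Oct
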