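import Mathlib
import Cfsg.Agent.Lib.Oct.PA

/-!
# The group C: automorphisms
-/

set_option autoImplicit false
set_option linter.unusedSectionVars false

namespace H78.Oct

open Co

variable {K C : Type*} [Field K] [Tits K] [Finite K] [Group C] [Finite C]

namespace PC

/-- the commutator pairing between `E` and `Q` -/
def pr (e a : Co K) : K := e.b2 * a.a7 + e.a3 * a.a6 + e.a5 * a.a2 + e.b6 * a.a1

theorem pr_eq {e a : Co K} (he : e ∈ E) (ha : a ∈ Q) : e * a = a * e * y4 0 (pr e a) := by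
  rw [mem_E] at he; rw [mem_Q] at ha
  ext <;> simp [he, ha, pr] <;> grind

theorem key {a f c : Co K} (ha : a ∈ Q) (hf : f ∈ F) (f4 : f.a4 = 1) (h : f * a = a * f * c) :
    c ∈ E ∧ c.b2 = a.a1 ∧ c.a3 = a.a2 ∧ c.a5 = a.a6 ∧ c.b6 = a.a7 := by
  rw [mem_F] at hf; rw [mem_Q] at ha
  have h1 := congrArg Co.a1 h
  have h2 := congrArg Co.a2 h
  have h3 := congrArg Co.a4 h
  have h4 := congrArg Co.a6 h
  have h5 := congrArg Co.a7 h
  have h6 := congrArg Co.a8 h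
  have h7 := congrArg Co.b8 h
  simp [ha, hf, f4, add_comm] at h1 h2 h3 h4 h5 h6 h7
  replace h6 := h6.symm
  replace h7 := h7.symm
  have k1 := congrArg Co.b2 h
  have k2 := congrArg Co.a3 h
  have k3 := congrArg Co.a5 h
  have k4 := congrArg Co.b6 h
  simp [ha, hf, f4, h1, h2, h3, h4] at k1 k2 k3 k4
  refine ⟨⟨h1, h2, h3, h4, h5, h6, h7⟩, ?_, ?_, ?_, ?_⟩ <;> grind

theorem memE (X : Subgroup (Co K)) {e : Co K} (he : e ∈ E) (h2 : e.b2 = 0 ∨ ∀ s, y2 0 s ∈ X)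
    (h3 : e.a3 = 0 ∨ ∀ s, x3 s ∈ X) (h5 : e.a5 = 0 ∨ ∀ s, x5 s ∈ X) (h4 : ∀ s, y4 0 s ∈ X)
    (h6 : ∀ s, y6 0 s ∈ X) : e ∈ X := by
  have e1 : e = y2 0 e.b2 * x3 e.a3 * (y4 0 e.b4 * x5 e.a5) * y6 0 e.b6 := by
    rw [mem_E] at he
    ext <;> simp [he]
  rw [e1]
  refine mul_mem (mul_mem (mul_mem ?_ ?_) (mul_mem (h4 _) ?_)) (h6 _)
  · exact h2.elim (fun k => by rw [k]; exact X.one_mem) fun k => k _
  · exact h3.elim (fun k => k ▸ X.one_mem) fun k => k _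
  · exact h5.elim (fun k => k ▸ X.one_mem) fun k => k _

theorem fix {α : MulAut C} (ho : Odd (orderOf α)) {x δ : C} (h : α x = x * δ) (hδ : α δ = δ)
    (h2 : δ ^ 16 = 1) : α x = x := by
  have k : ∀ m : ℕ, (α ^ m) x = x * δ ^ m := fun m => by
    induction m with
    | zero => simp
    | succ m ih => rw [pow_succ', MulAut.mul_apply, ih, map_mul, map_pow, h, hδ, pow_succ', mul_assoc]
  have k1 := k (orderOf α)
  rw [pow_orderOf_eq_one, MulAut.one_apply, left_eq_mul] at k1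
  have c : Nat.Coprime (orderOf α) 16 := (Nat.coprime_two_right.2 ho).pow_right 4
  rw [h, (pow_eq_one_iff_of_coprime c).1 ⟨k1, h2⟩, mul_one]

section Odd

variable (P : Par K C) (α : MulAut C) (h4 : ∀ t, α (P.nf (y4 0 t)) = P.nf (y4 0 t))
  (h6 : ∀ t, α (P.nf (y6 0 t)) = P.nf (y6 0 t))

/-- the fixed points -/
def Fx : Subgroup (Co K) := (α.toMonoidHom.comp P.nf).eqLocus P.nf

theorem mem_Fx {a : Co K} : a ∈ Fx P α ↔ α (P.nf a) = P.nf a := Iff.rfl

variable {P α}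

theorem rel {a b c a' b' c' : Co K} (ha : α (P.nf a) = P.nf a') (hb : α (P.nf b) = P.nf b')
    (hc : α (P.nf c) = P.nf c') (h : a * b = b * a * c) : a' * b' = b' * a' * c' := by
  have := congrArg (fun x => α (P.nf x)) h
  simp only [map_mul, ha, hb, hc] at this
  exact P.inj (by simpa only [map_mul] using this)

theorem fixd (ho : Odd (orderOf α)) {a a' : Co K} (h : α (P.nf a) = P.nf a')
    (hδ : a⁻¹ * a' ∈ Fx P α) : a ∈ Fx P α :=
  fix ho (δ := P.nf (a⁻¹ * a')) (by rw [h, ← map_mul, mul_inv_cancel_left]) hδ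
    (by rw [← map_pow, pow_16, map_one])

include h4

theorem pair {e a e' a' : Co K} (he : e ∈ E) (ha : a ∈ Q) (he' : e' ∈ E) (ha' : a' ∈ Q)
    (h1 : α (P.nf e) = P.nf e') (h2 : α (P.nf a) = P.nf a') : pr e' a' = pr e a :=
  congrArg Co.b4 (mul_left_cancel ((pr_eq he' ha').symm.trans (rel h1 h2 (h4 _) (pr_eq he ha))))

theorem a4F {a a' : Co K} (ha : a ∈ F) (ha' : a' ∈ F) (h : α (P.nf a) = P.nf a') : a'.a4 = a.a4 := by
  have e : a * a = y4 0 (a.a4 * σ a.a4) := by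
    rw [mem_F] at ha
    ext <;> simp [ha] <;> grind
  have k := h4 (a.a4 * σ a.a4)
  rw [← e, map_mul, map_mul, h, ← map_mul, ← map_mul] at k
  have := congrArg Co.b4 ((P.inj k).trans e)
  rw [mem_F] at ha'
  simp [ha'] at this
  exact N_inj (by grind)

theorem tw {a : Co K} (ha : a ∈ Q) : ∃ a' ∈ Q, ∃ c ∈ E, ∃ c' ∈ E, α (P.nf a) = P.nf a' ∧
    α (P.nf c) = P.nf c' ∧ (c.b2 = a.a1 ∧ c.a3 = a.a2 ∧ c.a5 = a.a6 ∧ c.b6 = a.a7) ∧
    c'.b2 = a'.a1 ∧ c'.a3 = a'.a2 ∧ c'.a5 = a'.a6 ∧ c'.b6 = a'.a7 := by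
  have hf : y4 (1 : K) 0 ∈ F := by simp
  obtain ⟨f, hf', ef⟩ := P.aut_F α hf
  obtain ⟨a', ha', ea⟩ := P.aut_Q α ha
  have e : y4 1 0 * a = a * y4 1 0 * ((a * y4 1 0)⁻¹ * (y4 1 0 * a)) := (mul_inv_cancel_left _ _).symm
  obtain ⟨hc, k⟩ := key ha hf rfl e
  obtain ⟨c', hc', ec⟩ := P.aut_E α hc
  exact ⟨a', ha', _, hc, c', hc', ea, ec, k, (key ha' hf' (a4F h4 hf hf' ef) (rel ef ea ec e)).2⟩

theorem step (ho : Odd (orderOf α)) {a e : Co K} (ha : a ∈ Q) (he : e ∈ E)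
    (k : e.b2 = a.a1 ∧ e.a3 = a.a2 ∧ e.a5 = a.a6 ∧ e.b6 = a.a7)
    (h : ∀ a' ∈ Q, α (P.nf a) = P.nf a' → ∀ δ ∈ E, δ.b2 = a.a1 + a'.a1 → δ.a3 = a.a2 + a'.a2 →
      δ.a5 = a.a6 + a'.a6 → δ ∈ Fx P α) : e ∈ Fx P α := by
  obtain ⟨a', ha', c, hc, c', hc', ea, ec, k1, k2⟩ := tw h4 ha
  have m := mul_mem (inv_mem hc) hc'
  rw [mem_E] at hc hc' he
  have e1 : e = c * y4 0 (c.b4 + e.b4) := by
    ext <;> simp [hc, he, k, k1]; grind
  rw [e1]
  exact mul_mem (fixd ho ec (h a' ha' ea _ m (by simp [hc, hc', k1, k2]) (by simp [hc, hc', k1, k2])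
    (by simp [hc, hc', k1, k2]))) (h4 _)

include h6

theorem a1Q {a a' : Co K} (ha : a ∈ Q) (ha' : a' ∈ Q) (h : α (P.nf a) = P.nf a') : a'.a1 = a.a1 := by
  simpa [pr] using pair h4 (e := y6 0 1) (by simp) ha (by simp) ha' (h6 1) h

theorem y6Q {s : K} {a' : Co K} (ha' : a' ∈ Q) (h : α (P.nf (y6 s 0)) = P.nf a') :
    a'.a2 = 0 ∧ a'.a6 = s := by
  have k1 : a'.a1 = 0 := a1Q h4 h6 (by simp) ha' h
  have e : y6 s 0 * y6 s 0 = y6 0 (s * σ s) := by ext <;> simp; grind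
  have k := h6 (s * σ s)
  rw [← e, map_mul, map_mul, h, ← map_mul, ← map_mul] at k
  have k := (P.inj k).trans e
  obtain ⟨b', hb', c, hc, c', hc', eb, ec, l1, l2⟩ := tw h4 (a := y2 1 0) (by simp)
  have p := pair h4 hc (by simp) hc' ha' ec h
  have l3 : b'.a1 = 0 := a1Q h4 h6 (by simp) hb' eb
  rw [mem_Q] at ha'
  have k2 := congrArg Co.b2 k
  simp [ha', k1] at k2
  have k2 : a'.a2 = 0 := N_eq_zero (by grind)
  have k5 := congrArg Co.a5 k
  have k6 := congrArg Co.b6 k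
  simp [ha', k1, k2] at k5 k6
  simp [pr, l1, l2, l3, k1, k2] at p
  refine ⟨k2, ?_⟩
  by_cases k0 : a'.a6 = 0
  · rw [← p, k0, mul_zero]
  · have : a'.a4 = 0 := (mul_eq_zero.1 (by grind : a'.a6 * a'.a4 = 0)).resolve_left k0
    exact N_inj (by grind)

theorem fixQ (ho : Odd (orderOf α)) {a : Co K} (ha : a ∈ Q) : a ∈ Fx P α := by
  have s5 : ∀ s, x5 s ∈ Fx P α := fun s => step h4 ho (a := y6 s 0) (by simp) (by simp) (by simp)
    fun a' ha' e δ hδ k2 k3 k5 => memE _ hδ (.inl (by simp [k2, a1Q h4 h6 (by simp) ha' e]))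
      (.inl (by simp [k3, y6Q h4 h6 ha' e]))
      (.inl (by simp [k5, y6Q h4 h6 ha' e, CharTwo.add_self_eq_zero])) h4 h6
  have p : ∀ {e a a'}, e ∈ E → e ∈ Fx P α → a ∈ Q → a' ∈ Q → α (P.nf a) = P.nf a' → pr e a' = pr e a :=
    fun he h ha ha' k => pair h4 he ha he ha' h k
  have s3 : ∀ s, x3 s ∈ Fx P α := fun s => step h4 ho (a := y2 s 0) (by simp) (by simp) (by simp)
    fun a' ha' e δ hδ k2 k3 _ => memE _ hδ (.inl (by simp [k2, a1Q h4 h6 (by simp) ha' e]))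
      (.inl (by
        have := p (by simp) (s5 1) (by simp) ha' e
        simp [pr] at this
        simp [k3, this, CharTwo.add_self_eq_zero])) (.inr s5) h4 h6
  have s2 : ∀ s, y2 0 s ∈ Fx P α := fun s => step h4 ho (a := x1 s) (by simp) (by simp) (by simp)
    fun a' ha' e δ hδ k2 _ _ => memE _ hδ
      (.inl (by simp [k2, a1Q h4 h6 (by simp) ha' e, CharTwo.add_self_eq_zero])) (.inr s3) (.inr s5) h4 h6
  have sE : ∀ e ∈ E, e ∈ Fx P α := fun e he => memE _ he (.inr s2) (.inr s3) (.inr s5) h4 h6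
  have sF : ∀ f ∈ F, f ∈ Fx P α := fun f hf => by
    obtain ⟨f', hf', e⟩ := P.aut_F α hf
    have := a4F h4 hf hf' e
    rw [mem_F] at hf hf'
    exact fixd ho e (sE _ (by simp [hf, hf', this, CharTwo.add_self_eq_zero]))
  obtain ⟨a', ha', e⟩ := P.aut_Q α ha
  have k1 := a1Q h4 h6 ha ha' e
  have k2 := p (by simp) (s5 1) ha ha' e
  have k3 := p (by simp) (s3 1) ha ha' e
  have k4 := p (by simp) (s2 1) ha ha' e
  simp [pr] at k2 k3 k4
  rw [mem_Q] at ha ha'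
  exact fixd ho e (sF _ (by simp [ha, ha', k1, k2, k3, k4, CharTwo.add_self_eq_zero]))

end Odd

end PC

open PC

namespace Par

variable (P : Par K C)

theorem odd_aut (α : MulAut C) (h4 : ∀ t, α (P.nf (y4 0 t)) = P.nf (y4 0 t))
    (h6 : ∀ t, α (P.nf (y6 0 t)) = P.nf (y6 0 t)) (ho : Odd (orderOf α)) : α = 1 := by
  ext c
  obtain ⟨t, ht⟩ := P.cent_Q (c := c⁻¹ * α c) fun a ha => by
    obtain ⟨b, hb, e⟩ := P.conj_Q c ha
    have := congrArg α e
    rw [map_mul, map_mul, map_inv, (mem_Fx P α).1 (fixQ h4 h6 ho ha), (mem_Fx P α).1 (fixQ h4 h6 ho hb),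
      ← e] at this
    calc c⁻¹ * α c * P.nf a = c⁻¹ * (α c * P.nf a * (α c)⁻¹) * α c := by group
      _ = _ := by rw [this]; group
  exact fix ho (mul_inv_cancel_left _ _).symm (by rw [ht, h4]) (by rw [ht, ← map_pow, pow_16, map_one])

theorem two_aut (α : MulAut C) (h4 : ∀ t, α (P.nf (y4 0 t)) = P.nf (y4 0 t))
    (h6 : ∀ t, α (P.nf (y6 0 t)) = P.nf (y6 0 t)) : ∃ j, α ^ 2 ^ j = 1 := by
  obtain ⟨j, m, hm, e⟩ := Nat.exists_eq_two_pow_mul_odd (orderOf_pos α).ne'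
  exact ⟨j, P.odd_aut _ (fun t => (MulAction.stabilizer (MulAut C) _).pow_mem (h4 t) _)
    (fun t => (MulAction.stabilizer (MulAut C) _).pow_mem (h6 t) _)
    (hm.of_dvd_nat (orderOf_dvd_of_pow_eq_one (by rw [← pow_mul, ← e, pow_orderOf_eq_one])))⟩

end Par

namespace PC

theorem N_ne {k : Kˣ} (hk : k ≠ 1) : (k : K) * σ (k : K) ≠ 1 := fun e =>
  hk (Units.ext (N_inj (by simpa using e)))

theorem fixz {w x : K} (hw : w ≠ 1) (h : w * x = x) : x = 0 :=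
  (mul_eq_zero.1 (by linear_combination h : (w - 1) * x = 0)).resolve_left (sub_ne_zero.2 hw)

theorem σ_ne_one {k : Kˣ} (hk : k ≠ 1) : σ (k : K) ≠ 1 := fun e => hk (Units.ext (by simpa using e))

theorem w8_ne {k : Kˣ} (hk : k ≠ 1) : (k : K) ^ 2 * σ (k : K) ≠ 1 := fun e =>
  σ_ne_one hk (N_inj (by simpa [mul_comm] using e))

theorem tor_fix {k : Kˣ} (hk : k ≠ 1) {a : Co K} (h : tor 1 k a = a) : a = y4 a.a4 a.b4 := by
  have k1 : (k : K) ≠ 1 := fun e => hk (Units.ext e)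
  have n := N_ne hk
  ext
  · exact fixz (inv_ne_one.2 n) (by simpa using congrArg Co.a1 h)
  · exact fixz (inv_ne_one.2 k1) (by simpa using congrArg Co.a2 h)
  · exact fixz (inv_ne_one.2 n) (by simpa using congrArg Co.b2 h)
  · exact fixz (inv_ne_one.2 k1) (by simpa using congrArg Co.a3 h)
  · rfl
  · rfl
  · exact fixz k1 (by simpa using congrArg Co.a5 h)
  · exact fixz k1 (by simpa using congrArg Co.a6 h)
  · exact fixz n (by simpa using congrArg Co.b6 h)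
  · exact fixz n (by simpa using congrArg Co.a7 h)
  · exact fixz (σ_ne_one hk) (by simpa using congrArg Co.a8 h)
  · exact fixz (w8_ne hk) (by simpa using congrArg Co.b8 h)

variable (P : Par K C)

theorem dnd (k : Kˣ) : P.d k * P.n * (P.d k)⁻¹ = P.d (k * k) * P.n := by
  have := P.n_d k⁻¹
  rw [inv_inv, map_inv] at this
  rw [map_mul, mul_assoc, mul_assoc, ← mul_one (P.n * _), ← P.nn, ← mul_assoc _ P.n, this]

theorem strip {a0 b : Co K} {j : Kˣ} {x : C} (h : P.nf a0 * P.d j * x * (P.nf a0 * P.d j)⁻¹ = P.nf b) :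
    ∃ b, x = P.nf b := ⟨tor 1 j⁻¹ (a0⁻¹ * b * a0), by
  rw [← P.d_nf, map_mul, map_mul, ← h, map_inv, map_inv]; group⟩

theorem nrmS {g : C} (h : ∀ a, ∃ b, g * P.nf a * g⁻¹ = P.nf b) : ∃ a j, g = P.nf a * P.d j := by
  refine (P.bruhat g).resolve_right fun ⟨a, j, t, v, e⟩ => ?_
  obtain ⟨b, hb⟩ := h ((y8 t v)⁻¹ * y8 1 0 * y8 t v)
  obtain ⟨b, hb⟩ := strip P (a0 := a) (j := j) (b := b) (x := P.n * P.nf (y8 1 0) * P.n⁻¹) (by
    rw [← hb, e, map_mul, map_mul, map_inv]; group)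
  rw [P.n_inv] at hb
  exact one_ne_zero (P.n_y8 _ _ _ hb).1

theorem sj {α : MulAut C} {g : C} (h : ∀ a, ∃ b, g * α (P.nf a) * g⁻¹ = P.nf b) (b : Co K) :
    ∃ a, g * α (P.nf a) * g⁻¹ = P.nf b := by
  choose β hβ using h
  obtain ⟨a, rfl⟩ := Finite.injective_iff_surjective.1 (fun a a' (e : β a = β a') =>
    P.inj (α.injective (conj_injective ((hβ a).trans (e ▸ (hβ a').symm))))) b
  exact ⟨a, hβ a⟩

theorem dz {α : MulAut C} {k k' : Kˣ} (h : α (P.d k) = P.d k') {a b : Co K} (e : α (P.nf a) = P.nf b) :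
    α (P.nf (tor 1 k a)) = P.nf (tor 1 k' b) := by
  rw [← P.d_nf, ← P.d_nf, map_mul, map_mul, map_inv, h, e]

theorem z6_rel (t : K) (a : Co K) : y6 0 t * a = a * y6 0 t * y4 0 (t * a.a1) := by
  ext <;> simp <;> grind

theorem vlem {k k' : Kˣ} (hk : k ≠ 1) {α : MulAut C} (h : α (P.d k) = P.d k')
    (hS : ∀ a, ∃ b, α (P.nf a) = P.nf b) :
    ∃ f : K →+ K, Function.Injective f ∧ ∀ t, α (P.nf (y6 0 t)) = P.nf (y6 0 (f t)) := by
  have hV : ∀ t, ∃ u v, α (P.nf (y6 0 t)) = P.nf (y4 0 u * y6 0 v) := fun t => by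
    obtain ⟨e, he, h1⟩ := P.aut_E α (a := y6 0 t) (by simp)
    obtain ⟨a, h2⟩ := sj P (α := α) (g := 1) (by simpa using hS) (y8 1 0)
    obtain ⟨u, h3⟩ := P.aut_Z α (t * a.a1)
    have r := rel h1 (by simpa using h2) h3 (z6_rel t a)
    rw [mem_E] at he
    have r1 := congrArg Co.a3 r
    have r2 := congrArg Co.a5 r
    have r3 := congrArg Co.b6 r
    simp [he] at r1
    simp [he, r1] at r2
    simp [he, r1, r2] at r3
    exact ⟨e.b4, e.b6, h1.trans (congrArg _ (by ext <;> simp [he, r1, r2, r3]))⟩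
  choose φ f hf using hV
  have add : ∀ s t, y4 0 (φ (s + t)) * y6 0 (f (s + t)) = y4 0 (φ s) * y6 0 (f s) * (y4 0 (φ t) * y6 0 (f t)) :=
    fun s t => P.inj (by
      rw [← hf, map_mul P.nf (_ * _), ← hf, ← hf, ← map_mul, ← map_mul]
      congr 2
      ext <;> simp)
  have z : ∀ t, φ t = 0 := fun t => by
    have n : (k : K) * σ (k : K) + 1 ≠ 0 := fun e => N_ne hk (by grind)
    obtain ⟨s, rfl⟩ : ∃ s, t = k * σ (k : K) * s + s := ⟨t / (k * σ (k : K) + 1), by field_simp⟩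
    have e := dz P h (hf s)
    rw [show tor 1 k (y6 0 s) = y6 0 (k * σ (k : K) * s) by ext <;> simp, hf] at e
    have e1 := congrArg Co.b4 (P.inj e)
    have e2 := congrArg Co.b4 (add (k * σ (k : K) * s) s)
    simp at e1 e2
    rw [e2, e1, CharTwo.add_self_eq_zero]
  have hf' : ∀ t, α (P.nf (y6 0 t)) = P.nf (y6 0 (f t)) := fun t => by
    rw [hf, z, show y4 (0 : K) 0 = 1 from rfl, one_mul]
  exact ⟨AddMonoidHom.mk' f fun s t => by simpa using congrArg Co.b6 (add s t), fun s t (e : f s = f t) =>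
    congrArg Co.b6 (P.inj (α.injective (by rw [hf', hf', e])) : y6 0 s = y6 0 t), hf'⟩

theorem fz {α : MulAut C} {k k' : Kˣ} (h : α (P.d k) = P.d k') {f : K → K}
    (hf : ∀ t, α (P.nf (y6 0 t)) = P.nf (y6 0 (f t))) (t : K) :
    f (k * σ (k : K) * t) = k' * σ (k' : K) * f t := by
  have e := dz P h (hf t)
  rw [show tor 1 k (y6 0 t) = y6 0 (k * σ (k : K) * t) by ext <;> simp, hf] at e
  simpa using congrArg Co.b6 (P.inj e)

theorem N_unit {x : K} (h : x ≠ 0) : ∃ c : Kˣ, (c : K) * σ (c : K) = x := by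
  obtain ⟨c, rfl⟩ := N_surj x
  exact ⟨Units.mk0 c (left_ne_zero_of_mul h), rfl⟩

end PC

namespace Par

variable (P : Par K C)

theorem cent_d {k : Kˣ} (hk : k ≠ 1) {c : C} (h : Commute c (P.d k)) :
    ∃ s u j, c = P.nf (y4 s u) * P.d j := by
  have h1 : P.d k * c * (P.d k)⁻¹ = c := by rw [← h.eq, mul_inv_cancel_right]
  have cm : ∀ j, P.d k * P.d j = P.d j * P.d k := fun j => by rw [← map_mul, mul_comm, map_mul]
  rcases P.bruhat c with ⟨a, j, rfl⟩ | ⟨a, j, t, v, rfl⟩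
  · have : P.nf (tor 1 k a) * P.d j = P.nf a * P.d j := by
      rw [← P.d_nf, ← h1, mul_assoc _ _ (P.d j), ← mul_assoc (P.d k), mul_assoc _ (P.d j),
        (show Commute (P.d k) (P.d j) from cm j).inv_left.eq]
    exact ⟨a.a4, a.b4, j, by rw [← tor_fix hk (P.inj (mul_right_cancel this))]⟩
  · have e : P.n * P.nf (y8 t v * (tor 1 k (y8 t v))⁻¹) * P.n⁻¹ =
        P.nf (tor 1 j⁻¹ (a⁻¹ * tor 1 k a)) * P.d (k * k) := by
      have h2 : P.nf (tor 1 k a) * P.d j * (P.d (k * k) * P.n) * P.nf (tor 1 k (y8 t v)) =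
          P.nf a * P.d j * P.n * P.nf (y8 t v) := by
        rw [← h1, ← dnd, ← P.d_nf, ← P.d_nf]
        calc _ = P.d k * P.nf a * ((P.d k)⁻¹ * (P.d j * P.d k)) * P.n * P.nf (y8 t v) * (P.d k)⁻¹ := by
              group
          _ = _ := by rw [← cm]; group
      rw [← P.d_nf j⁻¹]
      simp only [map_mul P.nf, map_inv]
      calc _ = (P.nf a * P.d j)⁻¹ * (P.nf a * P.d j * P.n * P.nf (y8 t v)) *
            (P.nf (tor 1 k (y8 t v)))⁻¹ * P.n⁻¹ := by group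
        _ = _ := by rw [← h2]; group
    have := P.two_B (j := 4) (by rw [← e, conj_pow, ← map_pow]; simp [pow_16])
    have k2 : (k : K) * k = 1 := congrArg Units.val this
    have k3 := (pow_eq_zero_iff two_ne_zero).1 (by grind : ((k : K) + 1) ^ 2 = 0)
    exact absurd (Units.ext (show (k : K) = 1 by grind)) hk

theorem syl_d {k : Kˣ} (hk : k ≠ 1) (α : MulAut C) (h : α (P.d k) = P.d k) :
    (∀ a, ∃ b, α (P.nf a) = P.nf b) ∨ ∀ a, ∃ b, P.n * α (P.nf a) * P.n = P.nf b := by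
  obtain ⟨c, hc⟩ := P.sylow (α.toMonoidHom.comp P.nf).range (by
    rintro ⟨_, a, rfl⟩
    exact ⟨4, Subtype.ext (show α (P.nf a) ^ 16 = 1 by rw [← map_pow, ← map_pow, pow_16, map_one, map_one])⟩)
  replace hc : ∀ a, ∃ b, c * α (P.nf a) * c⁻¹ = P.nf b := fun a => hc _ ⟨a, rfl⟩
  rcases P.bruhat c with ⟨a0, j, rfl⟩ | ⟨a0, j, t, v, rfl⟩
  · exact Or.inl fun a => (hc a).elim fun _ e => strip P e
  right
  have h1 : ∀ a, ∃ b, P.n * P.nf (y8 t v) * α (P.nf a) * (P.n * P.nf (y8 t v))⁻¹ = P.nf b := fun a => by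
    obtain ⟨b, e⟩ := hc a
    exact strip P (a0 := a0) (j := j) (b := b) (by rw [← e]; group)
  have h2 : ∀ a, ∃ b, P.n * P.nf (tor 1 k (y8 t v)) * α (P.nf a) * (P.n * P.nf (tor 1 k (y8 t v)))⁻¹ =
      P.nf b := fun a => by
    obtain ⟨b, e⟩ := h1 (tor 1 k⁻¹ a)
    refine ⟨tor 1 k⁻¹ b, ?_⟩
    rw [← P.d_nf k⁻¹ b, ← e, ← P.d_nf k⁻¹ a, ← P.d_nf k, ← P.n_d k]
    simp only [map_mul, map_inv, P.n_d, h]
    have e1 : (P.d k)⁻¹ * P.n = P.n * P.d k := by
      rw [← map_inv, ← P.n_d, mul_assoc, P.nn, mul_one]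
    calc _ = P.n * P.d k * P.nf (y8 t v) * ((P.d k)⁻¹ * α (P.nf a) * P.d k) * (P.nf (y8 t v))⁻¹ *
          (P.n * P.d k)⁻¹ := by group
      _ = _ := by rw [← e1]; group
  obtain ⟨a, j, e⟩ := nrmS P (g := P.n * P.nf (tor 1 k (y8 t v) * (y8 t v)⁻¹) * P.n⁻¹) fun b => by
    obtain ⟨a, e⟩ := sj P h1 b
    obtain ⟨b', e'⟩ := h2 a
    exact ⟨b', by rw [← e, ← e', map_mul, map_inv]; group⟩
  obtain rfl := P.two_B (j := 4) (by rw [← e, conj_pow, ← map_pow]; simp [pow_16])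
  rw [map_one, mul_one, P.n_inv] at e
  obtain ⟨q1, q2⟩ := P.inter e
  simp at q1 q2
  obtain rfl : t = 0 := fixz (σ_ne_one hk) (by grind)
  obtain rfl : v = 0 := fixz (w8_ne hk) (by grind)
  simpa [show y8 (0 : K) 0 = 1 from rfl, P.n_inv] using h1

theorem scal {k : Kˣ} (hk : k ≠ 1) (hg : ∀ j, j ∈ Subgroup.zpowers k) (α : MulAut C)
    (h : α (P.d k) = P.d k) (hS : ∀ a, ∃ b, α (P.nf a) = P.nf b) :
    ∃ x, (∀ t, α (P.nf (y4 0 t)) = P.T x (P.nf (y4 0 t))) ∧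
      ∀ t, α (P.nf (y6 0 t)) = P.T x (P.nf (y6 0 t)) := by
  obtain ⟨f, fi, hf⟩ := vlem P hk h hS
  have lin : ∀ t, f t = f 1 * t := fun t => by
    by_cases h0 : t = 0
    · simp [h0]
    obtain ⟨j, rfl⟩ := N_unit h0
    obtain ⟨m, e⟩ := hg j
    simpa [mul_comm] using fz P (k := j) (k' := j) (by rw [← e, map_zpow, map_zpow, h]) hf 1
  obtain ⟨b, hb⟩ := hS (x1 1)
  have z : ∀ t, α (P.nf (y4 0 t)) = P.nf (y4 0 (f 1 * b.a1 * t)) := fun t => by
    obtain ⟨u, hu⟩ := P.aut_Z α t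
    have r := rel (hf t) hb hu (by simpa using z6_rel t (x1 1))
    rw [hu, ← mul_left_cancel ((z6_rel _ _).symm.trans r), lin t, mul_right_comm]
  obtain ⟨j, hj⟩ := N_unit (x := f 1) fun e => one_ne_zero (fi (e.trans f.map_zero.symm))
  obtain ⟨c, hc⟩ := N_unit (x := f 1 * b.a1) fun e => by
    have := z 1
    rw [e, zero_mul, show y4 (0 : K) 0 = 1 from rfl, map_one, MulEquiv.map_eq_one_iff, ← map_one P.nf] at this
    simpa using congrArg Co.b4 (P.inj this)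
  refine ⟨(c, j), fun t => ?_, fun t => ?_⟩
  · rw [z, P.T_nf]; congr 1; ext <;> simp [hc]
  · rw [hf, lin, P.T_nf]; congr 1; ext <;> simp [hj]

end Par

/-- Inversion is not additive. -/
theorem no_inv_add (hq : 4 < Nat.card K) {k : Kˣ} (hg : ∀ j, j ∈ Subgroup.zpowers k) (f : K →+ K)
    (hf : Function.Injective f) (h : ∀ t, f (k * σ (k : K) * t) = (k * σ (k : K))⁻¹ * f t) : False := by
  have all : ∀ j : Kˣ, ∀ t, f (j * σ (j : K) * t) = (j * σ (j : K))⁻¹ * f t := fun j => by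
    obtain ⟨m, rfl⟩ := mem_powers_iff_mem_zpowers.2 (hg j)
    induction m with
    | zero => simp
    | succ m ih =>
      intro t
      have := h (↑(k ^ m) * σ (↑(k ^ m) : K) * t)
      rw [ih] at this
      simp only [pow_succ, Units.val_mul, map_mul, mul_inv] at this ⊢
      convert this using 1
      · congr 1; ring
      · ring
  have inv : ∀ x, x ≠ 0 → x * f x = f 1 := fun x hx => by
    obtain ⟨j, rfl⟩ := N_unit hx
    have := all j 1
    rw [mul_one] at this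
    rw [this, mul_inv_cancel_left₀ hx]
  have y : f 1 ≠ 0 := fun e => one_ne_zero (hf (e.trans f.map_zero.symm))
  have k3 : k ^ 3 = 1 := by
    by_cases h1 : (k : K) + 1 = 0
    · rw [show k = 1 from Units.ext (show (k : K) = 1 by grind), one_pow]
    have e1 := inv _ k.ne_zero
    have e2 := inv _ h1
    rw [map_add] at e2
    have : ((k : K) ^ 2 + k + 1) * f 1 = 0 := by grind
    exact Units.ext (by have := (mul_eq_zero.1 this).resolve_right y; push_cast; grind)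
  have := Nat.le_of_dvd three_pos (orderOf_dvd_of_pow_eq_one k3)
  rw [orderOf_eq_card_of_forall_mem_zpowers hg, Nat.card_units] at this
  omega

theorem Par.no_inv (P : Par K C) (hq : 4 < Nat.card K) {k : Kˣ} (hg : ∀ j, j ∈ Subgroup.zpowers k)
    (α : MulAut C) (h : α (P.d k) = P.d k⁻¹) (hS : ∀ a, ∃ b, α (P.nf a) = P.nf b) : False := by
  have hk : k ≠ 1 := fun e => by
    have := orderOf_eq_card_of_forall_mem_zpowers hg
    rw [e, orderOf_one, Nat.card_units] at this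
    omega
  obtain ⟨f, fi, hf⟩ := vlem P hk h hS
  exact no_inv_add hq hg f fi fun t => by simpa [mul_comm] using fz P h hf t

end H78.Oct
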