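import Mathlib
import Cfsg.Agent.Base
import Cfsg.Agent.Lib.Oct.PC

/-!
# Basic consequences of the hypothesis
-/

set_option autoImplicit false
set_option linter.unusedSectionVars false

namespace H78.Oct

open Co

variable {K C G : Type*} [Field K] [Tits K] [Finite K] [Group C] [Finite C] [Group G] [Finite G]
  {P : Par K C} {ι : C →* G}

theorem HA.odd_ker {M : Type*} [Group M] [Finite M] (X : Subgroup M) [hX : X.Normal] {N : ℕ}
    (hN : Odd N) (h : ∀ x ∈ X, (∀ y ∈ X, Commute (x ^ N) y) ∧ (x ^ N) ^ 2 = 1)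
    (hO : Cfsg.oddCore M = ⊥) {g : M} (hg : g ∈ X) (ho : Odd (orderOf g)) : g = 1 := by
  have : Fact (Nat.Prime 2) := ⟨Nat.prime_two⟩
  set m := (Subgroup.center X).index with hm
  have hmo : Odd m := by
    rw [← Nat.not_even_iff_odd, even_iff_two_dvd]
    intro h2
    obtain ⟨x, hx⟩ := exists_prime_orderOf_dvd_card' (G := X ⧸ Subgroup.center X) 2 h2
    obtain ⟨x, rfl⟩ := QuotientGroup.mk_surjective x
    have h1 : ((x : X ⧸ Subgroup.center X)) ^ N = 1 := by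
      rw [← QuotientGroup.mk_pow, QuotientGroup.eq_one_iff, Subgroup.mem_center_iff]
      intro y
      exact Subtype.ext ((h x x.2).1 y y.2).symm.eq
    have := orderOf_dvd_of_pow_eq_one h1
    rw [hx] at this
    exact (Nat.not_even_iff_odd.2 hN) (even_iff_two_dvd.2 this)
  have hmul : ∀ x ∈ X, ∀ y ∈ X, (x * y) ^ m = x ^ m * y ^ m := by
    intro x hx y hy
    have := congrArg (fun z : Subgroup.center X => ((z : X) : M))
      ((MonoidHom.transferCenterPow X).map_mul ⟨x, hx⟩ ⟨y, hy⟩)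
    simpa using this
  have hcen : ∀ x ∈ X, ∀ y ∈ X, Commute (x ^ m) y := by
    intro x hx y hy
    have := Subgroup.mem_center_iff.1 ((Subgroup.center X).pow_index_mem ⟨x, hx⟩) ⟨y, hy⟩
    exact (congrArg Subtype.val this).symm
  let K0 : Subgroup M :=
    { carrier := {x | x ∈ X ∧ (x ^ m) ^ N = 1}
      mul_mem' := by
        rintro x y ⟨hx, hx1⟩ ⟨hy, hy1⟩
        refine ⟨X.mul_mem hx hy, ?_⟩
        rw [hmul x hx y hy, (hcen x hx _ (X.pow_mem hy m)).mul_pow, hx1, hy1, one_mul]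
      one_mem' := ⟨X.one_mem, by simp⟩
      inv_mem' := by
        rintro x ⟨hx, hx1⟩
        exact ⟨X.inv_mem hx, by rw [inv_pow, inv_pow, hx1, inv_one]⟩ }
  have hK : K0.Normal := ⟨by
    rintro x ⟨hx, hx1⟩ y
    exact ⟨hX.conj_mem x hx y, by rw [conj_pow, conj_pow, hx1]; simp⟩⟩
  have hKo : (Nat.card K0).Coprime 2 := by
    rw [Nat.coprime_two_right, ← Nat.not_even_iff_odd, even_iff_two_dvd]
    intro h2
    obtain ⟨x, hx⟩ := exists_prime_orderOf_dvd_card' (G := K0) 2 h2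
    have h1 : x ^ (m * N) = 1 := Subtype.ext (by simpa [pow_mul] using x.2.2)
    have := orderOf_dvd_of_pow_eq_one h1
    rw [hx] at this
    exact (Nat.not_even_iff_odd.2 (hmo.mul hN)) (even_iff_two_dvd.2 this)
  have hle : K0 ≤ Cfsg.oddCore M :=
    le_sSup (s := {N : Subgroup M | N.Normal ∧ (Nat.card N).Coprime 2}) ⟨hK, hKo⟩
  have hgK : g ∈ K0 := by
    refine ⟨hg, ?_⟩
    have h2 := (h _ (X.pow_mem hg m)).2
    have h3 : orderOf ((g ^ m) ^ N) ∣ orderOf g := by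
      rw [← pow_mul]; exact orderOf_pow_dvd _
    have h4 : orderOf ((g ^ m) ^ N) ∣ 2 := orderOf_dvd_of_pow_eq_one h2
    rw [← orderOf_eq_one_iff]
    exact Nat.eq_one_of_dvd_coprimes (Nat.coprime_two_right.2 ho) h3 h4
  have := hle hgK
  rw [hO] at this
  exact Subgroup.mem_bot.1 this

theorem HA.aut (hi : Function.Injective ι) {g : G} (hg : Nm ι g) :
    ∃ α : MulAut C, ∀ c, g * ι c * g⁻¹ = ι (α c) := by
  choose f hf using hg
  let φ : C →* C := MonoidHom.mk' f fun a b => hi (by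
    rw [map_mul, ← hf, ← hf, ← hf, map_mul]; group)
  have hφ : Function.Injective φ := fun a b hab => hi (by
    have h1 : f a = f b := hab
    have := hf a
    rw [h1, ← hf b] at this
    simpa using this)
  exact ⟨MulEquiv.ofBijective φ (Finite.injective_iff_bijective.1 hφ), hf⟩

theorem HA.mem_of_pow {M : Type*} [Group M] {D : Subgroup M} {g : M} {r j : ℕ} (hr : Odd r)
    (h1 : g ^ r ∈ D) (h : g ^ 2 ^ j = 1) : g ∈ D := by
  have hc : r.Coprime (orderOf g) :=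
    Nat.Coprime.coprime_dvd_right (orderOf_dvd_of_pow_eq_one h)
      (Nat.Coprime.pow_right j (Nat.coprime_two_right.2 hr))
  obtain ⟨m, hm⟩ := exists_pow_eq_self_of_coprime hc
  rw [← hm]
  exact D.pow_mem h1 m

theorem HA.z4_sq (t : K) : (y4 0 t : Co K) * y4 0 t = 1 := by
  ext <;> simp <;> grind

theorem HA.comm_z6 {r : Co K} (hr : r ∈ R) (t : K) : r * y6 0 t = y6 0 t * r := by
  rw [mem_R] at hr
  ext <;> simp [hr] <;> grind

theorem HA.order (P : Par K C) : orderOf P.z = 2 := by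
  have : Fact (Nat.Prime 2) := ⟨Nat.prime_two⟩
  refine orderOf_eq_prime ?_ fun h => ?_
  · rw [sq, Par.z, ← map_mul, HA.z4_sq, map_one]
  · have := congrArg Co.b4 (P.inj (h.trans P.nf.map_one.symm))
    simp at this

theorem HA.two (a : Co K) (g : G) : (g * ι (P.nf a) * g⁻¹) ^ 2 ^ 4 = 1 := by
  rw [conj_pow, ← map_pow, ← map_pow]
  norm_num [pow_16]

theorem Nm.mul {g h : G} (hg : Nm ι g) (hh : Nm ι h) : Nm ι (g * h) := by
  intro c
  obtain ⟨c1, h1⟩ := hh c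
  obtain ⟨c2, h2⟩ := hg c1
  exact ⟨c2, by rw [← h2, ← h1]; group⟩

theorem nm_iff {g : G} : Nm ι g ↔ g ∈ Subgroup.normalizer (ι.range : Set G) := by
  constructor
  · intro h
    refine Subgroup.mem_normalizer_fintype ?_
    rintro _ ⟨c, rfl⟩
    obtain ⟨c', hc⟩ := h c
    exact ⟨c', hc.symm⟩
  · intro h c
    obtain ⟨c', hc⟩ := (Subgroup.mem_normalizer_iff.1 h (ι c)).1 ⟨c, rfl⟩
    exact ⟨c', hc.symm⟩

theorem Nm.inv {g : G} (hg : Nm ι g) : Nm ι g⁻¹ := nm_iff.2 (Subgroup.inv_mem _ (nm_iff.1 hg))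

theorem Nm.self (c : C) : Nm ι (ι c) := fun d => ⟨c * d * c⁻¹, by simp⟩

namespace Hyp

variable (H : Hyp P ι)
include H

theorem order : orderOf (ι P.z) = 2 := by
  rw [orderOf_injective ι H.inj, HA.order]

/-- The image of `S` has odd index. -/
theorem odd_S : Odd (ι.comp P.nf).range.index := by
  have : Fact (Nat.Prime 2) := ⟨Nat.prime_two⟩
  rw [MonoidHom.range_comp, Subgroup.index_map_of_injective _ H.inj]
  refine Odd.mul ?_ H.odd
  have hp : IsPGroup 2 P.nf.range := isPGroup.of_surjective _ P.nf.rangeRestrict_surjective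
  obtain ⟨T, hT⟩ := hp.exists_le_sylow
  have he : P.nf.range = T := le_antisymm hT fun x hx => by
    obtain ⟨a, ha⟩ := P.eq_of_le T T.isPGroup' (fun a => hT ⟨a, rfl⟩) x hx
    exact ⟨a, ha.symm⟩
  rw [he, ← Nat.not_even_iff_odd, even_iff_two_dvd]
  exact T.not_dvd_index

theorem central : Cfsg.IsTwoCentralInvolution (ι P.z) := by
  have : Fact (Nat.Prime 2) := ⟨Nat.prime_two⟩
  refine ⟨H.order, ?_⟩
  have hp : IsPGroup 2 (ι.comp P.nf).range :=
    isPGroup.of_surjective _ (ι.comp P.nf).rangeRestrict_surjective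
  obtain ⟨T, hT⟩ := hp.exists_le_sylow
  refine ⟨T, hT ⟨y4 0 1, rfl⟩, fun x hx => ?_⟩
  have h1 : Odd ((ι.comp P.nf).range.relIndex T) :=
    Odd.of_dvd_nat H.odd_S (Subgroup.relIndex_dvd_index_of_le hT)
  obtain ⟨k, hk⟩ := T.isPGroup'.index ((ι.comp P.nf).range.subgroupOf T)
  have hk' : (ι.comp P.nf).range.relIndex T = 2 ^ k := hk
  have hk0 : k = 0 := by
    by_contra h0
    rw [hk'] at h1
    exact (Nat.not_even_iff_odd.2 h1) (Nat.even_pow.2 ⟨even_two, h0⟩)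
  rw [hk0, pow_zero, Subgroup.relIndex_eq_one] at hk'
  obtain ⟨a, rfl⟩ := hk' hx
  exact ((P.z_comm (P.nf a) 1).map ι).eq

theorem aut {g : G} (hg : Nm ι g) : ∃ α : MulAut C, ∀ c, g * ι c * g⁻¹ = ι (α c) := HA.aut H.inj hg

theorem mem_of_nm {g : G} (hg : Nm ι g) {j : ℕ} (h : g ^ 2 ^ j = 1) : ∃ c, g = ι c := by
  have hle : ι.range ≤ Subgroup.normalizer (ι.range : Set G) := Subgroup.le_normalizer
  have h1 : Odd (ι.range.relIndex (Subgroup.normalizer (ι.range : Set G))) :=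
    Odd.of_dvd_nat H.odd (Subgroup.relIndex_dvd_index_of_le hle)
  have h2 := (ι.range.subgroupOf (Subgroup.normalizer (ι.range : Set G))).pow_index_mem
    ⟨g, nm_iff.1 hg⟩
  obtain ⟨c, hc⟩ := HA.mem_of_pow (D := ι.range) (g := g) h1 h2 h
  exact ⟨c, hc.symm⟩

theorem mem_of_two {g : G} (hg : Commute g (ι P.z)) {j : ℕ} (h : g ^ 2 ^ j = 1) : ∃ c, g = ι c := H.mem_of_nm (H.norm g hg) h

theorem nm_of_Z {g : G} {t : K} (h : g * ι P.z * g⁻¹ = ι (P.nf (y4 0 t))) : Nm ι g := by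
  have hX := P.gen2 ((ι.range.comap (MulAut.conj g⁻¹).toMonoidHom).comap ι) fun c j hc => by
    have h1 : Commute (g⁻¹ * ι c * g⁻¹⁻¹) (ι P.z) := by
      have h2 := ((P.z_comm c t).map ι).eq
      rw [← h] at h2
      rw [Commute, SemiconjBy]
      calc g⁻¹ * ι c * g⁻¹⁻¹ * ι P.z = g⁻¹ * (ι c * (g * ι P.z * g⁻¹)) * g := by group
        _ = ι P.z * (g⁻¹ * ι c * g⁻¹⁻¹) := by rw [h2]; group
    obtain ⟨c', hc'⟩ := H.mem_of_two h1 (j := j) (by rw [conj_pow, ← map_pow, hc]; simp)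
    exact ⟨c', hc'.symm⟩
  have h3 : Nm ι g⁻¹ := fun c => by
    have : c ∈ (ι.range.comap (MulAut.conj g⁻¹).toMonoidHom).comap ι := hX ▸ Subgroup.mem_top c
    obtain ⟨c', hc'⟩ := this
    exact ⟨c', hc'.symm⟩
  simpa using h3.inv

theorem conj (g : G) : Hyp P ((MulAut.conj g).toMonoidHom.comp ι) := by
  refine ⟨(MulAut.conj g).injective.comp H.inj, ?_, fun h hh c => ?_, fun h hh ho => ?_⟩
  · rw [MonoidHom.range_comp, Subgroup.index_map_of_injective _ (MulAut.conj g).injective,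
      (MonoidHom.range_eq_top (f := (MulAut.conj g).toMonoidHom)).2 (MulAut.conj g).surjective,
      Subgroup.index_top, mul_one]
    exact H.odd
  · have h1 : Commute (g⁻¹ * h * g) (ι P.z) := by
      have h2 : h * (g * ι P.z * g⁻¹) = g * ι P.z * g⁻¹ * h := hh.eq
      rw [Commute, SemiconjBy]
      calc g⁻¹ * h * g * ι P.z = g⁻¹ * (h * (g * ι P.z * g⁻¹)) * g := by group
        _ = ι P.z * (g⁻¹ * h * g) := by rw [h2]; group
    obtain ⟨c', hc'⟩ := H.norm _ h1 c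
    refine ⟨c', ?_⟩
    change h * (g * ι c * g⁻¹) * h⁻¹ = g * ι c' * g⁻¹
    rw [← hc']; group
  · have h1 : g⁻¹ * h * g⁻¹⁻¹ = 1 := by
      refine H.core _ (fun a ha => ?_) ?_
      · have h2 : h * (g * ι (P.nf a) * g⁻¹) = g * ι (P.nf a) * g⁻¹ * h := (hh a ha).eq
        rw [Commute, SemiconjBy]
        calc g⁻¹ * h * g⁻¹⁻¹ * ι (P.nf a) = g⁻¹ * (h * (g * ι (P.nf a) * g⁻¹)) * g := by group
          _ = ι (P.nf a) * (g⁻¹ * h * g⁻¹⁻¹) := by rw [h2]; group
      · rw [← MulAut.conj_apply, MulEquiv.orderOf_eq]; exact ho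
    calc h = g * (g⁻¹ * h * g⁻¹⁻¹) * g⁻¹ := by group
      _ = 1 := by rw [h1]; group

theorem comp (κ : MulAut C) (h : κ P.z = P.z) : Hyp P (ι.comp κ.toMonoidHom) := by
  refine ⟨H.inj.comp κ.injective, ?_, fun g hg c => ?_, fun g hg ho => ?_⟩
  · rw [MonoidHom.range_comp, MonoidHom.range_eq_top.2 κ.surjective, ← MonoidHom.range_eq_map]
    exact H.odd
  · have h1 : Commute g (ι P.z) := by
      have : Commute g (ι (κ P.z)) := hg
      rwa [h] at this
    obtain ⟨c', hc'⟩ := H.norm g h1 (κ c)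
    exact ⟨κ⁻¹ c', by simpa using hc'⟩
  · refine H.core g (fun a ha => ?_) ho
    obtain ⟨b, hb, hab⟩ := P.aut_Q κ⁻¹ ha
    have h1 : Commute g (ι (κ (P.nf b))) := hg b hb
    rw [← hab] at h1
    simpa using h1

theorem cent_Q {g : G} (h : ∀ a ∈ Q, Commute g (ι (P.nf a))) : ∃ t, g = ι (P.nf (y4 0 t)) := by
  obtain ⟨j, m, hm, hjm⟩ := Nat.exists_eq_two_pow_mul_odd (orderOf_pos g).ne'
  have h1 : g ^ 2 ^ j = 1 := by
    refine H.core _ (fun a ha => (h a ha).pow_left _) (Odd.of_dvd_nat hm ?_)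
    refine orderOf_dvd_of_pow_eq_one ?_
    rw [← pow_mul, ← hjm, pow_orderOf_eq_one]
  obtain ⟨c, rfl⟩ := H.mem_of_two (h (y4 0 1) (by simp)) h1
  obtain ⟨t, ht⟩ := P.cent_Q (c := c) fun a ha => H.inj (by simpa using (h a ha).eq)
  exact ⟨t, by rw [ht]⟩

theorem cent_V {g : G} (h4 : ∀ t, Commute g (ι (P.nf (y4 0 t))))
    (h6 : ∀ t, Commute g (ι (P.nf (y6 0 t)))) : ∃ r ∈ R, g = ι (P.nf r) := by
  obtain ⟨α, hα⟩ := H.aut (H.norm g (h4 1))
  obtain ⟨j, hj⟩ := P.two_aut α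
    (fun t => H.inj (by rw [← hα, (h4 t).eq, mul_inv_cancel_right]))
    (fun t => H.inj (by rw [← hα, (h6 t).eq, mul_inv_cancel_right]))
  have hp : ∀ (n : ℕ) c, g ^ n * ι c * (g ^ n)⁻¹ = ι ((α ^ n) c) := by
    intro n
    induction n with
    | zero => simp
    | succ n ih =>
      intro c
      rw [pow_succ' α, MulAut.mul_apply, ← hα, ← ih, pow_succ']
      group
  obtain ⟨t, ht⟩ := H.cent_Q (g := g ^ 2 ^ j) fun a _ => by
    have := hp (2 ^ j) (P.nf a)
    rw [hj, MulAut.one_apply, mul_inv_eq_iff_eq_mul] at this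
    exact this
  have h1 : g ^ 2 ^ (j + 1) = 1 := by
    rw [pow_succ, pow_mul, ht, sq, ← map_mul, ← map_mul, HA.z4_sq, map_one, map_one]
  obtain ⟨c, rfl⟩ := H.mem_of_two (h4 1) h1
  obtain ⟨r, hr, hc⟩ := P.cent_z6 (c := c) (H.inj (by simpa using (h6 1).eq))
  exact ⟨r, hr, by rw [hc]⟩

theorem cent_R {g : G} (h : ∀ a ∈ R, Commute g (ι (P.nf a))) : ∃ v ∈ V, g = ι (P.nf v) := by
  obtain ⟨r, -, rfl⟩ := H.cent_V (fun t => h _ (by simp)) (fun t => h _ (by simp))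
  obtain ⟨v, hv, hc⟩ := P.cent_R (c := P.nf r) fun a ha => H.inj (by simpa using (h a ha).eq)
  exact ⟨v, hv, by rw [hc]⟩

theorem normR {g : G} (h4 : g * ι P.z * g⁻¹ = ι (P.nf (y6 0 1)))
    (h6 : g * ι (P.nf (y6 0 1)) * g⁻¹ = ι P.z) {r : Co K} (hr : r ∈ R) :
    ∃ r' ∈ R, g * ι (P.nf r) * g⁻¹ = ι (P.nf r') := by
  have h1 : Commute (g * ι (P.nf r) * g⁻¹) (ι P.z) := by
    rw [← h6]
    have h2 : Commute (ι (P.nf r)) (ι (P.nf (y6 0 1))) :=
      (Commute.map (show Commute r (y6 0 1) from HA.comm_z6 hr 1) P.nf).map ι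
    exact h2.map (MulAut.conj g)
  have h3 : Commute (g * ι (P.nf r) * g⁻¹) (ι (P.nf (y6 0 1))) := by
    rw [← h4]
    exact ((P.z_comm (P.nf r) 1).map ι).map (MulAut.conj g)
  obtain ⟨c, hc⟩ := H.mem_of_two h1 (HA.two r g)
  rw [hc] at h3
  obtain ⟨r', hr', hc'⟩ := P.cent_z6 (c := c) (H.inj (by simpa using h3.eq))
  exact ⟨r', hr', by rw [hc, hc']⟩

end Hyp

/-- The hypothesis from the form in which it is stated. -/
theorem exists_hyp (P : Par K C) (τ : G) (hτ : orderOf τ = 2) (S : Sylow 2 G) (hτc : ∀ s ∈ (S : Subgroup G), s * τ = τ * s)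
    (D : Subgroup G) (hle : D ≤ Subgroup.centralizer ({τ} : Set G))
    (hn : (D.subgroupOf (Subgroup.centralizer ({τ} : Set G))).Normal)
    (hi : Odd (D.relIndex (Subgroup.centralizer ({τ} : Set G)))) (e : D ≃* C)
    (hO : Cfsg.oddCore ↥(Subgroup.centralizer ({τ} : Set G)) = ⊥) :
    ∃ ι : C →* G, Hyp P ι ∧ ι P.z = τ ∧ ι.range = D := by
  have : Fact (Nat.Prime 2) := ⟨Nat.prime_two⟩
  set M := Subgroup.centralizer ({τ} : Set G) with hM
  have hmM : ∀ g, g ∈ M ↔ Commute g τ := fun g => by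
    rw [hM, Subgroup.mem_centralizer_singleton_iff]; rfl
  have hpow : ∀ g ∈ M, g ^ D.relIndex M ∈ D := fun g hg =>
    (D.subgroupOf M).pow_index_mem ⟨g, hg⟩
  have hτ2 : τ ^ 2 ^ 1 = 1 := by rw [pow_one, ← hτ, pow_orderOf_eq_one]
  have hτD : τ ∈ D := HA.mem_of_pow hi (hpow τ ((hmM τ).2 (Commute.refl τ))) hτ2
  obtain ⟨t, ht⟩ := P.cent_Q (c := e ⟨τ, hτD⟩) fun a _ => by
    obtain ⟨d, hd⟩ := e.surjective (P.nf a)
    rw [← hd]
    refine Commute.map ?_ e
    exact Subtype.ext ((hmM d).1 (hle d.2)).symm.eq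
  have ht0 : t ≠ 0 := by
    rintro rfl
    have h1 : (y4 0 0 : Co K) = 1 := by ext <;> simp
    rw [h1, map_one, EmbeddingLike.map_eq_one_iff] at ht
    have h2 : τ = 1 := congrArg Subtype.val ht
    rw [h2, orderOf_one] at hτ
    exact absurd hτ (by norm_num)
  obtain ⟨c, hc⟩ := N_surj t
  have hc0 : c ≠ 0 := by rintro rfl; exact ht0 (by simpa using hc.symm)
  let ι : C →* G := D.subtype.comp (e.symm.toMonoidHom.comp (P.T (Units.mk0 c hc0, 1)).toMonoidHom)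
  have hinj : Function.Injective ι :=
    D.subtype_injective.comp (e.symm.injective.comp (P.T (Units.mk0 c hc0, 1)).injective)
  have hz : ι P.z = τ := by
    change ((e.symm (P.T (Units.mk0 c hc0, 1) (P.nf (y4 0 1))) : D) : G) = τ
    have h1 : tor (Units.mk0 c hc0) 1 (y4 0 1) = (y4 0 t : Co K) := by ext <;> simp [hc]
    rw [P.T_nf, h1, ← ht, e.symm_apply_apply]
  have hr : ι.range = D := by
    refine le_antisymm ?_ fun d hd => ?_
    · rintro _ ⟨x, rfl⟩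
      exact (e.symm _).2
    · refine ⟨(P.T (Units.mk0 c hc0, 1)).symm (e ⟨d, hd⟩), ?_⟩
      change ((e.symm (P.T (Units.mk0 c hc0, 1) ((P.T (Units.mk0 c hc0, 1)).symm _)) : D) : G) = d
      rw [MulEquiv.apply_symm_apply, e.symm_apply_apply]
  have hnorm : ∀ g, Commute g (ι P.z) → Nm ι g := fun g hg x => by
    rw [hz] at hg
    have hx : ι x ∈ D := hr ▸ ⟨x, rfl⟩
    have h1 := hn.conj_mem ⟨ι x, hle hx⟩ hx ⟨g, (hmM g).2 hg⟩
    have h2 : g * ι x * g⁻¹ ∈ ι.range := hr ▸ h1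
    obtain ⟨x', hx'⟩ := h2
    exact ⟨x', hx'.symm⟩
  refine ⟨ι, ⟨hinj, ?_, hnorm, fun g hg ho => ?_⟩, hz, hr⟩
  · rw [hr, ← Subgroup.relIndex_mul_index hle]
    refine hi.mul (Odd.of_dvd_nat ?_ (Subgroup.index_dvd_of_le (H := (S : Subgroup G))
      fun s hs => (hmM s).2 (hτc s hs)))
    rw [← Nat.not_even_iff_odd, even_iff_two_dvd]
    exact S.not_dvd_index
  · let X : Subgroup M := (Subgroup.centralizer (ι '' (P.nf '' (Q : Subgroup (Co K))))).subgroupOf M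
    have hX : ∀ x : M, x ∈ X ↔ ∀ a ∈ Q, Commute (x : G) (ι (P.nf a)) := fun x => by
      rw [Subgroup.mem_subgroupOf, Subgroup.mem_centralizer_iff]
      constructor
      · intro h a ha
        exact (h _ ⟨_, ⟨a, ha, rfl⟩, rfl⟩).symm
      · rintro h _ ⟨_, ⟨a, ha, rfl⟩, rfl⟩
        exact (h a ha).symm.eq
    have : X.Normal := ⟨fun x hx y => (hX _).2 fun a ha => by
      obtain ⟨α, hα⟩ := HA.aut hinj (hnorm (y⁻¹ : G) (hz ▸ (hmM _).1 (M.inv_mem y.2)))
      obtain ⟨b, hb, hab⟩ := P.aut_Q α ha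
      have h1 := ((hX x).1 hx b hb).map (MulAut.conj (y : G))
      rw [← hab, ← hα] at h1
      simpa [mul_assoc] using h1⟩
    have hgM : g ∈ M := (hmM g).2 (hz ▸ hg (y4 0 1) (by simp))
    have := HA.odd_ker X hi (fun x hx => ?_) hO (g := ⟨g, hgM⟩) ((hX _).2 hg)
      (by rw [Subgroup.orderOf_mk]; exact ho)
    · exact congrArg Subtype.val this
    · have h1 : (x : G) ^ D.relIndex M ∈ ι.range := hr ▸ hpow x x.2
      obtain ⟨d, hd⟩ := h1
      obtain ⟨u, hu⟩ := P.cent_Q (c := d) fun a ha => hinj (by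
        have := (((hX x).1 hx a ha).pow_left (D.relIndex M)).eq
        rw [← hd] at this
        simpa using this)
      refine ⟨fun y hy => Subtype.ext ?_, Subtype.ext ?_⟩
      · have := ((hX y).1 hy (y4 0 u) (by simp)).symm.eq
        rw [← hu, hd] at this
        simpa using this
      · change ((x : G) ^ D.relIndex M) ^ 2 = 1
        rw [← hd, hu, sq, ← map_mul, ← map_mul, HA.z4_sq, map_one, map_one]

end H78.Oct
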