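import Mathlib
import Cfsg.Agent.Lib.Oct.PA

/-!
# The group C: involutions and elementary abelian subgroups
-/

set_option autoImplicit false
set_option linter.unusedSectionVars false

namespace H78.Oct

open Co

variable {K C : Type*} [Field K] [Tits K] [Finite K] [Group C] [Finite C]

/-- an element of `E` -/
def pbE (b2 a3 b4 a5 b6 : K) : Co K := ⟨0, 0, b2, a3, 0, b4, a5, 0, b6, 0, 0, 0⟩

theorem pbE_mem (b2 a3 b4 a5 b6 : K) : pbE b2 a3 b4 a5 b6 ∈ E := ⟨rfl, rfl, rfl, rfl, rfl, rfl, rfl⟩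

theorem pbE_eq {e : Co K} (he : e ∈ E) : e = pbE e.b2 e.a3 e.b4 e.a5 e.b6 := by
  rw [mem_E] at he
  ext <;> simp [pbE, he]

theorem card_E : Nat.card (E : Subgroup (Co K)) = Nat.card K ^ 5 := by
  have e : (E : Subgroup (Co K)) ≃ K × K × K × K × K :=
    { toFun := fun x => (x.1.b2, x.1.a3, x.1.b4, x.1.a5, x.1.b6)
      invFun := fun v => ⟨pbE v.1 v.2.1 v.2.2.1 v.2.2.2.1 v.2.2.2.2, pbE_mem _ _ _ _ _⟩
      left_inv := fun x => Subtype.ext (pbE_eq x.2).symm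
      right_inv := fun _ => rfl }
  rw [Nat.card_congr e]
  simp only [Nat.card_prod]
  ring

theorem conj_x1 {e : Co K} (he : e ∈ E) (h : e.b6 = 0) : ∃ q ∈ Q, q * x1 1 * q⁻¹ = x1 1 * e := by
  obtain ⟨a7, h7⟩ := (σ : K ≃+* K).surjective e.a5
  obtain ⟨a6, h6⟩ := (σ : K ≃+* K).surjective (e.a3 + a7)
  refine ⟨⟨0, 0, 0, 0, e.b2 + a6, 0, 0, a6, e.b4 + a6 * a7, a7, 0, 0⟩, ⟨rfl, rfl⟩,
    mul_inv_eq_iff_eq_mul.2 ?_⟩
  rw [mem_E] at he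
  ext <;> simp [he, h, h6, h7] <;> grind

theorem pb_card {H : Type*} [Group H] [Finite H] (B D : Subgroup H) (f : B → K)
    (h : ∀ x y : B, f x = f y → (x : H)⁻¹ * y ∈ D) : Nat.card B ≤ Nat.card K * Nat.card ↥(B ⊓ D) := by
  obtain ⟨s, k⟩ : ∃ s : K → B, ∀ x, f (s (f x)) = f x :=
    ⟨Function.invFun f, fun x => Function.invFun_eq ⟨x, rfl⟩⟩
  rw [← Nat.card_prod]
  refine Nat.card_le_card_of_injective (fun x : B => ((f x, ⟨(s (f x) : H)⁻¹ * x,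
    B.mul_mem (B.inv_mem (s (f x)).2) x.2, h _ _ (k x)⟩) : K × ↥(B ⊓ D))) fun x y e => ?_
  have e1 : f x = f y := congrArg Prod.fst e
  have e2 : (s (f x) : H)⁻¹ * x = (s (f y) : H)⁻¹ * y := congrArg (fun p : K × ↥(B ⊓ D) => (p.2 : H)) e
  rw [e1] at e2
  exact Subtype.ext (mul_left_cancel e2)

namespace Par

variable (P : Par K C)

/-- conjugacy in `C` of elements of `S` -/
def PbCj (a b : Co K) : Prop := ∃ c, c * P.nf a * c⁻¹ = P.nf b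

variable {P}

theorem PbCj.trans {a b e : Co K} (p : P.PbCj a b) (q : P.PbCj b e) : P.PbCj a e := by
  obtain ⟨c, h⟩ := p
  obtain ⟨d, h'⟩ := q
  exact ⟨d * c, by rw [← h', ← h]; group⟩

theorem PbCj.of {a b : Co K} (q : Co K) (h : q * a = b * q) : P.PbCj a b :=
  ⟨P.nf q, by rw [← map_mul, h, map_mul, mul_inv_cancel_right]⟩

theorem PbCj.n {a b : Co K} (h : a ∈ Q) (e : w2 a = b) : P.PbCj a b :=
  ⟨P.n, by rw [P.n_inv, P.n_nf a h, e]⟩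

theorem PbCj.d {a b : Co K} (k : Kˣ) (e : tor 1 k a = b) : P.PbCj a b :=
  ⟨P.d k, by rw [P.d_nf, e]⟩

theorem pb_n (b2 a3 b4 a5 b6 : K) : P.PbCj (pbE b2 a3 b4 a5 b6) (pbE b6 a5 b4 a3 b2) :=
  .n ⟨rfl, rfl⟩ (by ext <;> simp [pbE])

theorem pb_8 (b2 a3 b4 a5 b6 t v : K) {a3' a5' b6' : K} (h3 : t * b2 + a3 = a3')
    (h5 : t * σ t * b2 + σ t * a3 + v * b2 + a5 = a5')
    (h6 : t ^ 2 * σ t * b2 + t * v * b2 + t * a5 + v * a3 + σ v * b2 + b6 = b6') :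
    P.PbCj (pbE b2 a3 b4 a5 b6) (pbE b2 a3' (t * σ a3 + v * σ b2 + b4) a5' b6') :=
  .of (y8 t v) (by subst h3 h5 h6; ext <;> simp [pbE])

theorem pb_6 (b4 : K) {b6 : K} (h : b6 ≠ 0) : P.PbCj (pbE 0 0 b4 0 b6) (y6 0 1) := by
  obtain ⟨k, hk⟩ := N_surj b6⁻¹
  have k0 : k ≠ 0 := fun e => inv_ne_zero h (by rw [← hk, e, zero_mul])
  refine (PbCj.of (b := pbE 0 0 0 0 b6) (x1 (b4 / b6)) ?_).trans (.d (Units.mk0 k k0) ?_)
  · ext <;> simp [pbE]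
    field_simp
  · ext <;> simp [pbE, hk, h]

theorem pb_5 (b4 b6 : K) {a5 : K} (h : a5 ≠ 0) : P.PbCj (pbE 0 0 b4 a5 b6) (x5 1) := by
  refine (pb_8 0 0 b4 a5 b6 (b6 / a5) 0 (a3' := 0) (a5' := a5) (b6' := 0) (by simp) (by simp)
    (by simp [h, CharTwo.add_self_eq_zero])).trans
    ((PbCj.of (b := pbE 0 0 0 a5 0) (y2 (b4 / a5) 0) ?_).trans (.d (Units.mk0 a5 h)⁻¹ ?_))
  · ext <;> simp [pbE]
    field_simp
  · ext <;> simp [pbE, h]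

theorem pb_0 (a3 b4 a5 b6 : K) (h : ¬ (a3 = 0 ∧ a5 = 0 ∧ b6 = 0)) :
    P.PbCj (pbE 0 a3 b4 a5 b6) (y6 0 1) ∨ P.PbCj (pbE 0 a3 b4 a5 b6) (x5 1) := by
  by_cases h3 : a3 = 0
  · subst h3
    by_cases h5 : a5 = 0
    · subst h5
      exact Or.inl (pb_6 _ fun e => h ⟨rfl, rfl, e⟩)
    · exact Or.inr (pb_5 _ _ h5)
  obtain ⟨t, ht⟩ := (σ : K ≃+* K).surjective (a5 / a3)
  exact Or.inr ((pb_8 0 a3 b4 a5 b6 t ((t * a5 + b6) / a3) (a3' := a3) (a5' := 0) (b6' := 0) (by simp)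
    (by simp [ht, h3, CharTwo.add_self_eq_zero]) (by simp [h3]; grind)).trans
    ((pb_n _ _ _ _ _).trans (pb_5 _ _ h3)))

variable (P)

theorem classE {e : Co K} (he : e ∈ E) (hz : e ∉ Z) :
    ∃ c, c * P.nf e * c⁻¹ = P.nf (y6 0 1) ∨ c * P.nf e * c⁻¹ = P.nf (x5 1) := by
  rw [exists_or]
  change P.PbCj _ _ ∨ P.PbCj _ _
  rw [pbE_eq he] at hz ⊢
  generalize e.b2 = b2, e.a3 = a3, e.b4 = b4, e.a5 = a5, e.b6 = b6 at hz ⊢
  by_cases h2 : b2 = 0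
  · subst h2
    exact pb_0 _ _ _ _ fun h => hz (by simp [pbE, h])
  have p := pb_8 (P := P) b2 a3 b4 a5 b6 (a3 / b2)
    ((a3 / b2 * σ (a3 / b2) * b2 + σ (a3 / b2) * a3 + a5) / b2) (a3' := 0) (a5' := 0)
    (by simp [h2, CharTwo.add_self_eq_zero]) (by rw [div_mul_cancel₀ _ h2]; grind) rfl
  generalize _ + b4 = b4', _ + b6 = b6' at p
  obtain ⟨v, hv⟩ := (σ : K ≃+* K).surjective (b6' / b2)
  have q := p.trans ((pb_8 b2 0 b4' 0 b6' 0 v (a3' := 0) (a5' := v * b2) (b6' := 0) (by simp) (by simp)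
    (by simp [hv, h2, CharTwo.add_self_eq_zero])).trans (pb_n _ _ _ _ _))
  exact (pb_0 _ _ _ _ fun h => h2 h.2.2).imp q.trans q.trans

variable {P}

theorem pb_q0 {y : Co K} (hy : y ∈ Q) (h : y * y = 1) (h1 : y.a1 ≠ 0) (h2 : y.a2 = 0) (h6 : y.a6 = 0) :
    P.PbCj y (x1 1) := by
  rw [mem_Q] at hy
  have e7 : y.a7 = 0 := by
    have := congrArg Co.a5 h
    simp [hy, h2, h6] at this
    have : σ y.a7 * y.a1 = 0 := by grind
    simpa [h1] using this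
  have e4 : y.a4 = 0 := by
    have := congrArg Co.b2 h
    simp [hy, h2, h6] at this
    have : y.a4 * y.a1 = 0 := by grind
    simpa [h1] using this
  have e6 : y.b6 = 0 := by
    have := congrArg Co.b4 h
    simp [hy, h2, h6, e7, e4] at this
    have : y.b6 * y.a1 = 0 := by grind
    simpa [h1] using this
  obtain ⟨k, hk⟩ := N_surj y.a1
  have k0 : k ≠ 0 := fun e => h1 (by rw [← hk, e, zero_mul])
  set z := tor 1 (Units.mk0 k k0) y with hz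
  obtain ⟨q, -, e⟩ := conj_x1 (pbE_mem z.b2 z.a3 z.b4 z.a5 0) rfl
  refine (PbCj.d (Units.mk0 k k0) rfl).trans (.of q⁻¹ ?_)
  rw [show tor 1 (Units.mk0 k k0) y = x1 1 * pbE z.b2 z.a3 z.b4 z.a5 0 by
    ext <;> simp [pbE, hz, hy, h2, h6, e7, e4, e6, hk, h1], ← e]
  group

theorem pb_c8 {y : Co K} (hy : y ∈ Q) (h : y * y = 1) (t v : K) :
    ∃ y' ∈ Q, y' * y' = 1 ∧ P.PbCj y y' ∧ y'.a1 = y.a1 ∧ y'.a2 = t * y.a1 + y.a2 ∧
      y'.a6 = t * σ t * y.a1 + σ t * y.a2 + v * y.a1 + y.a6 ∧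
      y'.a7 = t ^ 2 * σ t * y.a1 + t * v * y.a1 + t * y.a6 + v * y.a2 + σ v * y.a1 + y.a7 := by
  rw [mem_Q] at hy
  refine ⟨y8 t v * y * (y8 t v)⁻¹, ?_, by rw [conj_mul, h, mul_one, mul_inv_cancel],
    .of (y8 t v) (by group), ?_, ?_, ?_, ?_⟩ <;> simp [hy] <;> grind

theorem pb_q1 {y : Co K} (hy : y ∈ Q) (h : y * y = 1) (h1 : y.a1 ≠ 0) : P.PbCj y (x1 1) := by
  obtain ⟨y', hy', h', p, e1, e2, e6, -⟩ := pb_c8 (P := P) hy h (y.a2 / y.a1)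
    ((y.a2 / y.a1 * σ (y.a2 / y.a1) * y.a1 + σ (y.a2 / y.a1) * y.a2 + y.a6) / y.a1)
  refine p.trans (pb_q0 hy' h' (e1 ▸ h1) ?_ ?_)
  · rw [e2, div_mul_cancel₀ _ h1, CharTwo.add_self_eq_zero]
  · rw [e6, div_mul_cancel₀ _ h1]; grind

theorem pb_q7 {y : Co K} (hy : y ∈ Q) (h : y * y = 1) (h7 : y.a7 ≠ 0) : P.PbCj y (x1 1) :=
  (PbCj.n hy rfl).trans (pb_q1 (w2_mem y) (by rw [← w2_mul hy hy, h]; ext <;> simp) h7)

variable (P)

theorem classQ {y : Co K} (hy : y ∈ Q) (he : y ∉ E) (h : y * y = 1) :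
    ∃ c, c * P.nf y * c⁻¹ = P.nf (x1 1) := by
  change P.PbCj _ _
  by_cases h1 : y.a1 = 0
  swap
  · exact pb_q1 hy h h1
  by_cases h7 : y.a7 = 0
  swap
  · exact pb_q7 hy h h7
  by_cases h2 : y.a2 = 0
  swap
  · obtain ⟨y', hy', h', p, -, -, -, e⟩ := pb_c8 (P := P) hy h 0 1
    exact p.trans (pb_q7 hy' h' (by simpa [e, h1, h7] using h2))
  by_cases h6 : y.a6 = 0
  swap
  · obtain ⟨y', hy', h', p, -, -, -, e⟩ := pb_c8 (P := P) hy h 1 0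
    exact p.trans (pb_q7 hy' h' (by simpa [e, h1, h7] using h6))
  refine (he ⟨h1, h2, N_eq_zero ?_, h6, h7, hy⟩).elim
  have := congrArg Co.b4 h
  rw [mem_Q] at hy
  simp [hy, h1, h2, h6, h7] at this
  grind

theorem pb_back {D : Subgroup (Co K)} (hD : ∀ c : C, ∀ a ∈ D, ∃ b ∈ D, c * P.nf a * c⁻¹ = P.nf b)
    {c x : C} {a : Co K} (ha : a ∈ D) (e : c * x * c⁻¹ = P.nf a) : x ∈ D.map P.nf := by
  obtain ⟨b, hb, e'⟩ := hD c⁻¹ a ha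
  exact ⟨b, hb, by rw [← e', ← e]; group⟩

theorem pb_a8 {c x : C} {a : Co K} (e : c * x * c⁻¹ = P.nf a) (h : x * x = 1) : a * a = 1 :=
  P.inj (by rw [map_mul, ← e, conj_mul, h, mul_one, mul_inv_cancel, map_one])

theorem pb_a8' {a : Co K} (h : a * a = 1) : a.a8 = 0 := by
  have := congrArg Co.b8 h
  simp at this
  exact N_eq_zero (by grind)

theorem pb_two {B : Subgroup C} (hB : ∀ b ∈ B, b * b = 1) : IsPGroup 2 B := fun x =>
  ⟨1, Subtype.ext (by rw [pow_one, pow_two]; exact hB x x.2)⟩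

theorem classC {y : C} (hy : y ∉ Q.map P.nf) (h : y * y = 1) :
    ∃ c a, a.a8 = 0 ∧ a.b8 ≠ 0 ∧ c * y * c⁻¹ = P.nf a := by
  obtain ⟨c, hc⟩ := P.sylow (Subgroup.zpowers y) (pb_two (by
    rintro _ ⟨n, rfl⟩
    rw [← (Commute.refl y).mul_zpow, h, one_zpow]))
  obtain ⟨a, e⟩ := hc y (Subgroup.mem_zpowers y)
  have h8 := pb_a8' (P.pb_a8 e h)
  exact ⟨c, a, h8, fun b => hy (P.pb_back (fun c _ => P.conj_Q c) ⟨h8, b⟩ e), e⟩

theorem elem_C (B : Subgroup C) (hB : ∀ b ∈ B, b * b = 1) :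
    Nat.card B ≤ Nat.card K * Nat.card ↥(B ⊓ Q.map P.nf) := by
  obtain ⟨c, hc⟩ := P.sylow B (pb_two hB)
  choose a ha using hc
  refine pb_card B _ (fun x => (a x x.2).b8) fun x y e => P.pb_back (fun c _ => P.conj_Q c) (c := c)
    (a := (a x x.2)⁻¹ * a y y.2) ?_ (by rw [map_mul, map_inv, ← ha, ← ha]; group)
  simp [pb_a8' (P.pb_a8 (ha x x.2) (hB x x.2)), pb_a8' (P.pb_a8 (ha y y.2) (hB y y.2)), e,
    CharTwo.add_self_eq_zero]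

theorem elem_Q (B : Subgroup C) (hB : ∀ b ∈ B, b * b = 1) :
    Nat.card ↥(B ⊓ Q.map P.nf) ≤ Nat.card K * Nat.card ↥(B ⊓ E.map P.nf) := by
  by_cases hE : B ⊓ Q.map P.nf ≤ E.map P.nf
  · exact (Subgroup.card_le_of_le (le_inf inf_le_left hE)).trans (Nat.le_mul_of_pos_left _ Nat.card_pos)
  obtain ⟨_, ⟨hy, y, hq, rfl⟩, hn⟩ := SetLike.not_le_iff_exists.1 hE
  obtain ⟨c, hc⟩ := P.classQ hq (fun e => hn ⟨y, e, rfl⟩) (P.inj (by rw [map_mul, hB _ hy, map_one]))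
  have cm : ∀ x ∈ B, ∀ z ∈ B, x * z = z * x := fun x hx z hz => by
    rw [← inv_eq_of_mul_eq_one_right (hB _ (mul_mem hx hz)), mul_inv_rev, inv_eq_of_mul_eq_one_right (hB _ hx),
      inv_eq_of_mul_eq_one_right (hB _ hz)]
  have ex : ∀ x : ↥(B ⊓ Q.map P.nf), ∃ a : Co K, (a.a2 = 0 ∧ a.a4 = 0 ∧ a.a6 = 0 ∧ a.a7 = 0 ∧ a.a8 = 0 ∧
      a.b8 = 0) ∧ c * x * c⁻¹ = P.nf a := by
    rintro ⟨_, hx, b, hb, rfl⟩
    obtain ⟨a, ha, e⟩ := P.conj_Q c hb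
    have h1 := P.pb_a8 e (hB _ hx)
    have h2 : a * x1 1 = x1 1 * a := P.inj (by
      rw [map_mul, map_mul, ← e, ← hc, conj_mul, conj_mul, cm _ hx _ hy])
    rw [mem_Q] at ha
    have e7 : a.a7 = 0 := by simpa [ha] using congrArg Co.a5 h2
    have e6 : a.a6 = 0 := by simpa [ha, e7] using congrArg Co.a3 h2
    have e4 : a.a4 = 0 := by simpa [ha, e7, e6] using congrArg Co.b2 h2
    refine ⟨a, ⟨N_eq_zero ?_, e4, e6, e7, ha⟩, e⟩
    have := congrArg Co.b2 h1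
    simp [ha, e4, e6] at this
    grind
  choose a h ha using ex
  refine (pb_card _ (E.map P.nf) (fun x => (a x).a1) fun x y e => P.pb_back (fun c _ => P.conj_E c) (c := c)
    (a := (a x)⁻¹ * a y) ?_ (by rw [map_mul, map_inv, ← ha, ← ha]; group)).trans
    (Nat.mul_le_mul_left _ (Subgroup.card_le_of_le (inf_le_inf_right _ inf_le_left)))
  simp [h x, h y, e, CharTwo.add_self_eq_zero]

end Par

end H78.Oct
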