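import Mathlib
import Cfsg.Agent.Lib.Oct.PB
import Cfsg.Agent.Lib.Oct.HA

/-!
# Fusion: inside E
-/

set_option autoImplicit false
set_option linter.unusedSectionVars false

namespace H78.Oct

open Co

variable {K C G : Type*} [Field K] [Tits K] [Finite K] [Group C] [Finite C] [Group G] [Finite G]
  {P : Par K C} {ι : C →* G}

namespace FC

theorem dual4 {u v : Fin 4 → K} (hu : u ≠ 0) (h : ∀ l : K, v ≠ l • u) (t : K) :
    ∃ a : Fin 4 → K, u ⬝ᵥ a = 0 ∧ v ⬝ᵥ a = t := by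
  obtain ⟨i, hi⟩ := Function.ne_iff.1 hu
  obtain ⟨j, hj⟩ := Function.ne_iff.1 (h (v i / u i))
  have hi : u i ≠ 0 := hi
  have m : v j * u i - v i * u j ≠ 0 := fun e => hj (by simp only [Pi.smul_apply, smul_eq_mul]; field_simp; grind)
  refine ⟨(t / (v j * u i - v i * u j)) • (Pi.single j (u i) - Pi.single i (u j)), ?_, ?_⟩ <;>
    simp only [dotProduct_smul, dotProduct_sub, dotProduct_single, smul_eq_mul]
  · ring
  · exact div_mul_cancel₀ _ m

theorem EQ {e a : Co K} (he : e ∈ E) (ha : a ∈ Q) :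
    a * e = e * y4 0 (e.b2 * a.a7 + e.a3 * a.a6 + e.a5 * a.a2 + e.b6 * a.a1) * a := by
  rw [mem_E] at he
  rw [mem_Q] at ha
  ext <;> simp [he, ha] <;> grind

theorem z0 : (y4 0 0 : Co K) = 1 := by ext <;> simp

theorem EF {e a : Co K} (he : e ∈ E) (ha : a ∈ F) : a * e = e * a := by
  rw [mem_F] at ha
  rw [EQ he ⟨ha.2.2.2.2.1, ha.2.2.2.2.2⟩]
  simp [ha, z0]

theorem E_le : (E : Subgroup (Co K)) ≤ F := fun _ h => by simp_all

theorem E_sq {e : Co K} (he : e ∈ E) : e * e = 1 := by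
  rw [mem_E] at he
  ext <;> simp [he] <;> grind

theorem F_sq {a : Co K} (ha : a ∈ F) : a * a = y4 0 (a.a4 * σ a.a4) := by
  rw [mem_F] at ha
  ext <;> simp [ha] <;> grind

theorem Z_eq {e : Co K} (he : e ∈ Z) : e = y4 0 e.b4 := by
  rw [mem_Z] at he
  ext <;> simp [he]

theorem inv46 {x : Co K} (h1 : x.a1 = 0) (h2 : x.a2 = 0) (h8 : x.a8 = 0) (h9 : x.b8 = 0) (h : x * x = 1) :
    x.a6 = 0 ∧ x.a4 = 0 := by
  have e1 := congrArg Co.a5 h
  have e2 := congrArg Co.b6 h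
  have e3 := congrArg Co.b4 h
  simp [h1, h2, h8, h9] at e1 e2 e3
  by_cases h4 : x.a4 = 0
  · exact ⟨N_eq_zero (by grind), h4⟩
  · have h6 : x.a6 = 0 := by grind
    have h7 : x.a7 = 0 := by grind
    exact absurd (N_eq_zero (by grind)) h4

theorem conjF (P : Par K C) (c : C) {a : Co K} (ha : a ∈ F) :
    ∃ e ∈ E, c * P.nf a * c⁻¹ * (P.nf a)⁻¹ = P.nf e := by
  obtain ⟨b, hb, e⟩ := P.conj_F c ha
  have : b * b = a * a := P.inj (by
    rw [map_mul, ← e, conj_mul, ← map_mul, F_sq ha, (P.z_comm c _).eq, mul_inv_cancel_right])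
  rw [F_sq ha, F_sq hb] at this
  have h4 : b.a4 = a.a4 := N_inj (congrArg Co.b4 this)
  refine ⟨b * a⁻¹, ?_, by rw [e, map_mul, map_inv]⟩
  rw [mem_F] at ha hb
  simp [ha, hb, h4, CharTwo.add_self_eq_zero]

theorem two_le : 2 ≤ Nat.card K := Finite.one_lt_card

variable (H : Hyp P ι)
include H

theorem inj2 {a b : Co K} (h : ι (P.nf a) = ι (P.nf b)) : a = b := P.inj (H.inj h)

theorem pull {g : G} {e a : Co K} (h : g * ι P.z * g⁻¹ = ι (P.nf e)) (ha : a * e = e * a) :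
    ∃ c, ι (P.nf a) = g * ι c * g⁻¹ := by
  obtain ⟨c, hc⟩ := H.mem_of_two (g := g⁻¹ * ι (P.nf a) * g) (j := 4) (by
    have : ι (P.nf a) * (g * ι P.z * g⁻¹) = g * ι P.z * g⁻¹ * ι (P.nf a) := by
      rw [h, ← map_mul, ← map_mul, ha, map_mul, map_mul]
    show _ = _
    rw [show g⁻¹ * ι (P.nf a) * g * ι P.z = g⁻¹ * (ι (P.nf a) * (g * ι P.z * g⁻¹)) * g by group, this]
    group) (by
      have := conj_pow (a := g⁻¹) (b := ι (P.nf a)) (i := 2 ^ 4)
      rw [inv_inv] at this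
      rw [this, ← map_pow, ← map_pow, show a ^ 2 ^ 4 = 1 from pow_16 a]; simp)
  exact ⟨c, by rw [← hc]; group⟩

end FC

open FC

theorem Hyp.z_mem (H : Hyp P ι) {g : G} {e : Co K} (he : e ∈ E) (hz : e ∉ Z)
    (h : g * ι P.z * g⁻¹ = ι (P.nf e)) (t : K) :
    ∃ e' ∈ E, ι (P.nf (y4 0 t)) = g * ι (P.nf e') * g⁻¹ := by
  let B : Subgroup C := (E.map (ι.comp P.nf)).comap ((MulAut.conj g).toMonoidHom.comp ι)
  have mB : ∀ b ∈ B, ∃ a ∈ E, ι (P.nf a) = g * ι b * g⁻¹ := fun b hb => hb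
  have sq : ∀ b ∈ B, b * b = 1 := fun b hb => H.inj (by
    obtain ⟨a, ha, e⟩ := mB b hb
    have := congrArg (fun x => ι (P.nf x)) (E_sq ha)
    simp only [map_mul, e, conj_mul, map_one] at this
    simpa using this)
  have c1 : Nat.card K ^ 5 ≤ Nat.card B := by
    choose c hc using fun a : (E : Subgroup (Co K)) => pull H h (EF he (E_le a.2))
    rw [← card_E]
    exact Nat.card_le_card_of_injective (fun a => (⟨c a, a, a.2, hc a⟩ : B)) fun a b e =>
      Subtype.ext (inj2 H (by rw [hc, hc, show c a = c b from congrArg Subtype.val e]))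
  have c2 := P.elem_C B sq
  have c3 := P.elem_Q B sq
  obtain ⟨d, hd, e', he', k, n⟩ : ∃ d ∈ E, ∃ e' ∈ E, ι (P.nf d) = g * ι (P.nf e') * g⁻¹ ∧
      ∀ l : K, ![d.b2, d.a3, d.a5, d.b6] ≠ l • ![e.b2, e.a3, e.a5, e.b6] := by
    by_contra! hn
    have : ∀ b : ↥(B ⊓ E.map P.nf), ∃ d ∈ E, ∃ l : K, ι (P.nf d) = g * ι b * g⁻¹ ∧
        ![d.b2, d.a3, d.a5, d.b6] = l • ![e.b2, e.a3, e.a5, e.b6] := fun ⟨b, hb, e', he', k⟩ => by
      obtain ⟨d, hd, r⟩ := mB b hb
      obtain ⟨l, hl⟩ := hn d hd e' he' (k ▸ r)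
      exact ⟨d, hd, l, r, hl⟩
    choose d hd l r hl using this
    have c4 := Nat.card_le_card_of_injective (fun b => (l b, (d b).b4)) fun b b' e => by
      have e1 := (hl b).trans ((congrArg (· • _) (Prod.ext_iff.1 e).1).trans (hl b').symm)
      have : d b = d b' := by
        have h1 := hd b
        have h2 := hd b'
        rw [mem_E] at h1 h2
        have k0 : (d b).b2 = (d b').b2 := congrFun e1 0
        have k1 : (d b).a3 = (d b').a3 := congrFun e1 1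
        have k2 : (d b).a5 = (d b').a5 := congrFun e1 2
        have k3 : (d b).b6 = (d b').b6 := congrFun e1 3
        have k4 : (d b).b4 = (d b').b4 := (Prod.ext_iff.1 e).2
        ext <;> simp only [h1, h2, k0, k1, k2, k3, k4]
      exact Subtype.ext (H.inj (mul_left_cancel (mul_right_cancel ((r b).symm.trans (this ▸ r b')))))
    rw [Nat.card_prod] at c4
    have c5 := c1.trans (c2.trans (Nat.mul_le_mul_left _ (c3.trans (Nat.mul_le_mul_left _ c4))))
    have := Nat.pow_lt_pow_right (two_le (K := K)) (show 4 < 5 by norm_num)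
    nlinarith
  obtain ⟨a, a1, a2⟩ := dual4 (u := ![e.b2, e.a3, e.a5, e.b6]) (fun k => hz (by
    rw [mem_E] at he
    have := congrFun k
    simp [he, this 0, show e.b2 = 0 from this 0, show e.a3 = 0 from this 1, show e.a5 = 0 from this 2,
      show e.b6 = 0 from this 3])) n t
  simp only [dotProduct, Fin.sum_univ_four, Matrix.cons_val] at a1 a2
  have q : (⟨a 3, a 2, 0, 0, 0, 0, 0, a 1, 0, a 0, 0, 0⟩ : Co K) ∈ Q := ⟨rfl, rfl⟩
  obtain ⟨c, hc⟩ := pull H h (by rw [EQ he q, a1, z0, mul_one])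
  obtain ⟨b, hb, eb⟩ := P.conj_E c he'
  have := EQ hd q
  rw [a2, ← mul_inv_eq_iff_eq_mul, ← inv_mul_eq_iff_eq_mul] at this
  refine ⟨_, mul_mem (inv_mem he') hb, ?_⟩
  simp only [← this, map_mul, map_inv, hc, k, ← eb]
  group

theorem Hyp.not_x5 (H : Hyp P ι) (g : G) : g * ι P.z * g⁻¹ ≠ ι (P.nf (x5 1)) := fun h => by
  obtain ⟨e0, he0, k0⟩ := H.z_mem (by simp) (by simp) h 1
  have K1 : ∀ f ∈ F, ∃ φ : Co K, φ.a1 = 0 ∧ φ.a2 = 0 ∧ φ.a8 = 0 ∧ φ.b8 = 0 ∧
      g * ι (P.nf f) * g⁻¹ = ι (P.nf φ) := fun f hf => by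
    obtain ⟨c, hc⟩ := H.mem_of_two (g := g * ι (P.nf f) * g⁻¹) (j := 4) (by
      show _ * ι (P.nf _) = ι (P.nf _) * _
      rw [k0, conj_mul, conj_mul, ← map_mul, ← map_mul, EF he0 hf, map_mul, map_mul])
      (by rw [conj_pow, ← map_pow, ← map_pow, show f ^ 2 ^ 4 = 1 from pow_16 f]; simp)
    have cx : Commute c (P.nf (x5 1)) := H.inj (by
      rw [map_mul, map_mul, ← hc, ← h, conj_mul, conj_mul, ← map_mul, ← map_mul, Par.z, (P.z_comm _ 1).eq])
    obtain ⟨φ, h8, rfl⟩ := P.cent_x5 cx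
    have k : ∀ r : Co K, r * x5 1 = x5 1 * r → ∃ ε : Co K, ε * ε = 1 ∧ ε * φ * r = r * φ := fun r hr => by
      obtain ⟨c, er⟩ := pull H h hr
      obtain ⟨e, he, ee⟩ := conjF P c hf
      refine ⟨r * φ * r⁻¹ * φ⁻¹, inj2 H ?_, by group⟩
      have : ι (P.nf (r * φ * r⁻¹ * φ⁻¹)) = g * ι (P.nf e) * g⁻¹ := by
        simp only [map_mul, map_inv, er, ← hc, ← ee]; group
      rw [map_mul, map_mul, this, conj_mul, ← map_mul, ← map_mul, E_sq he]; simp
    have k' : ∀ r ε : Co K, r.a8 = 0 → ε * ε = 1 → ε * φ * r = r * φ → ε.a6 = 0 := fun r ε h0 h1 h2 => by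
      have e1 := congrArg Co.a1 h2
      have e2 := congrArg Co.a2 h2
      have e3 := congrArg Co.a8 h2
      have e4 := congrArg Co.b8 h2
      simp [h0, h8] at e1 e2 e3 e4
      exact (inv46 (by grind) (by grind) e3 (by grind) h1).1
    obtain ⟨ε, h1, h2⟩ := k (x1 1) (by ext <;> simp)
    obtain ⟨ε', h1', h2'⟩ := k (y8 0 1) (by ext <;> simp)
    have e1 := congrArg Co.a6 h2
    have e2 := congrArg Co.a6 h2'
    have e3 := congrArg Co.b4 (P.inj (by rw [map_mul, map_mul]; exact cx) : φ * x5 1 = x5 1 * φ)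
    have e4 := congrArg Co.a8 h2
    have e5 := congrArg Co.b8 h2
    have e6 := congrArg Co.a8 h2'
    have e7 := congrArg Co.b8 h2'
    simp [h8, k' _ _ rfl h1 h2, k' _ _ rfl h1' h2'] at e1 e2 e3 e4 e5 e6 e7
    exact ⟨φ, by grind, by grind, h8, by grind, hc⟩
  obtain ⟨f, f1, f2, f8, f9, ef⟩ := K1 (y4 1 0) (by simp)
  have f46 : f.a6 * f.a4 = 1 := by
    have : f * f = x5 1 := inj2 H (by
      rw [map_mul, map_mul, ← ef, conj_mul, ← map_mul, ← map_mul, F_sq (by simp), ← h]; simp [Par.z])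
    have := congrArg Co.a5 this
    simp [f1, f2, f8, f9] at this
    grind
  choose φ p1 p2 p8 p9 eφ using fun e : (E : Subgroup (Co K)) => K1 e (E_le e.2)
  have p46 := fun e => inv46 (p1 e) (p2 e) (p8 e) (p9 e) (inj2 H (by
    rw [map_mul, map_mul, ← eφ, conj_mul, ← map_mul, ← map_mul, E_sq e.2]; simp))
  have p73 : ∀ e, (φ e).a7 = 0 ∧ f.a6 * (φ e).a3 = f.a7 * (φ e).b2 := fun e => by
    have : f * φ e = φ e * f := inj2 H (by
      rw [map_mul, map_mul, map_mul, map_mul, ← eφ, ← ef, conj_mul, conj_mul, ← map_mul, ← map_mul,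
        EF e.2 (by simp), map_mul, map_mul])
    have e1 := congrArg Co.b6 this
    have e2 := congrArg Co.b4 this
    simp [f1, f2, f8, f9, p1 e, p2 e, p8 e, p9 e, p46 e] at e1 e2
    grind
  have c := Nat.card_le_card_of_injective (fun e => ((φ e).b2, (φ e).b4, (φ e).a5, (φ e).b6)) fun e e' k => by
    simp only [Prod.mk.injEq] at k
    have : φ e = φ e' := by
      have k3 : (φ e).a3 = (φ e').a3 := by
        have := (p73 e).2
        have := (p73 e').2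
        grind
      ext <;> simp only [p1, p2, p8, p9, p46, fun e => (p73 e).1, k, k3]
    exact Subtype.ext (inj2 H (mul_left_cancel (mul_right_cancel ((eφ e).trans (this ▸ (eφ e').symm)))))
  simp only [Nat.card_prod, card_E] at c
  have := Nat.pow_lt_pow_right (two_le (K := K)) (show 4 < 5 by norm_num)
  nlinarith

theorem Hyp.swap (H : Hyp P ι) {g : G} {e : Co K} (he : e ∈ E) (hz : e ∉ Z)
    (h : g * ι P.z * g⁻¹ = ι (P.nf e)) :
    ∃ g : G, g * ι P.z * g⁻¹ = ι (P.nf (y6 0 1)) ∧ g * ι (P.nf (y6 0 1)) * g⁻¹ = ι P.z := by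
  have k : ∀ {g : G} {e : Co K}, e ∈ E → e ∉ Z → g * ι P.z * g⁻¹ = ι (P.nf e) →
      ∃ c, c * P.nf e * c⁻¹ = P.nf (y6 0 1) := fun {g e} he hz h =>
    (P.classE he hz).imp fun c hc => hc.resolve_right fun r => H.not_x5 (ι c * g) (by
      rw [← r, map_mul, map_mul, map_inv, ← h]; group)
  obtain ⟨c, hc⟩ := k he hz h
  have h1 : ι c * g * ι P.z * (ι c * g)⁻¹ = ι (P.nf (y6 0 1)) := by
    rw [← hc, map_mul, map_mul, map_inv, ← h]; group
  generalize ι c * g = g at h1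
  obtain ⟨e', he', k0⟩ := H.z_mem (by simp) (by simp) h1 1
  have k1 : g⁻¹ * ι P.z * g⁻¹⁻¹ = ι (P.nf e') := by rw [Par.z, k0]; group
  obtain ⟨c, hc⟩ := k he' (fun hz => by
    obtain ⟨α, hα⟩ := H.aut (g := g) (by simpa using (H.nm_of_Z (k1.trans (by rw [← Z_eq hz]))).inv)
    obtain ⟨u, hu⟩ := P.aut_Z α 1
    have := congrArg Co.b6 (inj2 H (h1.symm.trans ((hα _).trans (congrArg ι hu))))
    simp at this) k1
  refine ⟨g * (ι c)⁻¹, ?_, ?_⟩
  · rw [← h1, mul_assoc g, ← map_inv, ← map_mul, Par.z, (P.z_comm _ 1).eq, map_mul, map_inv]; group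
  · rw [← hc, Par.z, k0, map_mul, map_mul, map_inv]; group

/-- The centralizer of `τ` is the product of `C` and the centralizer of `τ` and `z₆`. -/
theorem Hyp.fratt (H : Hyp P ι) {n : G} (hn : n * ι P.z * n⁻¹ = ι (P.nf (y6 0 1))) {m : G}
    (hm : Commute m (ι P.z)) : ∃ c, Commute (ι c * m) (ι (P.nf (y6 0 1))) := by
  obtain ⟨α, hα⟩ := H.aut (H.norm m hm)
  obtain ⟨b, hb, e⟩ := P.aut_E α (a := y6 0 1) (by simp)
  obtain ⟨c, hc⟩ := P.classE hb fun hz => by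
    obtain ⟨u, hu⟩ := P.aut_Z α⁻¹ b.b4
    rw [← Z_eq hz, ← e, MulAut.inv_apply_self] at hu
    simpa using congrArg Co.b6 (P.inj hu)
  have k : ι c * m * ι (P.nf (y6 0 1)) * (ι c * m)⁻¹ = ι (c * P.nf b * c⁻¹) := by
    rw [← e, map_mul, map_mul, map_inv, ← hα]; group
  rcases hc with r | r
  · exact ⟨c, mul_inv_eq_iff_eq_mul.1 (r ▸ k)⟩
  · exact absurd (by rw [← r, ← k, ← hn]; group) (H.not_x5 (ι c * m * n))

end H78.Oct
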