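import Mathlib
import Cfsg.Agent.Lib.Oct.FC
import Cfsg.Agent.Lib.Inv73.Transfer

/-!
# The case q = 2: a subgroup of index two
-/

set_option autoImplicit false
set_option linter.unusedSectionVars false

namespace H78.Oct

open Co

variable {K C G : Type*} [Field K] [Tits K] [Finite K] [Group C] [Finite C] [Group G] [Finite G]
  {P : Par K C} {ι : C →* G}

theorem Q2_prod {X A : Type*} [Fintype X] [Group A] [MulAction A X] (hA : IsPGroup 2 A) (f : X → ℤˣ)
    (hf : ∀ (a : A) x, f (a • x) = f x) (h1 : ∀ x, (∀ a : A, a • x = x) → f x = 1) : ∏ x, f x = 1 := by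
  classical
  have : Fact (Nat.Prime 2) := ⟨Nat.prime_two⟩
  let S : SubMulAction A X := ⟨{x | f x = -1}, fun a x h => (hf a x).trans h⟩
  have c2 := hA.card_modEq_card_fixedPoints S
  have c1 : Nat.card (MulAction.fixedPoints A S) = 0 := by
    rw [Nat.card_eq_zero]
    exact Or.inl ⟨fun ⟨⟨x, hx⟩, h⟩ =>
      absurd ((h1 x fun a => congrArg Subtype.val (h a)).symm.trans hx) (by decide)⟩
  rw [c1, show Nat.card S = (Finset.univ.filter fun x : X => f x = -1).card from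
    Nat.subtype_card _ fun q => by simp only [Finset.mem_filter, Finset.mem_univ, true_and]; rfl] at c2
  rw [← Finset.prod_filter_mul_prod_filter_not _ fun x : X => f x = -1,
    Finset.prod_eq_pow_card fun q hq => (Finset.mem_filter.1 hq).2,
    Finset.prod_eq_one fun q hq => (Int.units_eq_one_or _).resolve_right (Finset.mem_filter.1 hq).2, mul_one]
  exact (Nat.even_iff.2 c2).neg_one_pow

/-- An extremal form of the Thompson transfer lemma for elements of order four. -/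
theorem transfer4 {S : Subgroup G} (hS : Odd S.index) (χ : S →* ℤˣ) (hχ : ∀ s : S, s * s = 1 → χ s = 1)
    {u : G} (hu : u ^ 4 = 1) {A : Subgroup G} (hA : IsPGroup 2 A) (hc : ∀ a ∈ A, Commute a u)
    (h : ∀ g : G, (∀ a ∈ A, g⁻¹ * a * g ∈ S) → ∀ hg : g⁻¹ * u * g ∈ S, χ ⟨_, hg⟩ = -1) :
    ∃ N : Subgroup G, N.index = 2 ∧ u ∉ N := by
  classical
  have : Fact (Nat.Prime 2) := ⟨Nat.prime_two⟩
  have := S.fintypeQuotientOfFiniteIndex
  have : Fintype (Quotient (MulAction.orbitRel (Subgroup.zpowers u) (G ⧸ S))) := Fintype.ofFinite _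
  have hfix : ∀ x g : G, x • (g : G ⧸ S) = g ↔ g⁻¹ * x * g ∈ S := fun x g => by
    rw [MulAction.Quotient.smul_mk, QuotientGroup.eq, ← S.inv_mem_iff]
    simp [mul_assoc]
  let f : G ⧸ S → ℤˣ := fun ω =>
    if ∃ g : G, ω = g ∧ ∃ hg : g⁻¹ * u * g ∈ S, χ ⟨_, hg⟩ = -1 then -1 else 1
  have f1 : ∀ (g : G) (hg : g⁻¹ * u * g ∈ S), f g = χ ⟨_, hg⟩ := fun g hg => by
    by_cases e : χ ⟨_, hg⟩ = -1
    · exact (if_pos ⟨g, rfl, hg, e⟩).trans e.symm
    · refine (if_neg ?_).trans ((Int.units_eq_one_or _).resolve_right e).symm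
      rintro ⟨g', e', hg', e''⟩
      have m := QuotientGroup.eq.1 e'
      apply e
      rw [show (⟨_, hg⟩ : S) = ⟨_, m⟩ * ⟨_, hg'⟩ * ⟨_, m⟩⁻¹ from Subtype.ext (by simp [mul_assoc]),
        map_mul, map_mul, e'', mul_right_comm, ← map_mul, mul_inv_cancel, map_one, one_mul]
  have f2 : ∀ ω : G ⧸ S, u • ω ≠ ω → f ω = 1 := fun ω hω =>
    if_neg fun ⟨g, e, hg, _⟩ => hω (by rw [e]; exact (hfix u g).2 hg)
  have f3 : ∀ y : G, Commute y u → ∀ ω, f (y • ω) = f ω := fun y hy ω => by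
    obtain ⟨g, rfl⟩ := QuotientGroup.mk_surjective ω
    have e : (y * g)⁻¹ * u * (y * g) = g⁻¹ * u * g := by
      rw [mul_assoc, ← mul_assoc u, ← hy.eq]; group
    by_cases hg : g⁻¹ * u * g ∈ S
    · exact (f1 (y * g) (e ▸ hg)).trans ((congrArg χ (Subtype.ext e)).trans (f1 g hg).symm)
    · rw [f2 g (mt (hfix u g).1 hg)]
      exact f2 (y * g : G) (mt (hfix u _).1 (e ▸ hg))
  have hU : IsPGroup 2 (Subgroup.zpowers u) := by
    rintro ⟨_, k, rfl⟩
    refine ⟨2, Subtype.ext ?_⟩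
    show (u ^ k) ^ 4 = 1
    rw [← zpow_natCast, ← zpow_mul, mul_comm, zpow_mul, zpow_natCast, hu, one_zpow]
  have hB : IsPGroup 2 (A ⊔ Subgroup.zpowers u : Subgroup G) := by
    refine hA.to_sup_of_normal_left' hU ?_
    rw [Subgroup.zpowers_le]
    refine Subgroup.centralizer_le_normalizer _ ?_
    exact fun a ha => (hc a ha).eq
  have hle : A ⊔ Subgroup.zpowers u ≤ Subgroup.centralizer {u} := by
    rw [sup_le_iff, Subgroup.zpowers_le]
    exact ⟨fun a ha => Subgroup.mem_centralizer_singleton_iff.2 (hc a ha).eq,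
      Subgroup.mem_centralizer_singleton_iff.2 rfl⟩
  have p1 := Q2_prod hB (fun ω => -1 * f ω)
    (fun a ω => congrArg _ (f3 a (Subgroup.mem_centralizer_singleton_iff.1 (hle a.2)) ω)) (fun ω hω => by
      obtain ⟨g, rfl⟩ := QuotientGroup.mk_surjective ω
      have hg := (hfix u g).1 (hω ⟨u, Subgroup.mem_sup_right (Subgroup.mem_zpowers u)⟩)
      rw [f1 g hg, h g (fun a ha => (hfix a g).1 (hω ⟨a, Subgroup.mem_sup_left ha⟩)) hg]
      decide)
  rw [Finset.prod_mul_distrib, Finset.prod_const, Finset.card_univ, ← Nat.card_eq_fintype_card,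
    ← Subgroup.index_eq_card, hS.neg_one_pow] at p1
  have key : MonoidHom.transfer χ u = -1 := by
    rw [MonoidHom.transfer_eq_prod_quotient_orbitRel_zpowers_quot]
    refine (Finset.prod_of_injOn Quotient.out (g := f) (t := Finset.univ)
      Quotient.out_injective.injOn (fun _ _ => by simp) (fun ω _ hω => ?_) (fun q _ => ?_)).trans ?_
    · refine f2 ω fun e => hω ⟨Quotient.mk'' ω, by simp, ?_⟩
      obtain ⟨⟨_, k, rfl⟩, e'⟩ := Quotient.mk_out' (s₁ := MulAction.orbitRel (Subgroup.zpowers u) (G ⧸ S)) ω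
      rw [← e']
      show u ^ k • ω = ω
      exact MulAction.zpow_smul_eq_iff_minimalPeriod_dvd.2 (by
        rw [Function.minimalPeriod_eq_one_iff_isFixedPt.2 e]; simp)
    · have hord : Function.minimalPeriod (u • ·) q.out ∣ 2 ^ 2 :=
        MulAction.pow_smul_eq_iff_minimalPeriod_dvd.1 (by rw [show 2 ^ 2 = 4 from rfl, hu, one_smul])
      by_cases e : u • q.out = q.out
      · have e1 := Function.minimalPeriod_eq_one_iff_isFixedPt.2 e
        have hg : q.out.out⁻¹ * u * q.out.out ∈ S := (hfix u _).1 (by rw [QuotientGroup.out_eq']; exact e)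
        have := f1 _ hg
        rw [QuotientGroup.out_eq'] at this
        rw [this]
        exact congrArg χ (Subtype.ext (by simp only [e1, pow_one]))
      · rw [f2 _ e]
        apply hχ
        obtain ⟨i, hi, e2⟩ := (Nat.dvd_prime_pow Nat.prime_two).1 hord
        have : i ≠ 0 := by
          rintro rfl
          exact e (Function.minimalPeriod_eq_one_iff_isFixedPt.1 e2)
        obtain ⟨j, rfl⟩ := Nat.exists_eq_succ_of_ne_zero this
        apply Subtype.ext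
        simp only [e2, Subgroup.coe_mul, Subgroup.coe_one]
        rw [show ∀ x y : G, x⁻¹ * y * x * (x⁻¹ * y * x) = x⁻¹ * (y * y) * x from fun x y => by group,
          ← pow_add, show 2 ^ j.succ + 2 ^ j.succ = 4 * 2 ^ j by rw [pow_succ]; ring, pow_mul, hu]
        simp
    · rcases Int.units_eq_one_or (∏ ω, f ω) with e | e
      · rw [e] at p1; exact absurd p1 (by decide)
      · exact e
  refine ⟨(MonoidHom.transfer χ).ker, H73.index_ker_eq_two _ key, ?_⟩
  rw [MonoidHom.mem_ker, key]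
  decide

theorem Q2_σ (hK : ∀ x : K, x = 0 ∨ x = 1) (x : K) : σ x = x := by
  rcases hK x with rfl | rfl <;> simp

theorem Q2_mm (hK : ∀ x : K, x = 0 ∨ x = 1) (x : K) : x * x = x := by
  rcases hK x with rfl | rfl <;> simp

theorem Q2_add (hK : ∀ x : K, x = 0 ∨ x = 1) (x y : Co K) :
    (x * y).a2 + (x * y).a4 + (x * y).a6 + (x * y).a8 =
      (x.a2 + x.a4 + x.a6 + x.a8) + (y.a2 + y.a4 + y.a6 + y.a8) := by
  have := Q2_mm hK x.a8
  simp only [mul_a2, mul_a4, mul_a6, mul_a8, Q2_σ hK]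
  grind

theorem Q2_sq (hK : ∀ x : K, x = 0 ∨ x = 1) {a : Co K} (h : a * a = 1) :
    a.a2 + a.a4 + a.a6 + a.a8 = 0 := by
  have h8 : a.a8 = 0 := by
    have := congrArg Co.b8 h
    have := Q2_mm hK a.a8
    simp only [mul_b8, Q2_σ hK, one_b8] at *
    grind
  have e1 := congrArg Co.b2 h
  have e2 := congrArg Co.a3 h
  have e3 := congrArg Co.a4 h
  have e4 := congrArg Co.b4 h
  have e5 := congrArg Co.a5 h
  have e6 := congrArg Co.b6 h
  have e7 := congrArg Co.a7 h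
  have m2 := Q2_mm hK a.a2
  have m4 := Q2_mm hK a.a4
  have m6 := Q2_mm hK a.a6
  have m7 := Q2_mm hK a.a7
  rcases hK a.a1 with h1 | h1 <;> rcases hK a.b8 with h2 | h2 <;>
    simp [h8, h1, h2, Q2_σ hK] at e1 e2 e3 e4 e5 e6 e7 <;> grind

theorem Q2_star (hK : ∀ x : K, x = 0 ∨ x = 1) {a : Co K} (h1 : a ∈ R) (h : a * a = y6 0 1)
    (h0 : a.a2 + a.a4 + a.a6 + a.a8 = 0) : a * x3 1 * a = x3 1 := by
  rw [mem_R] at h1
  have h8 : a.a8 = 0 := by
    have := congrArg Co.b8 h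
    have := Q2_mm hK a.a8
    simp only [mul_b8, Q2_σ hK, y6_b8] at *
    grind
  have e1 := congrArg Co.b2 h
  have e2 := congrArg Co.a3 h
  have e4 := congrArg Co.b4 h
  have e5 := congrArg Co.a5 h
  have e6 := congrArg Co.b6 h
  have e7 := congrArg Co.a7 h
  have h3 : a.a2 = 0 := by
    have := Q2_mm hK a.a2
    simp [h8, h1, Q2_σ hK] at e1
    grind
  have m4 := Q2_mm hK a.a4
  have m6 := Q2_mm hK a.a6
  have m7 := Q2_mm hK a.a7
  rcases hK a.b8 with h2 | h2 <;> simp [h1, h2, h3, h8, Q2_σ hK] at e2 e4 e5 e6 e7 h0 <;>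
    ext <;> simp [h1, h2, h3, h8, Q2_σ hK] <;> grind

theorem Q2_noinv (hK : ∀ x : K, x = 0 ∨ x = 1) (a : Co K) : y4 1 0 * a * y4 1 0 ≠ a := by
  intro h
  have e1 := congrArg Co.b2 h
  have e2 := congrArg Co.a3 h
  have e4 := congrArg Co.b4 h
  have e5 := congrArg Co.a5 h
  have e6 := congrArg Co.b6 h
  simp [Q2_σ hK] at e1 e2 e4 e5 e6
  grind

theorem Q2_chi (hK : ∀ x : K, x = 0 ∨ x = 1) : ∃ χ : Co K →* ℤˣ, ∀ a : Co K,
    (a.a2 + a.a4 + a.a6 + a.a8 = 0 → χ a = 1) ∧ (a.a2 + a.a4 + a.a6 + a.a8 ≠ 0 → χ a = -1) := by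
  classical
  refine ⟨MonoidHom.mk' (fun a => if a.a2 + a.a4 + a.a6 + a.a8 = 0 then 1 else -1) fun a b => ?_,
    fun a => ⟨fun h => if_pos h, fun h => if_neg h⟩⟩
  rw [Q2_add hK]
  rcases hK (a.a2 + a.a4 + a.a6 + a.a8) with h | h <;> rcases hK (b.a2 + b.a4 + b.a6 + b.a8) with h' | h' <;>
    simp [h, h', CharTwo.add_self_eq_zero]

theorem Q2_conj (hK : ∀ x : K, x = 0 ∨ x = 1) {χ : Co K →* ℤˣ} (hχ : ∀ a ∈ Q, χ (w2 a) = χ a) {c : C}
    {a b : Co K} (h : c * P.nf a * c⁻¹ = P.nf b) : χ a = χ b := by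
  have hd : ∀ k : Kˣ, P.d k = 1 := fun k => by
    rw [show k = 1 from Units.ext ((hK k).resolve_left k.ne_zero), map_one]
  have hc : ∀ x y : Co K, χ (x * y * x⁻¹) = χ y := fun x y => by
    rw [map_mul, map_mul, mul_right_comm, ← map_mul, mul_inv_cancel, map_one, one_mul]
  rcases P.bruhat c with ⟨x, k, rfl⟩ | ⟨x, k, t, v, rfl⟩
  · rw [hd, mul_one, ← map_inv, ← map_mul, ← map_mul] at h
    rw [← P.inj h, hc]
  · have e : P.n * P.nf (y8 t v * a * (y8 t v)⁻¹) * P.n = P.nf (x⁻¹ * b * x⁻¹⁻¹) := by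
      simp only [map_mul, map_inv, ← h, hd, mul_inv_rev, P.n_inv]
      group
    have q := P.inter e
    rw [P.n_nf _ q] at e
    rw [← hc x⁻¹ b, ← P.inj e, hχ _ q, hc]

theorem Hyp.cent_eq (hK : ∀ x : K, x = 0 ∨ x = 1) (H : Hyp P ι) {n : G} (S : Sw P ι n) {m : G}
    (hm : Commute m (ι P.z)) : ∃ c, m = ι c := by
  obtain ⟨c, hc⟩ := H.fratt (S.z4 1) hm
  have e4 : (y4 0 0 : Co K) = 1 := by ext <;> simp
  have e6 : (y6 0 0 : Co K) = 1 := by ext <;> simp
  obtain ⟨r, -, hr⟩ := H.cent_V (g := ι c * m)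
    (fun t => by
      rcases hK t with rfl | rfl
      · rw [e4, map_one, map_one]; exact Commute.one_right _
      · exact ((P.z_comm c 1).map ι).mul_left hm)
    (fun t => by
      rcases hK t with rfl | rfl
      · rw [e6, map_one, map_one]; exact Commute.one_right _
      · exact hc)
  exact ⟨c⁻¹ * P.nf r, by rw [map_mul, ← hr, map_inv, inv_mul_cancel_left]⟩

theorem Q2_V (hK : ∀ x : K, x = 0 ∨ x = 1) {f : Co K} (hf : f ∈ F) (h2 : f * f = 1)
    (h8 : f * y8 1 0 = y8 1 0 * f) (h8' : f * y8 0 1 = y8 0 1 * f) (h1 : f ≠ 1) :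
    f = y4 0 1 ∨ ∃ s, f = x1 s * y6 0 1 * (x1 s)⁻¹ := by
  rw [mem_F] at hf
  have h4 : f.a4 = 0 := by
    have := congrArg Co.b4 h2
    have m := Q2_mm hK f.a4
    simp [hf, Q2_σ hK] at this
    grind
  have e1 : f.b2 = 0 := by simpa [hf, h4] using congrArg Co.a3 h8
  have e2 : f.a3 = 0 := by simpa [hf, h4, e1] using congrArg Co.b6 h8'
  have e3 : f.a5 = 0 := by simpa [hf, h4, e1, e2] using congrArg Co.b6 h8
  rcases hK f.b6 with h6 | h6
  · rcases hK f.b4 with h | h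
    · exact absurd (by ext <;> simp [*]) h1
    · left; ext <;> simp [*]
  · refine Or.inr ⟨f.b4, ?_⟩
    rw [eq_mul_inv_iff_mul_eq]
    ext <;> simp [*, CharTwo.add_self_eq_zero]

theorem Hyp.index_two (hK : ∀ x : K, x = 0 ∨ x = 1) (H : Hyp P ι) {n : G} (S : Sw P ι n) :
    ∃ N : Subgroup G, N.index = 2 := by
  obtain ⟨χ, hχ⟩ := Q2_chi hK
  have hw : ∀ a ∈ Q, χ (w2 a) = χ a := fun a ha => by
    have e : (w2 a).a2 + (w2 a).a4 + (w2 a).a6 + (w2 a).a8 = a.a2 + a.a4 + a.a6 + a.a8 := by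
      simp [(mem_Q.1 ha).1]; ring
    by_cases h : a.a2 + a.a4 + a.a6 + a.a8 = 0
    · rw [(hχ a).1 h, (hχ _).1 (e ▸ h)]
    · rw [(hχ a).2 h, (hχ _).2 (e ▸ h)]
  set φ := ι.comp P.nf with hφ
  have φe : ∀ a, ι (P.nf a) = φ a := fun a => rfl
  have inj : Function.Injective φ := H.inj.comp P.inj
  let χ' : φ.range →* ℤˣ := χ.comp (MonoidHom.ofInjective inj).symm.toMonoidHom
  have hχ' : ∀ (a : Co K) (x : G) (hx : x ∈ φ.range), x = φ a → χ' ⟨x, hx⟩ = χ a := by
    rintro a _ hx rfl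
    exact congrArg χ ((MonoidHom.ofInjective inj).symm_apply_eq.2 rfl)
  have uu : (y4 1 0 * y4 1 0 : Co K) = y4 0 1 := by ext <;> simp [CharTwo.add_self_eq_zero]
  have zz : (y4 0 1 * y4 0 1 : Co K) = 1 := by ext <;> simp [CharTwo.add_self_eq_zero]
  have zc : ∀ a, Commute (φ a) (ι P.z) := fun a => (P.z_comm _ 1).map ι
  have hE : ∀ e ∈ (E : Subgroup (Co K)), e ∈ Subgroup.centralizer {y4 (1 : K) 0} := fun e he => by
    rw [mem_E] at he
    rw [Subgroup.mem_centralizer_singleton_iff]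
    ext <;> simp [he]
  refine (transfer4 (S := φ.range) H.odd_S χ' (u := φ (y4 1 0))
    (A := (Subgroup.centralizer {y4 (1 : K) 0}).map φ)
    (by
      rintro ⟨_, a, rfl⟩ h
      exact (hχ' a _ _ rfl).trans <| (hχ a).1 (Q2_sq hK (inj (by rw [map_mul, map_one]; exact congrArg Subtype.val h))))
    (by rw [show (4 : ℕ) = 2 * 2 from rfl, pow_mul, pow_two, pow_two, ← map_mul, uu, ← map_mul, zz, map_one])
    ((isPGroup.to_subgroup _).map _)
    (by
      rintro _ ⟨a, ha, rfl⟩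
      exact Commute.map (Subgroup.mem_centralizer_singleton_iff.1 ha) φ)
    (fun g hA hg => ?_)).imp fun N h => h.1
  obtain ⟨b, hb⟩ := id hg
  rw [hχ' b _ hg hb.symm]
  have hc : ∀ a ∈ Subgroup.centralizer {y4 (1 : K) 0}, Commute (g * ι P.z * g⁻¹) (φ a) := fun a ha => by
    obtain ⟨a', e⟩ := hA _ ⟨a, ha, rfl⟩
    rw [show φ a = g * φ a' * g⁻¹ by rw [e]; group]
    exact (zc a').symm.conj g
  have t2 : g * ι P.z * g⁻¹ * (g * ι P.z * g⁻¹) = 1 := by
    rw [show ∀ x : G, g * x * g⁻¹ * (g * x * g⁻¹) = g * (x * x) * g⁻¹ from fun x => by group,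
      show ι P.z = φ (y4 0 1) from rfl, ← map_mul, zz, map_one, mul_one, mul_inv_cancel]
  obtain ⟨c, e⟩ := H.mem_of_two (hc (y4 0 1) (hE _ (by simp))) (j := 1) (by rw [pow_one, pow_two, t2])
  obtain ⟨f, hf, rfl⟩ := P.cent_E (c := c) fun a ha => H.inj (by
    rw [map_mul, map_mul, ← e]; exact (hc a (hE a ha)).eq)
  rw [φe] at e
  rw [e] at hc t2
  have key : ∀ (r : Co K) (k : G), Commute k (ι P.z) → k⁻¹ * φ r * k = φ b → χ b = χ r := fun r k hk e => by
    obtain ⟨c, rfl⟩ := H.cent_eq hK S hk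
    refine (Q2_conj hK hw (P := P) (c := c⁻¹) (H.inj ?_)).symm
    rw [inv_inv, map_mul, map_mul, map_inv]; exact e
  have cm : ∀ a : Co K, a * y4 1 0 = y4 1 0 * a → f * a = a * f := fun a ha =>
    inj (by rw [map_mul, map_mul]; exact (hc a (Subgroup.mem_centralizer_singleton_iff.2 ha)).eq)
  rcases Q2_V hK hf (inj (by rw [map_mul, t2, map_one])) (cm _ (by ext <;> simp)) (cm _ (by ext <;> simp))
    (by
      rintro rfl
      rw [map_one, mul_inv_eq_one, mul_eq_left] at e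
      have := H.order
      rw [e, orderOf_one] at this
      exact absurd this (by decide)) with rfl | ⟨s, rfl⟩
  · rw [key (y4 1 0) g (mul_inv_eq_iff_eq_mul.1 e) hb.symm]
    exact (hχ _).2 (by simp)
  · have n4 : n * ι P.z * n⁻¹ = φ (y6 0 1) := S.z4 1
    have n6 : n * φ (y6 0 1) * n⁻¹ = ι P.z := S.z6 1
    obtain ⟨r, hr, er⟩ := H.normR (g := n⁻¹) (by rw [← n6, φe]; group) (by rw [φe, ← n4]; group)
      (r := (x1 s)⁻¹ * y4 1 0 * x1 s) (by simp [CharTwo.add_self_eq_zero])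
    rw [φe, φe, inv_inv, map_mul, map_mul, map_inv] at er
    rw [map_mul, map_mul, map_inv, ← n4] at e
    rw [key r (n⁻¹ * (φ (x1 s))⁻¹ * g) ?_ (by rw [← er, hb]; group)]
    · refine (hχ _).2 fun h0 => ?_
      have rr : r * r = y6 0 1 := inj (by
        rw [map_mul, ← er, show ∀ x y : G, n⁻¹ * (x⁻¹ * y * x) * n * (n⁻¹ * (x⁻¹ * y * x) * n) =
          n⁻¹ * (x⁻¹ * (y * y * x)) * n from fun x y => by group, ← map_mul φ (y4 1 0), uu,
          show φ (y4 0 1) = ι P.z from rfl, ← (zc _).eq, inv_mul_cancel_left, ← n6]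
        group)
      have st := congrArg φ (Q2_star hK hr rr h0)
      obtain ⟨r', -, er'⟩ := H.normR (g := n) n4 n6 (r := x3 1) (by simp)
      rw [φe, φe] at er'
      refine Q2_noinv hK (x1 s * r' * (x1 s)⁻¹) (inj ?_)
      rw [map_mul, map_mul, ← er] at st
      simp only [map_mul, map_inv, ← er']
      calc _ = φ (x1 s) * n * (n⁻¹ * ((φ (x1 s))⁻¹ * φ (y4 1 0) * φ (x1 s)) * n * φ (x3 1) *
            (n⁻¹ * ((φ (x1 s))⁻¹ * φ (y4 1 0) * φ (x1 s)) * n)) * n⁻¹ * (φ (x1 s))⁻¹ := by group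
        _ = _ := by rw [st]; group
    · show _ * _ = _ * _
      calc _ = n⁻¹ * (φ (x1 s))⁻¹ * (g * ι P.z * g⁻¹) * g := by group
        _ = _ := by rw [e]; group

end H78.Oct
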