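import Mathlib
import Cfsg.Agent.Lib.Oct.Q2

/-!
# Bit-sliced evaluation in `Co K` for the field with two elements (helper78)

A value of `Bs N` is a truth table in `N` variables.  `pi K i` and `bev K i` evaluate at the assignment `i`.
-/

set_option autoImplicit false
set_option linter.unusedSectionVars false

namespace H78.Oct

open Co

/-- Strict evaluation. -/
def frc {α : Type} (n : ℕ) (k : ℕ → α) : α := Nat.rec (k 0) (fun m _ => k m.succ) n

theorem frc_eq {α : Type} (n : ℕ) (k : ℕ → α) : frc n k = k n := by cases n <;> rfl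

/-- Truth tables. -/
def Bs (_ : ℕ) : Type := ℕ

variable {N : ℕ}

instance bsAdd : Add (Bs N) := ⟨Nat.xor⟩
instance bsMul : Mul (Bs N) := ⟨Nat.land⟩
instance bsPow : Pow (Bs N) ℕ := ⟨fun x _ => x⟩
instance bsZero : Zero (Bs N) := ⟨(0 : ℕ)⟩
instance bsOne : One (Bs N) := ⟨(2 ^ 2 ^ N - 1 : ℕ)⟩
instance bsDec : DecidableEq (Bs N) := Nat.decEq

/-- Strict evaluation of all coordinates. -/
def fc {α : Type} (x : Co (Bs N)) (k : Co (Bs N) → α) : α :=
  frc x.a1 fun a1 => frc x.a2 fun a2 => frc x.b2 fun b2 => frc x.a3 fun a3 => frc x.a4 fun a4 => frc x.b4 fun b4 =>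
  frc x.a5 fun a5 => frc x.a6 fun a6 => frc x.b6 fun b6 => frc x.a7 fun a7 => frc x.a8 fun a8 => frc x.b8 fun b8 =>
  k ⟨a1, a2, b2, a3, a4, b4, a5, a6, b6, a7, a8, b8⟩

theorem fc_eq {α : Type} (x : Co (Bs N)) (k : Co (Bs N) → α) : fc x k = k x := by
  unfold fc
  iterate 12 refine (frc_eq _ _).trans ?_
  rfl

instance cbMul : Mul (Co (Bs N)) := ⟨fun x y => fc x fun x => fc y fun y => mulG id x y⟩
instance cbOne : One (Co (Bs N)) := ⟨⟨0, 0, 0, 0, 0, 0, 0, 0, 0, 0, 0, 0⟩⟩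
instance cbInv : Inv (Co (Bs N)) :=
  ⟨fun x => fc x fun x => fc (x * x) fun y => fc (y * y) fun z => z * z * z * y * x⟩

/-- `w1` on truth tables. -/
def bw1 (x : Co (Bs N)) : Co (Bs N) := fc x (w1G id)
/-- `w2` on truth tables. -/
def bw2 (x : Co (Bs N)) : Co (Bs N) := fc x (w2G id)
/-- `g` if `s = 1` and `1` if `s = 0`. -/
def sel {A : Type*} [Mul A] (s : A) (g : Co A) : Co A :=
  ⟨s * g.a1, s * g.a2, s * g.b2, s * g.a3, s * g.a4, s * g.b4, s * g.a5, s * g.a6, s * g.b6, s * g.a7, s * g.a8, s * g.b8⟩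
/-- A root element. -/
def bx1 (s : Bs N) : Co (Bs N) := ⟨s, 0, 0, 0, 0, 0, 0, 0, 0, 0, 0, 0⟩
/-- A root element. -/
def by2 (s u : Bs N) : Co (Bs N) := ⟨0, s, u, 0, 0, 0, 0, 0, 0, 0, 0, 0⟩
/-- A root element. -/
def bx3 (s : Bs N) : Co (Bs N) := ⟨0, 0, 0, s, 0, 0, 0, 0, 0, 0, 0, 0⟩
/-- A root element. -/
def by4 (s u : Bs N) : Co (Bs N) := ⟨0, 0, 0, 0, s, u, 0, 0, 0, 0, 0, 0⟩
/-- A root element. -/
def bx5 (s : Bs N) : Co (Bs N) := ⟨0, 0, 0, 0, 0, 0, s, 0, 0, 0, 0, 0⟩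
/-- A root element. -/
def by6 (s u : Bs N) : Co (Bs N) := ⟨0, 0, 0, 0, 0, 0, 0, s, u, 0, 0, 0⟩
/-- A root element. -/
def bx7 (s : Bs N) : Co (Bs N) := ⟨0, 0, 0, 0, 0, 0, 0, 0, 0, s, 0, 0⟩
/-- A root element. -/
def by8 (s u : Bs N) : Co (Bs N) := ⟨0, 0, 0, 0, 0, 0, 0, 0, 0, 0, s, u⟩

/-- Equality of scalars. -/
def eqS (x y : Bs N) : Bs N := x + y + 1
/-- Conjunction. -/
def andB (x y : Bs N) : Bs N := x * y
/-- Negation. -/
def notB (x : Bs N) : Bs N := x + 1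
/-- Disjunction. -/
def orB (x y : Bs N) : Bs N := notB (andB (notB x) (notB y))
/-- Implication. -/
def impB (x y : Bs N) : Bs N := notB (andB x (notB y))
/-- Equality of group elements. -/
def eqB (x y : Co (Bs N)) : Bs N := fc x fun x => fc y fun y =>
  andB (eqS x.a1 y.a1) <| andB (eqS x.a2 y.a2) <| andB (eqS x.b2 y.b2) <| andB (eqS x.a3 y.a3) <|
  andB (eqS x.a4 y.a4) <| andB (eqS x.b4 y.b4) <| andB (eqS x.a5 y.a5) <| andB (eqS x.a6 y.a6) <|
  andB (eqS x.b6 y.b6) <| andB (eqS x.a7 y.a7) <| andB (eqS x.a8 y.a8) <| eqS x.b8 y.b8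

/-- The truth table of the variable `j`. -/
def tt : (N : ℕ) → ℕ → ℕ
  | 0, _ => 0
  | N + 1, j => bif j.beq N then 2 ^ 2 ^ N * (2 ^ 2 ^ N - 1) + 0 else frc (tt N j) fun x => 2 ^ 2 ^ N * x + x

/-- The variable `j`. -/
def vr (N j : ℕ) : Bs N := tt N j

/-- The group element with coordinates the variables `j`, ..., `j + 11`. -/
def gen (N j : ℕ) : Co (Bs N) :=
  ⟨vr N j, vr N (j + 1), vr N (j + 2), vr N (j + 3), vr N (j + 4), vr N (j + 5), vr N (j + 6), vr N (j + 7), vr N (j + 8), vr N (j + 9), vr N (j + 10), vr N (j + 11)⟩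

/-- Assignments. -/
structure Ix (N : ℕ) where
  /-- the index -/
  i : ℕ
  lt : i < 2 ^ N

theorem tt_lt (N j : ℕ) : tt N j < 2 ^ 2 ^ N := by
  induction N with
  | zero => simp [tt]
  | succ N ih =>
    have h : 0 < 2 ^ 2 ^ N := by positivity
    rw [tt, frc_eq, pow_succ 2 N, pow_mul, pow_two]
    generalize 2 ^ 2 ^ N = M at *
    cases j.beq N
    · exact (by nlinarith : M * tt N j + tt N j < M * M)
    · exact (Nat.mul_lt_mul_left h).2 (Nat.sub_lt h one_pos)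

theorem exists_bits (f : ℕ → Bool) (N : ℕ) : ∃ i < 2 ^ N, ∀ j < N, (tt N j).testBit i = f j := by
  induction N with
  | zero => exact ⟨0, one_pos, by simp⟩
  | succ N ih =>
    obtain ⟨i, hi, h⟩ := ih
    refine ⟨if f N then 2 ^ N + i else i, by split_ifs <;> omega, fun j hj => ?_⟩
    rw [tt, frc_eq]
    rcases Nat.lt_succ_iff_lt_or_eq.1 hj with hj | rfl
    · rw [Bool.eq_false_iff.2 fun e => hj.ne (Nat.eq_of_beq_eq_true e), cond_false, Nat.testBit_two_pow_mul_add _ (tt_lt N j)]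
      split_ifs <;> simp_all
    · rw [Nat.beq_refl, cond_true, Nat.testBit_two_pow_mul_add _ (by positivity)]
      cases f j <;> simp [hi]

variable (K : Type*) [Field K] [Tits K] (i : Ix N)

/-- Evaluation of a truth table. -/
def pi (x : Bs N) : K := if Nat.testBit x i.i then 1 else 0

/-- Evaluation of a group element. -/
def bev (x : Co (Bs N)) : Co K :=
  ⟨pi K i x.a1, pi K i x.a2, pi K i x.b2, pi K i x.a3, pi K i x.a4, pi K i x.b4,
    pi K i x.a5, pi K i x.a6, pi K i x.b6, pi K i x.a7, pi K i x.a8, pi K i x.b8⟩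

/-- A truth table holds. -/
def Tr (x : Bs N) : Prop := pi K i x = 1

variable {K i}

theorem pi_add (x y : Bs N) : pi K i (x + y) = pi K i x + pi K i y := by
  have : Nat.testBit (x + y : Bs N) i.i = _ := Nat.testBit_xor x y i.i
  unfold pi
  rw [this]
  cases Nat.testBit x i.i <;> cases Nat.testBit y i.i <;> simp [CharTwo.add_self_eq_zero]

theorem pi_mul (x y : Bs N) : pi K i (x * y) = pi K i x * pi K i y := by
  have : Nat.testBit (x * y : Bs N) i.i = _ := Nat.testBit_land x y i.i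
  unfold pi
  rw [this]
  cases Nat.testBit x i.i <;> cases Nat.testBit y i.i <;> simp

theorem pi_zero : pi K i (0 : Bs N) = 0 := if_neg (by simp [show ((0 : Bs N) : ℕ) = (0 : ℕ) from rfl])

theorem pi_one : pi K i (1 : Bs N) = 1 :=
  if_pos ((Nat.testBit_two_pow_sub_one _ _).trans (decide_eq_true i.lt))

theorem pi_cases (x : Bs N) : pi K i x = 0 ∨ pi K i x = 1 := by unfold pi; split_ifs <;> simp

theorem pi_pow (x : Bs N) (n : ℕ) : pi K i (x ^ (n + 1)) = pi K i x ^ (n + 1) := by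
  change pi K i x = _
  rcases pi_cases (K := K) (i := i) x with h | h <;> simp [h]

theorem σ_pi (x : Bs N) : σ (pi K i x) = pi K i x := by
  rcases pi_cases (K := K) (i := i) x with h | h <;> simp [h]

theorem pi_a1 (x : Co (Bs N)) : pi K i x.a1 = (bev K i x).a1 := rfl
theorem pi_a2 (x : Co (Bs N)) : pi K i x.a2 = (bev K i x).a2 := rfl
theorem pi_b2 (x : Co (Bs N)) : pi K i x.b2 = (bev K i x).b2 := rfl
theorem pi_a3 (x : Co (Bs N)) : pi K i x.a3 = (bev K i x).a3 := rfl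
theorem pi_a4 (x : Co (Bs N)) : pi K i x.a4 = (bev K i x).a4 := rfl
theorem pi_b4 (x : Co (Bs N)) : pi K i x.b4 = (bev K i x).b4 := rfl
theorem pi_a5 (x : Co (Bs N)) : pi K i x.a5 = (bev K i x).a5 := rfl
theorem pi_a6 (x : Co (Bs N)) : pi K i x.a6 = (bev K i x).a6 := rfl
theorem pi_b6 (x : Co (Bs N)) : pi K i x.b6 = (bev K i x).b6 := rfl
theorem pi_a7 (x : Co (Bs N)) : pi K i x.a7 = (bev K i x).a7 := rfl
theorem pi_a8 (x : Co (Bs N)) : pi K i x.a8 = (bev K i x).a8 := rfl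
theorem pi_b8 (x : Co (Bs N)) : pi K i x.b8 = (bev K i x).b8 := rfl

theorem ev_mk (a1 a2 b2 a3 a4 b4 a5 a6 b6 a7 a8 b8 : Bs N) : bev K i ⟨a1, a2, b2, a3, a4, b4, a5, a6, b6, a7, a8, b8⟩ =
    ⟨pi K i a1, pi K i a2, pi K i b2, pi K i a3, pi K i a4, pi K i b4,
      pi K i a5, pi K i a6, pi K i b6, pi K i a7, pi K i a8, pi K i b8⟩ := rfl

theorem ev_mul' (x y : Co (Bs N)) : bev K i (x * y) = bev K i x * bev K i y := by
  change bev K i (fc x fun x => fc y fun y => mulG id x y) = mulG σ _ _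
  simp only [fc_eq, bev, mulG, id, pi_add, pi_mul, pi_pow _ 1, pi_pow _ 2, σ_pi]

theorem ev_one : bev K i 1 = 1 := by
  change bev K i ⟨0, 0, 0, 0, 0, 0, 0, 0, 0, 0, 0, 0⟩ = _
  simp only [ev_mk, pi_zero]
  rfl

theorem ev_inv (x : Co (Bs N)) : bev K i x⁻¹ = (bev K i x)⁻¹ := by
  change bev K i (fc x fun x => fc (x * x) fun y => fc (y * y) fun z => z * z * z * y * x) = _
  simp only [fc_eq, ev_mul']
  refine eq_inv_of_mul_eq_one_left (.trans ?_ (pow_16 (bev K i x)))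
  simp only [pow_succ, pow_zero, one_mul, mul_assoc]

theorem ev_bw1 (x : Co (Bs N)) : bev K i (bw1 x) = w1 (bev K i x) := by
  simp only [bw1, w1, fc_eq, bev, w1G, id, pi_add, pi_mul, pi_pow _ 1, pi_zero, σ_pi]

theorem ev_bw2 (x : Co (Bs N)) : bev K i (bw2 x) = w2 (bev K i x) := by
  simp only [bw2, w2, fc_eq, bev, w2G, id, pi_add, pi_mul, pi_zero, σ_pi]

theorem ev_sel (s : Bs N) (x : Co (Bs N)) : bev K i (sel s x) = sel (pi K i s) (bev K i x) := by
  simp only [sel, bev, pi_mul]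

theorem sel_zero (x : Co K) : sel 0 x = 1 := by ext <;> simp [sel]

theorem sel_one (x : Co K) : sel 1 x = x := by ext <;> simp [sel]

theorem ev_bx1 (s : Bs N) : bev K i (bx1 s) = x1 (pi K i s) := by
  simp only [bx1, x1, ev_mk, pi_zero]
theorem ev_by2 (s u : Bs N) : bev K i (by2 s u) = y2 (pi K i s) (pi K i u) := by
  simp only [by2, y2, ev_mk, pi_zero]
theorem ev_bx3 (s : Bs N) : bev K i (bx3 s) = x3 (pi K i s) := by
  simp only [bx3, x3, ev_mk, pi_zero]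
theorem ev_by4 (s u : Bs N) : bev K i (by4 s u) = y4 (pi K i s) (pi K i u) := by
  simp only [by4, y4, ev_mk, pi_zero]
theorem ev_bx5 (s : Bs N) : bev K i (bx5 s) = x5 (pi K i s) := by
  simp only [bx5, x5, ev_mk, pi_zero]
theorem ev_by6 (s u : Bs N) : bev K i (by6 s u) = y6 (pi K i s) (pi K i u) := by
  simp only [by6, y6, ev_mk, pi_zero]
theorem ev_bx7 (s : Bs N) : bev K i (bx7 s) = x7 (pi K i s) := by
  simp only [bx7, x7, ev_mk, pi_zero]
theorem ev_by8 (s u : Bs N) : bev K i (by8 s u) = y8 (pi K i s) (pi K i u) := by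
  simp only [by8, y8, ev_mk, pi_zero]

theorem Tr.of {x : Bs N} (h : x = 1) : Tr K i x := h ▸ pi_one

theorem tr_eqS (x y : Bs N) : Tr K i (eqS x y) ↔ pi K i x = pi K i y := by
  rw [Tr, eqS, pi_add, pi_add, pi_one, add_eq_right, CharTwo.add_eq_zero]

theorem tr_and (x y : Bs N) : Tr K i (andB x y) ↔ Tr K i x ∧ Tr K i y := by
  rw [Tr, Tr, Tr, andB, pi_mul]
  rcases pi_cases (K := K) (i := i) x with h | h <;> simp [h]

theorem tr_not (x : Bs N) : Tr K i (notB x) ↔ ¬ Tr K i x := by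
  rw [Tr, Tr, notB, pi_add, pi_one]
  rcases pi_cases (K := K) (i := i) x with h | h <;> simp [h]

theorem tr_or (x y : Bs N) : Tr K i (orB x y) ↔ Tr K i x ∨ Tr K i y := by
  rw [orB, tr_not, tr_and, tr_not, tr_not]; tauto

theorem tr_imp (x y : Bs N) : Tr K i (impB x y) ↔ (Tr K i x → Tr K i y) := by
  rw [impB, tr_not, tr_and, tr_not]; tauto

theorem tr_eqB (x y : Co (Bs N)) : Tr K i (eqB x y) ↔ bev K i x = bev K i y := by
  simp only [eqB, fc_eq, tr_and, tr_eqS, Co.ext_iff, bev]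

theorem exists_ix (hK : ∀ x : K, x = 0 ∨ x = 1) (N : ℕ) (f : ℕ → K) :
    ∃ i : Ix N, ∀ j < N, pi K i (vr N j) = f j := by
  classical
  obtain ⟨i, hi, h⟩ := exists_bits (fun j => decide (f j = 1)) N
  refine ⟨⟨i, hi⟩, fun j hj => ?_⟩
  unfold pi vr
  rw [h j hj]
  rcases hK (f j) with e | e <;> simp [e]

/-- One general group element (variables `0..11`) and further scalar variables. -/
theorem exists_gen (hK : ∀ x : K, x = 0 ∨ x = 1) (N : ℕ) (hN : 12 ≤ N) (a : Co K) (f : ℕ → K) :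
    ∃ i : Ix N, bev K i (gen N 0) = a ∧ ∀ j, 12 ≤ j → j < N → pi K i (vr N j) = f j := by
  obtain ⟨i, h⟩ := exists_ix hK N fun j => if j < 12 then
    [a.a1, a.a2, a.b2, a.a3, a.a4, a.b4, a.a5, a.a6, a.b6, a.a7, a.a8, a.b8].getD j 0 else f j
  refine ⟨i, ?_, fun j h1 h2 => (h j h2).trans (if_neg (by omega))⟩
  ext <;> exact h _ (by omega)

/-- Example of use. -/
theorem bit_example (hK : ∀ x : K, x = 0 ∨ x = 1) (a : Co K) (h : a * a = 1) (h8 : a.b8 = 1) :
    a.a1 = 0 ∧ a.a2 = 0 ∧ y4 0 1 * a⁻¹ = a * y4 0 1 := by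
  obtain ⟨i, rfl, -⟩ := exists_gen hK 12 le_rfl a 0
  have := Tr.of (K := K) (i := i) (x := fc (gen 12 0) fun a => impB (eqB (a * a) 1) <| impB (eqS a.b8 1) <|
    andB (eqS a.a1 0) <| andB (eqS a.a2 0) <| eqB (by4 0 1 * a⁻¹) (a * by4 0 1)) (by decide +kernel)
  simp only [fc_eq, tr_imp, tr_and, tr_eqS, tr_eqB, ev_mul', ev_inv, ev_one, ev_by4, pi_zero, pi_one,
    pi_a1, pi_a2, pi_b8] at this
  exact this h h8

theorem auto_lemmas_bit : True := by
  have := @frc.eq_1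
  have := @Bs.eq_1
  have := @fc.eq_1
  have := @bw1.eq_1
  have := @bw2.eq_1
  have := @eqS.eq_1
  have := @andB.eq_1
  have := @notB.eq_1
  have := @orB.eq_1
  have := @impB.eq_1
  have := @eqB.eq_1
  have := @vr.eq_1
  have := @gen.eq_1
  have := @bx1.eq_1
  have := @by2.eq_1
  have := @bx3.eq_1
  have := @by4.eq_1
  have := @bx5.eq_1
  have := @by6.eq_1
  have := @bx7.eq_1
  have := @by8.eq_1
  have := @sel.eq_1.{0}
  have := @pi.eq_1.{0}
  have := @bev.eq_1.{0}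
  have := @Tr.eq_1.{0}
  have := @tt.eq_1
  have := @tt.eq_2
  have := @tt.eq_def
  trivial

end H78.Oct
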