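import Mathlib
import Cfsg.Agent.Lib.Oct.Bit

/-!
# The case `q = 2`: interfaces and finite facts (helper78)
-/

set_option autoImplicit false
set_option linter.unusedSectionVars false

namespace H78.Oct

open Co

/-- A family of automorphisms of the Sylow 2-subgroup for `q = 2`. -/
def phi {A : Type*} [Add A] [Mul A] [Zero A] [One A] [Mul (Co A)] (e1 e2 e3 : A) (x : Co A) : Co A :=
  sel x.a1 ⟨1, 0, 0, e1, 0, 0, 0, 0, 0, 0, 0, 0⟩ * sel x.a2 ⟨0, 1, e1, e1, 0, e1 + e3, 0, 0, 0, 0, 0, 0⟩ *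
    ⟨0, 0, x.b2, x.a3, 0, 0, 0, 0, 0, 0, 0, 0⟩ * sel x.a4 ⟨0, 0, 0, 0, 1, e3, 0, 0, 0, 0, 0, 0⟩ *
    ⟨0, 0, 0, 0, 0, x.b4, x.a5, 0, 0, 0, 0, 0⟩ * sel x.a6 ⟨0, 0, 0, 0, 0, e1 + e3, e1, 1, e1, 0, 0, 0⟩ *
    ⟨0, 0, 0, 0, 0, 0, 0, 0, x.b6, 0, 0, 0⟩ * sel x.a7 ⟨0, 0, 0, 0, 0, 0, e1, 0, 0, 1, 0, 0⟩ *
    sel x.a8 ⟨0, 0, 0, 0, e1, e2, 0, 0, 0, 0, 1, 0⟩ * sel x.b8 ⟨0, 0, 0, 0, 0, e1, 0, 0, 0, 0, 0, 1⟩

variable {K C G : Type*} [Field K] [Tits K] [Group C] [Group G]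

theorem ev_phi {N : ℕ} {i : Ix N} (e1 e2 e3 : Bs N) (x : Co (Bs N)) :
    bev K i (phi e1 e2 e3 x) = phi (pi K i e1) (pi K i e2) (pi K i e3) (bev K i x) := by
  simp only [phi, ev_mul', ev_sel, ev_mk, pi_zero, pi_one, pi_add]
  rfl

/-- The relation of the Frobenius group `Sz(2)` of order 20. -/
def Par.Rel (P : Par K C) : Prop :=
  P.n * P.nf (y8 0 1) * P.n = P.nf (y8 1 1) * P.n * P.nf (y8 1 0)

/-- The second minimal parabolic subgroup, action on `R` not yet determined. -/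
structure Am (P : Par K C) (ι : C →* G) (n : G) : Prop where
  nn : n * n = 1
  braid : n * ι (P.nf (x1 1)) * n = ι (P.nf (x1 1)) * n * ι (P.nf (x1 1))
  z4 : n * ι (P.nf (y4 0 1)) * n = ι (P.nf (y6 0 1))
  x5 : n * ι (P.nf (x5 1)) * n = ι (P.nf (x5 1))
  normR : ∀ a ∈ R, ∃ b ∈ R, n * ι (P.nf a) * n = ι (P.nf b)

/-- A frame for `q = 2`. -/
structure Fr2 (P : Par K C) (ι : C →* G) (n : G) : Prop where
  rel : P.Rel
  nn : n * n = 1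
  braid : n * ι (P.nf (x1 1)) * n = ι (P.nf (x1 1)) * n * ι (P.nf (x1 1))
  n_nf : ∀ a ∈ R, n * ι (P.nf a) * n = ι (P.nf (w1 a))

namespace B2

variable (hK : ∀ x : K, x = 0 ∨ x = 1)
include hK

theorem unit (k : Kˣ) : k = 1 := Units.ext ((hK k).resolve_left k.ne_zero)

theorem d_one (P : Par K C) (k : Kˣ) : P.d k = 1 := by rw [unit hK k, map_one]

/-- Involutions outside `Q`. -/
theorem inv_out {a : Co K} (h : a * a = 1) (h8 : a.b8 = 1) :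
    a.a1 = 0 ∧ a.a2 = 0 ∧ (w1 a ∈ Q ∨ (x1 1 * a * x1 1 ∈ R ∧ w1 (x1 1 * a * x1 1) ∈ Q)) := by
  obtain ⟨i, rfl, -⟩ := exists_gen hK 12 le_rfl a 0
  have := Tr.of (K := K) (i := i) (x := fc (gen 12 0) fun a => impB (eqB (a * a) 1) <| impB (eqS a.b8 1) <|
    andB (eqS a.a1 0) <| andB (eqS a.a2 0) <| orB (andB (eqS (bw1 a).a8 0) (eqS (bw1 a).b8 0)) <|
    fc (bx1 1 * a * bx1 1) fun b => andB (eqS b.a1 0) <| andB (eqS (bw1 b).a8 0) (eqS (bw1 b).b8 0))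
    (by decide +kernel)
  simp only [fc_eq, tr_imp, tr_and, tr_or, tr_eqS, tr_eqB, ev_mul', ev_one, ev_bx1, ev_bw1, pi_zero, pi_one,
    pi_a1, pi_a2, pi_a8, pi_b8] at this
  exact this h h8

/-- The centralizer of the dihedral group of order 10 in `Q`. -/
theorem cent_U {a : Co K} (ha : a ∈ Q) (h : a * y8 0 1 = y8 0 1 * a) (h' : w2 a * y8 0 1 = y8 0 1 * w2 a) :
    a = y4 a.a4 a.b4 := by
  obtain ⟨i, rfl, -⟩ := exists_gen hK 12 le_rfl a 0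
  have := Tr.of (K := K) (i := i) (x := fc (gen 12 0) fun a => impB (eqS a.a8 0) <| impB (eqS a.b8 0) <|
    impB (eqB (a * by8 0 1) (by8 0 1 * a)) <| impB (eqB (bw2 a * by8 0 1) (by8 0 1 * bw2 a)) <|
    eqB a (by4 a.a4 a.b4)) (by decide +kernel)
  simp only [fc_eq, tr_imp, tr_eqS, tr_eqB, ev_mul', ev_by8, ev_by4, ev_bw2, pi_zero, pi_one,
    pi_a4, pi_b4, pi_a8, pi_b8] at this
  exact this ha.1 ha.2 h h'

/-- The second centre of `R`. -/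
theorem z2R {b : Co K} (hb : b ∈ R) (h : ∀ r ∈ R, b * r * b⁻¹ * r⁻¹ ∈ V) :
    b = x5 b.a5 * (y4 0 b.b4 * y6 0 b.b6) := by
  have key : ∀ r ∈ R, b * r * b⁻¹ * r⁻¹ = y4 0 (b * r * b⁻¹ * r⁻¹).b4 * y6 0 (b * r * b⁻¹ * r⁻¹).b6 :=
    fun r hr => by
      have := h r hr
      generalize b * r * b⁻¹ * r⁻¹ = v at this
      ext <;> simp_all
  obtain ⟨i, rfl, -⟩ := exists_gen hK 12 le_rfl b 0
  have := Tr.of (K := K) (i := i) (x := fc (gen 12 0) fun a => impB (eqS a.a1 0) <|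
    impB (fc (a * by2 1 0 * a⁻¹ * (by2 1 0)⁻¹) fun v => eqB v (by4 0 v.b4 * by6 0 v.b6)) <|
    impB (fc (a * by4 1 0 * a⁻¹ * (by4 1 0)⁻¹) fun v => eqB v (by4 0 v.b4 * by6 0 v.b6)) <|
    impB (fc (a * by8 1 0 * a⁻¹ * (by8 1 0)⁻¹) fun v => eqB v (by4 0 v.b4 * by6 0 v.b6)) <|
    eqB a (bx5 a.a5 * (by4 0 a.b4 * by6 0 a.b6))) (by decide +kernel)
  simp only [fc_eq, tr_imp, tr_eqS, tr_eqB, ev_mul', ev_inv, ev_by8, ev_by4, ev_by2, ev_by6, ev_bx5, pi_zero,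
    pi_one, pi_a1, pi_a5, pi_b4, pi_b6] at this
  exact this hb (key _ rfl) (key _ rfl) (key _ rfl)

/-- The complements to `Q` containing `U₈`. -/
theorem compl {q c : Co K} (hq : q ∈ Q) (hc : c = y8 1 0 * w2 q * (y8 1 0)⁻¹)
    (h : c * w2 (y8 0 1 * c * (y8 0 1)⁻¹) = w2 q) :
    ∃ s t, q * y8 0 1 = x1 s * y2 0 t * y8 0 1 * (x1 s * y2 0 t)⁻¹ := by
  subst hc
  obtain ⟨i, rfl, -⟩ := exists_gen hK 12 le_rfl q 0
  have := Tr.of (K := K) (i := i) (x := fc (gen 12 0) fun a => impB (eqS a.a8 0) <| impB (eqS a.b8 0) <|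
    fc (by8 1 0 * bw2 a * (by8 1 0)⁻¹) fun c => impB (eqB (c * bw2 (by8 0 1 * c * (by8 0 1)⁻¹)) (bw2 a)) <|
    orB (eqB (a * by8 0 1) (bx1 0 * by2 0 0 * by8 0 1 * (bx1 0 * by2 0 0)⁻¹)) <|
    orB (eqB (a * by8 0 1) (bx1 1 * by2 0 0 * by8 0 1 * (bx1 1 * by2 0 0)⁻¹)) <|
    orB (eqB (a * by8 0 1) (bx1 0 * by2 0 1 * by8 0 1 * (bx1 0 * by2 0 1)⁻¹)) <|
    eqB (a * by8 0 1) (bx1 1 * by2 0 1 * by8 0 1 * (bx1 1 * by2 0 1)⁻¹)) (by decide +kernel)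
  simp only [fc_eq, tr_imp, tr_or, tr_eqS, tr_eqB, ev_mul', ev_inv, ev_by8, ev_by2, ev_bx1, ev_bw2, pi_zero,
    pi_one, pi_a8, pi_b8] at this
  rcases this hq.1 hq.2 h with h | h | h | h <;> exact ⟨_, _, h⟩

/-- The relation of `Sz(2)` is determined by the action on `Q`. -/
theorem pin {t v : K} (h : w2 (y8 0 1 * w2 (x1 1) * (y8 0 1)⁻¹) =
    (y8 t v)⁻¹ * w2 (y8 t v * x1 1 * (y8 t v)⁻¹) * y8 t v) : t = 1 ∧ v = 0 := by
  obtain ⟨i, hi⟩ := exists_ix hK 2 fun j => if j = 0 then t else v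
  obtain rfl : pi K i (vr 2 0) = t := hi 0 (by decide)
  obtain rfl : pi K i (vr 2 1) = v := hi 1 (by decide)
  have := Tr.of (K := K) (i := i) (x := fc (by8 (vr 2 0) (vr 2 1)) fun y =>
    impB (eqB (bw2 (by8 0 1 * bw2 (bx1 1) * (by8 0 1)⁻¹)) (y⁻¹ * bw2 (y * bx1 1 * y⁻¹) * y)) <|
    andB (eqS (vr 2 0) 1) (eqS (vr 2 1) 0)) (by decide +kernel)
  simp only [fc_eq, tr_imp, tr_and, tr_eqS, tr_eqB, ev_mul', ev_inv, ev_by8, ev_bx1, ev_bw2, pi_zero,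
    pi_one] at this
  exact this h

/-- The centre of the centralizer of `x5 1`. -/
theorem zT {a : Co K} (h : ∀ t : Co K, t.a2 = 0 → t.a8 = 0 → a * t = t * a) : a = x5 a.a5 * y4 0 a.b4 := by
  have h1 := h (x1 1) rfl rfl
  have h2 := h (y2 0 1) rfl rfl
  have h3 := h (x3 1) rfl rfl
  have h4 := h (y4 1 0) rfl rfl
  have h5 := h (x5 1) rfl rfl
  have h6 := h (y6 1 0) rfl rfl
  have h7 := h (x7 1) rfl rfl
  have h8 := h (y8 0 1) rfl rfl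
  obtain ⟨i, rfl, -⟩ := exists_gen hK 12 le_rfl a 0
  have := Tr.of (K := K) (i := i) (x := fc (gen 12 0) fun a =>
    impB (eqB (a * bx1 1) (bx1 1 * a)) <| impB (eqB (a * by2 0 1) (by2 0 1 * a)) <|
    impB (eqB (a * bx3 1) (bx3 1 * a)) <| impB (eqB (a * by4 1 0) (by4 1 0 * a)) <|
    impB (eqB (a * bx5 1) (bx5 1 * a)) <| impB (eqB (a * by6 1 0) (by6 1 0 * a)) <|
    impB (eqB (a * bx7 1) (bx7 1 * a)) <| impB (eqB (a * by8 0 1) (by8 0 1 * a)) <|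
    eqB a (bx5 a.a5 * by4 0 a.b4)) (by decide +kernel)
  simp only [fc_eq, tr_imp, tr_eqB, ev_mul', ev_bx1, ev_by2, ev_bx3, ev_by4, ev_bx5, ev_by6, ev_bx7, ev_by8,
    pi_zero, pi_one, pi_a5, pi_b4] at this
  exact this h1 h2 h3 h4 h5 h6 h7 h8

/-- The commutator of `n t` with `x3 1` for `t` centralising `x5 1`. -/
theorem comm3 {t v : Co K} (h2 : t.a2 = 0) (h8 : t.a8 = 0) (hv : v = w1 (t * x3 1 * t⁻¹) * x3 1) :
    t * x3 1 * t⁻¹ ∈ R ∧ v * v = 1 ∧ v.a2 = 0 ∧ v.a8 = 0 ∧ v.a3 = 1 := by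
  subst hv
  obtain ⟨i, rfl, -⟩ := exists_gen hK 12 le_rfl t 0
  have := Tr.of (K := K) (i := i) (x := fc (gen 12 0) fun a => impB (eqS a.a2 0) <| impB (eqS a.a8 0) <|
    andB (eqS (a * bx3 1 * a⁻¹).a1 0) <| fc (bw1 (a * bx3 1 * a⁻¹) * bx3 1) fun v => andB (eqB (v * v) 1) <|
    andB (eqS v.a2 0) <| andB (eqS v.a8 0) (eqS v.a3 1)) (by decide +kernel)
  simp only [fc_eq, tr_imp, tr_and, tr_eqS, tr_eqB, ev_mul', ev_inv, ev_one, ev_bx3, ev_bw1,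
    pi_zero, pi_one, pi_a1, pi_a2, pi_a3, pi_a8] at this
  exact this h2 h8

end B2

theorem auto_lemmas_def2 : True := by
  have := @phi.eq_1.{0}
  have := @Par.Rel.eq_1.{0, 0}
  trivial

end H78.Oct
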