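import Mathlib
import Cfsg.Agent.Lib.Oct.HA

/-!
# The spread on V
-/

set_option autoImplicit false
set_option linter.unusedSectionVars false

namespace H78.Oct

open Co

variable {K C G : Type*} [Field K] [Tits K] [Finite K] [Group C] [Finite C] [Group G] [Finite G]
  {P : Par K C} {ι : C →* G}

set_option hygiene false in
local notation "⟪" a "⟫" => ι (P.nf a)

namespace SP

theorem alg (M : K → K → Prop) (add : ∀ a u b w, M a u → M b w → M (a + b) (u + w))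
    (z : ∀ a, M a 0 → a = 0) (ex : ∀ u, ∃ a, M a u) (one : M 0 1)
    (sc : ∀ l b, l ≠ 0 → M b l → ∀ a u, M a u → M (a + b * u) (l * u)) {a u : K} (h : M a u) :
    a = 0 := by
  have uq : ∀ a b u, M a u → M b u → a = b := fun a b u h1 h2 => by
    have := add _ _ _ _ h1 h2
    rw [CharTwo.add_self_eq_zero u] at this
    have := z _ this
    grind
  by_cases u0 : u = 0
  · subst u0; exact z a h
  by_cases u1 : 1 + u = 0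
  · obtain rfl : u = 1 := by grind
    exact uq _ _ _ h one
  have h1 := sc _ _ u1 (add _ _ _ _ one h) _ _ h
  have h2 := add _ _ _ _ h (sc _ _ u0 h _ _ h)
  rw [show u + u * u = (1 + u) * u by ring] at h2
  have := uq _ _ _ h1 h2
  grind

theorem x1_v (s a u : K) :
    x1 s * (y4 0 a * y6 0 u) * (x1 s)⁻¹ = y4 0 (a + s * u) * y6 0 u := by
  rw [mul_inv_eq_iff_eq_mul]
  ext <;> simp <;> grind

theorem v_mul (a u b w : K) :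
    (y4 0 a * y6 0 u) * (y4 0 b * y6 0 w) = y4 0 (a + b) * y6 0 (u + w) := by
  ext <;> simp

theorem v_inj {a u b w : K} (h : y4 0 a * y6 0 u = y4 0 b * y6 0 w) : a = b ∧ u = w := by
  have h1 := congrArg Co.b4 h
  have h2 := congrArg Co.b6 h
  simp at h1 h2
  exact ⟨h1, h2⟩

theorem v4 (a : K) : y4 0 a * y6 0 0 = y4 0 a := by ext <;> simp

theorem v6 (u : K) : y4 0 0 * y6 0 u = y6 0 u := by ext <;> simp

theorem z4_mul (a b : K) : y4 0 a * y4 0 b = y4 0 (a + b) := by ext <;> simp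

theorem eq_v {v : Co K} (h : v ∈ V) : v = y4 0 v.b4 * y6 0 v.b6 := by
  rw [mem_V] at h
  ext <;> simp [h]

theorem v_comm {r : Co K} (h : r ∈ R) (t : K) : y4 0 t * r = r * y4 0 t := by
  rw [mem_R] at h
  ext <;> simp [h] <;> grind

theorem tor_v (k : Kˣ) (a u : K) :
    tor 1 k (y4 0 a * y6 0 u) = y4 0 a * y6 0 ((k : K) * σ (k : K) * u) := by
  ext <;> simp

theorem x1_sq (s : K) : x1 s * x1 s = 1 := by ext <;> simp <;> grind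

theorem j_inj (H : Hyp P ι) {a b : Co K} (h : ⟪a⟫ = ⟪b⟫) : a = b := P.inj (H.inj h)

theorem j_x1 (s a u : K) :
    ⟪x1 s⟫ * ⟪y4 0 a * y6 0 u⟫ * ⟪x1 s⟫⁻¹ = ⟪y4 0 (a + s * u) * y6 0 u⟫ := by
  rw [← x1_v]; simp only [map_mul, map_inv]

theorem key (H : Hyp P ι) {w k : G} {s : K} (h : w * ι P.z * w⁻¹ = k * ⟪y4 0 s⟫ * k⁻¹) (t : K) :
    ∃ u, w * ⟪y4 0 t⟫ * w⁻¹ = k * ⟪y4 0 u⟫ * k⁻¹ := by
  have h1 : Nm ι (k⁻¹ * w) := H.nm_of_Z (t := s) (by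
    rw [show k⁻¹ * w * ι P.z * (k⁻¹ * w)⁻¹ = k⁻¹ * (w * ι P.z * w⁻¹) * k by group, h]; group)
  obtain ⟨α, hα⟩ := H.aut h1
  obtain ⟨u, hu⟩ := P.aut_Z α t
  refine ⟨u, ?_⟩
  rw [← hu, ← hα]
  group

theorem swap {g a b : G} (h : g * a * g⁻¹ = b) : g⁻¹ * b * g⁻¹⁻¹ = a := by
  rw [← h]; group

theorem z6 (H : Hyp P ι) {g : G} (h4 : g * ι P.z * g⁻¹ = ⟪y6 0 1⟫)
    (h6 : g * ⟪y6 0 1⟫ * g⁻¹ = ι P.z) :
    (∀ s, ∃ u, g * ⟪y4 0 s⟫ * g⁻¹ = ⟪y6 0 u⟫) ∧ ∀ u, ∃ s, g * ⟪y4 0 s⟫ * g⁻¹ = ⟪y6 0 u⟫ := by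
  have hV : ∀ s, ∃ a u, g * ⟪y4 0 s⟫ * g⁻¹ = ⟪y4 0 a * y6 0 u⟫ := fun s => by
    obtain ⟨v, hv, e⟩ := H.cent_R (g := g * ⟪y4 0 s⟫ * g⁻¹) fun r hr => by
      obtain ⟨r', hr', e⟩ := H.normR (swap h6) (swap h4) hr
      have e1 := swap e
      simp only [inv_inv] at e1
      have e2 : ⟪y4 0 s⟫ * ⟪r'⟫ = ⟪r'⟫ * ⟪y4 0 s⟫ := by
        simp only [← map_mul, v_comm hr']
      rw [← e1, Commute, SemiconjBy, conj_mul, conj_mul, e2]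
    exact ⟨_, _, by rw [e, ← eq_v hv]⟩
  have h0 : ∀ s t, g * ⟪y4 0 s⟫ * g⁻¹ = ⟪y4 0 t⟫ → t = 0 := fun s t e => by
    have e1 : g * ⟪x1 s⟫ * g⁻¹ * ι P.z * (g * ⟪x1 s⟫ * g⁻¹)⁻¹ = ⟪y4 0 (t + 1)⟫ := by
      have e2 := j_x1 (P := P) (ι := ι) s 0 1
      rw [v6, zero_add, mul_one, map_mul, map_mul] at e2
      rw [← h6, conj_inv, conj_mul, conj_mul, e2, ← conj_mul, e, h6, ← z4_mul, map_mul, map_mul]
      rfl
    obtain ⟨c, hc⟩ := H.mem_of_nm (H.nm_of_Z e1) (j := 1) (by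
      rw [pow_one, sq, conj_mul, ← map_mul, ← map_mul, x1_sq]; simp)
    rw [hc, ← map_inv, ← map_mul, ← map_mul, Par.z, (P.z_comm c 1).eq, mul_inv_cancel_right] at e1
    have := congrArg Co.b4 (j_inj H e1)
    simpa using this
  have hadd : ∀ s a u t b w, g * ⟪y4 0 s⟫ * g⁻¹ = ⟪y4 0 a * y6 0 u⟫ →
      g * ⟪y4 0 t⟫ * g⁻¹ = ⟪y4 0 b * y6 0 w⟫ →
      g * ⟪y4 0 (s + t)⟫ * g⁻¹ = ⟪y4 0 (a + b) * y6 0 (u + w)⟫ := fun s a u t b w e1 e2 => by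
    rw [← v_mul, ← z4_mul, map_mul, map_mul, ← conj_mul, e1, e2, ← map_mul, ← map_mul]
  choose A B hAB using hV
  have hB : Function.Injective B := fun s t e => by
    have e1 := hadd _ _ _ _ _ _ (hAB s) (hAB t)
    rw [e, CharTwo.add_self_eq_zero, v4] at e1
    rw [h0 _ _ e1, show (y4 0 0 : Co K) = 1 by ext <;> simp, map_one, map_one, conj_eq_one_iff] at e1
    have := congrArg Co.b4 (j_inj H (e1.trans (by rw [map_one, map_one] : (1 : G) = ⟪1⟫)))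
    simp at this
    grind
  have hM : ∀ {a u}, (∃ s, g * ⟪y4 0 s⟫ * g⁻¹ = ⟪y4 0 a * y6 0 u⟫) → a = 0 := by
    refine alg (fun a u => ∃ s, g * ⟪y4 0 s⟫ * g⁻¹ = ⟪y4 0 a * y6 0 u⟫) ?_ ?_ ?_ ⟨1, by rw [v6]; exact h4⟩ ?_
    · rintro a u b w ⟨s, e1⟩ ⟨t, e2⟩
      exact ⟨_, hadd _ _ _ _ _ _ e1 e2⟩
    · rintro a ⟨s, e⟩
      exact h0 s a (by rw [e, v4])
    · intro u
      obtain ⟨s, rfl⟩ := Finite.injective_iff_surjective.1 hB u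
      exact ⟨_, s, hAB s⟩
    · rintro l b l0 ⟨s, e1⟩ a u ⟨t, e2⟩
      obtain ⟨k, rfl⟩ := N_surj l
      have k0 : k ≠ 0 := by rintro rfl; simp at l0
      lift k to Kˣ using k0.isUnit
      have hd : ∀ a u, ι (P.d k) * ⟪y4 0 a * y6 0 u⟫ * (ι (P.d k))⁻¹ =
          ⟪y4 0 a * y6 0 ((k : K) * σ (k : K) * u)⟫ := fun a u => by
        rw [← tor_v, ← P.d_nf]; simp only [map_mul, map_inv]
      have cj : ∀ x y : G, x * g * y * (x * g)⁻¹ = x * (g * y * g⁻¹) * x⁻¹ := fun x y => by group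
      obtain ⟨t', e3⟩ := key H (w := ι (P.d k) * g) (k := ⟪x1 (b / (k * σ (k : K)))⟫ * g) (s := s) (by
        rw [cj, cj, h4, e1, j_x1, ← v6, hd, div_mul_cancel₀ _ l0, CharTwo.add_self_eq_zero, mul_one]) t
      rw [cj, cj, e2, hd, hAB, j_x1] at e3
      obtain ⟨e4, e5⟩ := v_inj (j_inj H e3)
      refine ⟨t', ?_⟩
      rw [hAB, ← e5, e4, ← e5, ← mul_assoc, div_mul_cancel₀ _ l0, add_assoc,
        CharTwo.add_self_eq_zero, add_zero]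
  refine ⟨fun s => ⟨B s, by rw [hAB, hM ⟨s, hAB s⟩, v6]⟩, fun u => ?_⟩
  obtain ⟨s, rfl⟩ := Finite.injective_iff_surjective.1 hB u
  exact ⟨s, by rw [hAB, hM ⟨s, hAB s⟩, v6]⟩

end SP

open SP in
theorem Hyp.spread (H : Hyp P ι) {g : G} (h4 : g * ι P.z * g⁻¹ = ι (P.nf (y6 0 1)))
    (h6 : g * ι (P.nf (y6 0 1)) * g⁻¹ = ι P.z) : ∃ n, Sw P ι n := by
  obtain ⟨a1, -⟩ := SP.z6 H h4 h6
  obtain ⟨b1, -⟩ := SP.z6 H (swap h6) (swap h4)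
  have xx : ⟪x1 1⟫ * ⟪x1 1⟫ = 1 := by rw [← map_mul, ← map_mul, x1_sq, map_one, map_one]
  have x4 : ∀ t, ⟪x1 1⟫ * ⟪y4 0 t⟫ * ⟪x1 1⟫⁻¹ = ⟪y4 0 t⟫ := fun t => by
    have := j_x1 (P := P) (ι := ι) 1 t 0
    rwa [mul_zero, add_zero, v4] at this
  have x6 : ∀ t, ⟪x1 1⟫ * ⟪y6 0 t⟫ * ⟪x1 1⟫⁻¹ = ⟪y4 0 t * y6 0 t⟫ := fun t => by
    have := j_x1 (P := P) (ι := ι) 1 0 t
    rwa [one_mul, zero_add, v6] at this
  have x46 : ∀ t, ⟪x1 1⟫ * ⟪y4 0 t * y6 0 t⟫ * ⟪x1 1⟫⁻¹ = ⟪y6 0 t⟫ := fun t => by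
    rw [j_x1, one_mul, CharTwo.add_self_eq_zero, v6]
  have xi := inv_eq_of_mul_eq_one_right xx
  have hx : ⟪x1 1⟫ ∈ ι.range := ⟨_, rfl⟩
  generalize ⟪x1 1⟫ = x at *
  have cm : ∀ t u, ⟪y6 0 u⟫ * ⟪y4 0 t⟫ = ⟪y4 0 t * y6 0 u⟫ := fun t u => by
    rw [v_comm (by simp), map_mul, map_mul]
  -- the action of `g x g⁻¹` on `Z`
  have s4 : ∀ t u w, g⁻¹ * ⟪y4 0 t⟫ * g⁻¹⁻¹ = ⟪y6 0 u⟫ → g * ⟪y4 0 u⟫ * g⁻¹ = ⟪y6 0 w⟫ →
      g * x * g⁻¹ * ⟪y4 0 t⟫ * (g * x * g⁻¹)⁻¹ = ⟪y4 0 t * y6 0 w⟫ := fun t u w e1 e2 => by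
    have e3 := swap e1
    simp only [inv_inv] at e3
    rw [← cm, ← e2, ← e3, conj_inv, conj_mul, conj_mul, conj_mul, x6, map_mul, map_mul]
  have cj : ∀ y : G, x * g * y * (x * g)⁻¹ = x * (g * y * g⁻¹) * x⁻¹ := fun y => by group
  have s4' : ∀ t, g * x * g⁻¹ * ⟪y4 0 t⟫ * (g * x * g⁻¹)⁻¹ = ⟪y4 0 t * y6 0 t⟫ := fun t => by
    obtain ⟨u, e1⟩ := b1 t
    obtain ⟨w, e2⟩ := a1 u
    obtain ⟨t', e3⟩ := key H (w := g * x * g⁻¹) (k := x * g) (s := 1) (by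
      rw [cj]
      exact (s4 1 1 1 (swap h6) h4).trans (by rw [← x6]; exact congrArg (x * · * x⁻¹) h4.symm)) t
    obtain ⟨w', e4⟩ := a1 t'
    rw [cj, e4, x6] at e3
    have e5 := s4 t u w e1 e2
    obtain ⟨rfl, -⟩ := v_inj (j_inj H (e5.symm.trans e3))
    exact e3
  have nn : x * (g * x * g⁻¹) * x * (x * (g * x * g⁻¹) * x) = 1 := by
    rw [show x * (g * x * g⁻¹) * x * (x * (g * x * g⁻¹) * x) =
      x * (g * x * g⁻¹ * (x * x) * (g * x * g⁻¹)) * x by group, xx, mul_one, conj_mul, xx]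
    simpa using xx
  have n4 : ∀ t, x * (g * x * g⁻¹) * x * ⟪y4 0 t⟫ * (x * (g * x * g⁻¹) * x)⁻¹ = ⟪y6 0 t⟫ := fun t => by
    rw [← x46, ← s4', ← x4 t]
    conv_lhs => rw [x4 t]
    group
  have ni := inv_eq_of_mul_eq_one_right nn
  have hg : g * x * g⁻¹ = x⁻¹ * (x * (g * x * g⁻¹) * x) * x⁻¹ := by group
  generalize x * (g * x * g⁻¹) * x = n at *
  have n6 : ∀ t, n * ⟪y6 0 t⟫ * n⁻¹ = ⟪y4 0 t⟫ := fun t => by
    have := swap (n4 t)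
    rwa [ni] at this
  refine ⟨n, n4, n6, ⟨1, one_mem _, by rw [nn, map_one, map_one]⟩, ?_⟩
  obtain ⟨c, rfl⟩ := hx
  obtain ⟨c', e⟩ := H.norm (n * g) (by
    rw [Commute, SemiconjBy, ← mul_inv_eq_iff_eq_mul,
      show n * g * ι P.z * (n * g)⁻¹ = n * (g * ι P.z * g⁻¹) * n⁻¹ by group, h4, n6]
    rfl) c
  have e1 : n = ι c * (n * ι c' * n⁻¹) * ι c := by
    rw [← e, show n * (n * g * ι c * (n * g)⁻¹) * n⁻¹ = n * n * (g * ι c * g⁻¹) * (n * n)⁻¹ by group,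
      nn, hg]
    group
  have h1 : ι c ∈ ι.range ⊔ ι.range.map (MulAut.conj n).toMonoidHom := Subgroup.mem_sup_left ⟨c, rfl⟩
  have h2 : n * ι c' * n⁻¹ ∈ ι.range ⊔ ι.range.map (MulAut.conj n).toMonoidHom :=
    Subgroup.mem_sup_right ⟨ι c', ⟨c', rfl⟩, rfl⟩
  have := mul_mem (mul_mem h1 h2) h1
  rwa [← e1] at this

end H78.Oct
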