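import Mathlib
import Cfsg.Agent.Lib.Oct.Def2
import Cfsg.Agent.Lib.Oct.SP

/-!
# The case q = 2: an involution of the second parabolic subgroup
-/

set_option autoImplicit false
set_option linter.unusedSectionVars false

namespace H78.Oct

open Co

variable {K C G : Type*} [Field K] [Tits K] [Finite K] [Group C] [Finite C] [Group G] [Finite G]
  {P : Par K C} {ι : C →* G}

namespace AM1

theorem z40 : (y4 0 0 : Co K) = 1 := by ext <;> simp
theorem z60 : (y6 0 0 : Co K) = 1 := by ext <;> simp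

theorem cV (hK : ∀ x : K, x = 0 ∨ x = 1) (H : Hyp P ι) {g : G}
    (h4 : g * ι (P.nf (y4 0 1)) * g⁻¹ = ι (P.nf (y4 0 1)))
    (h6 : g * ι (P.nf (y6 0 1)) * g⁻¹ = ι (P.nf (y6 0 1))) : ∃ r ∈ R, g = ι (P.nf r) := by
  refine H.cent_V (fun t => ?_) (fun t => ?_)
  · rcases hK t with rfl | rfl
    · rw [z40, map_one, map_one]; exact Commute.one_right _
    · exact mul_inv_eq_iff_eq_mul.1 h4
  · rcases hK t with rfl | rfl
    · rw [z60, map_one, map_one]; exact Commute.one_right _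
    · exact mul_inv_eq_iff_eq_mul.1 h6

theorem cj_mul {X : Type*} [Group X] (g a b : X) : g * (a * b) * g⁻¹ = g * a * g⁻¹ * (g * b * g⁻¹) := by
  group

theorem mul_cj {X : Type*} [Group X] (g h a : X) : g * h * a * (g * h)⁻¹ = g * (h * a * h⁻¹) * g⁻¹ := by
  group

theorem pow_cj {X : Type*} [Group X] {g a : X} (h : g * a * g⁻¹ = a) (m : ℕ) :
    g ^ m * a * (g ^ m)⁻¹ = a := by
  induction m with
  | zero => simp
  | succ m ih => rw [pow_succ, mul_cj, h, ih]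

/-- The symmetric group acting on a four-group. -/
theorem s3 {X : Type*} [Group X] {a b x n : X} (aa : a * a = 1) (bb : b * b = 1) (ab : b * a = a * b)
    (xx : x * x = 1) (xa : x * a * x⁻¹ = a) (xb : x * b * x⁻¹ = a * b) (na : n * a * n⁻¹ = b)
    (nb : n * b * n⁻¹ = a) (h : ∀ g, g * a * g⁻¹ = a → g * b * g⁻¹ = b → g ^ 16 = 1) :
    ∃ m, m * m = 1 ∧ m * x * m = x * m * x ∧ m * a * m⁻¹ = b ∧ m * b * m⁻¹ = a := by
  have na' : n⁻¹ * a * n⁻¹⁻¹ = b := by rw [← nb]; group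
  have nb' : n⁻¹ * b * n⁻¹⁻¹ = a := by rw [← na]; group
  have bab : b * (a * b) = a := by rw [← mul_assoc, ab, mul_assoc, bb, mul_one]
  obtain ⟨s, hs⟩ : ∃ s, s = n * x * n⁻¹ := ⟨_, rfl⟩
  have ss : s * s = 1 := by rw [hs, ← cj_mul, xx]; group
  have sa : s * a * s⁻¹ = a * b := by rw [hs, mul_cj, mul_cj, na', xb, cj_mul, na, nb, ab]
  have sb : s * b * s⁻¹ = b := by rw [hs, mul_cj, mul_cj, nb', xa, na]
  obtain ⟨t, ht⟩ : ∃ t, t = x * s := ⟨_, rfl⟩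
  have ta : t * a * t⁻¹ = b := by rw [ht, mul_cj, sa, cj_mul, xa, xb, ← mul_assoc, aa, one_mul]
  have tb : t * b * t⁻¹ = a * b := by rw [ht, mul_cj, sb, xb]
  have tab : t * (a * b) * t⁻¹ = a := by rw [cj_mul, ta, tb, bab]
  have t3 : t ^ 3 = t * t * t := by rw [pow_succ, pow_two]
  have t3a : t ^ 3 * a * (t ^ 3)⁻¹ = a := by rw [t3, mul_cj, mul_cj, ta, tb, tab]
  have t3b : t ^ 3 * b * (t ^ 3)⁻¹ = b := by rw [t3, mul_cj, mul_cj, tb, tab, ta]
  have t48 := h _ t3a t3b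
  obtain ⟨y, hy⟩ : ∃ y, y = t ^ 16 := ⟨_, rfl⟩
  have y3 : y * y * y = 1 := by rw [hy, ← t48]; group
  have xi : x⁻¹ = x := inv_eq_of_mul_eq_one_right xx
  have xt : x * t * x⁻¹ = t⁻¹ := by
    rw [ht, ← mul_assoc, xx, one_mul, mul_inv_rev, inv_eq_of_mul_eq_one_right ss]
  have xy : x * y * x = y⁻¹ := by
    rw [hy, ← inv_pow, ← xt, conj_pow, xi]
  have hy' : y = t * (t ^ 3) ^ 5 := by rw [hy]; group
  have ya : y * a * y⁻¹ = b := by rw [hy', mul_cj, pow_cj t3a, ta]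
  have yb : y * b * y⁻¹ = a * b := by rw [hy', mul_cj, pow_cj t3b, tb]
  refine ⟨y * x, ?_, ?_, ?_, ?_⟩
  · calc y * x * (y * x) = y * (x * y * x) := by group
      _ = 1 := by rw [xy, mul_inv_cancel]
  · calc y * x * x * (y * x) = y * (x * x) * y * x := by group
      _ = y⁻¹ * (y * y * y) * x := by rw [xx]; group
      _ = x * y * x * x := by rw [y3, xy, mul_one]
      _ = _ := by group
  · rw [mul_cj, xa, ya]
  · rw [mul_cj, xb, cj_mul, ya, yb, bab]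

theorem x5R {r : Co K} (hr : r ∈ R) : ∃ a c, x5 1 * r * (x5 1)⁻¹ * r⁻¹ = y4 0 a * y6 0 c := by
  refine ⟨r.a2, r.a8, ?_⟩
  rw [mul_inv_eq_iff_eq_mul, mul_inv_eq_iff_eq_mul]
  rw [mem_R] at hr
  ext <;> simp [hr] <;> grind

end AM1

open AM1 in
theorem Hyp.am (hK : ∀ x : K, x = 0 ∨ x = 1) (H : Hyp P ι) {n : G} (S : Sw P ι n) : ∃ n', Am P ι n' := by
  obtain ⟨ν, hν⟩ : ∃ ν : Co K →* G, ∀ a, ι (P.nf a) = ν a := ⟨ι.comp P.nf, fun _ => rfl⟩
  have inj : ∀ {a b}, ν a = ν b → a = b := fun h => P.inj (H.inj (by rwa [hν, hν]))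
  obtain ⟨m, mm, br, m4, m6⟩ := s3 (a := ν (y4 0 1)) (b := ν (y6 0 1)) (x := ν (x1 1)) (n := n)
    (by rw [← map_mul, HA.z4_sq, map_one])
    (by rw [← map_mul, ← map_one ν]; congr 1; ext <;> simp <;> grind)
    (by rw [← map_mul, ← map_mul]; congr 1; ext <;> simp)
    (by rw [← map_mul, SP.x1_sq, map_one])
    (by rw [mul_inv_eq_iff_eq_mul, ← map_mul, ← map_mul]; congr 1; ext <;> simp)
    (by rw [mul_inv_eq_iff_eq_mul, ← map_mul, ← map_mul, ← map_mul]; congr 1; ext <;> simp <;> grind)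
    (by simpa only [hν] using S.z4 1) (by simpa only [hν] using S.z6 1)
    (fun g h4 h6 => by
      obtain ⟨r, -, rfl⟩ := cV hK H (by simpa only [hν] using h4) (by simpa only [hν] using h6)
      rw [← map_pow, ← map_pow, pow_16, map_one, map_one])
  have mi : m⁻¹ = m := inv_eq_of_mul_eq_one_right mm
  have nR : ∀ a ∈ R, ∃ b ∈ R, m * ν a * m⁻¹ = ν b := fun a ha => by
    simpa only [hν] using H.normR (g := m) (by simpa only [Par.z, hν] using m4)
      (by simpa only [Par.z, hν] using m6) ha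
  have back : ∀ {u v : G}, m * u * m⁻¹ = v → m * v * m⁻¹ = u := by
    intro u v h
    rw [← h, ← mul_cj, mm]; group
  have mV : ∀ a c, m * ν (y4 0 a * y6 0 c) * m⁻¹ = ν (y4 0 c * y6 0 a) := by
    intro a c
    have e4 : ∀ a, m * ν (y4 0 a) * m⁻¹ = ν (y6 0 a) := fun a => by
      rcases hK a with rfl | rfl
      · rw [z40, z60, map_one]; group
      · exact m4
    rw [map_mul, cj_mul, e4, back (e4 c), ← map_mul]
    congr 1; ext <;> simp
  obtain ⟨b, hb, eb⟩ := nR (x5 1) (by simp)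
  have hb2 := B2.z2R hK hb (fun r hr => by
    obtain ⟨r', hr', e⟩ := nR r hr
    obtain ⟨a, c, e2⟩ := x5R hr'
    have : ν (b * r * b⁻¹ * r⁻¹) = ν (y4 0 c * y6 0 a) := by
      rw [← mV, ← e2]
      simp only [map_mul, map_inv]
      rw [← eb, ← back e]; group
    rw [inj this]; simp)
  generalize b.a5 = s, b.b4 = a, b.b6 = c at hb2
  subst hb2
  have eb' := back eb
  rcases hK s with rfl | rfl
  · rw [show (x5 0 : Co K) = 1 by ext <;> simp, one_mul, mV] at eb'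
    have := congrArg Co.a5 (inj eb')
    simp at this
  rw [map_mul, cj_mul, eb, mV, ← map_mul] at eb'
  have hac : c = a := by
    have := congrArg Co.b4 (inj eb')
    simp at this
    grind
  subst hac
  rcases hK c with rfl | rfl
  · rw [z40, z60, mul_one, mul_one] at eb
    rw [mi] at eb m4 nR
    exact ⟨m, mm, by simpa only [hν] using br, by simpa only [hν] using m4, by simpa only [hν] using eb,
      by simpa only [hν] using nR⟩
  obtain ⟨g, hg⟩ : ∃ g, g = ν (y2 1 0) := ⟨_, rfl⟩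
  have cj : ∀ {u v : Co K}, y2 1 0 * u = v * y2 1 0 → g * ν u * g⁻¹ = ν v := by
    intro u v h
    rw [hg, mul_inv_eq_iff_eq_mul, ← map_mul, ← map_mul, h]
  have cj' : ∀ {u v : Co K}, y2 1 0 * v = u * y2 1 0 → g⁻¹ * ν u * g⁻¹⁻¹ = ν v := by
    intro u v h
    rw [← cj h]; group
  have ni : (g * m * g⁻¹)⁻¹ = g * m * g⁻¹ := by rw [conj_inv, mi]
  have act : ∀ u, g * m * g⁻¹ * u * (g * m * g⁻¹) = g * (m * (g⁻¹ * u * g⁻¹⁻¹) * m⁻¹) * g⁻¹ := by
    intro u; rw [mi]; group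
  have gx : g * ν (x1 1) * g⁻¹ = ν (x1 1) := cj (by ext <;> simp)
  refine ⟨g * m * g⁻¹, ?_, ?_, ?_, ?_, fun r hr => ?_⟩
  · rw [← cj_mul, mm]; group
  · rw [hν, ← gx, ← cj_mul, ← cj_mul, ← cj_mul, ← cj_mul, br]
  · rw [hν, hν, act, cj' (v := y4 0 1) (by ext <;> simp), m4, cj (v := y6 0 1) (by ext <;> simp)]
  · rw [hν, act, cj' (v := x5 1 * (y4 0 1 * y6 0 0)) (by ext <;> simp <;> grind), map_mul, cj_mul m, eb, mV,
      ← map_mul]
    exact cj (by ext <;> simp <;> grind)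
  · have h2 : (y2 1 0 : Co K) ∈ R := by simp
    obtain ⟨r', hr', e⟩ := nR ((y2 1 0)⁻¹ * r * y2 1 0) (R.mul_mem (R.mul_mem (R.inv_mem h2) hr) h2)
    refine ⟨y2 1 0 * r' * (y2 1 0)⁻¹, R.mul_mem (R.mul_mem h2 hr') (R.inv_mem h2), ?_⟩
    rw [hν, hν, act, cj' (v := (y2 1 0)⁻¹ * r * y2 1 0) (by group), e]
    exact cj (by group)

open AM1 in
/-- For `q = 2` the centralizer of `τ` is `C` (no fusion hypothesis). -/
theorem Hyp.cent_two (hK : ∀ x : K, x = 0 ∨ x = 1) (H : Hyp P ι) {g : G} (hg : Commute g (ι P.z)) :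
    ∃ c, g = ι c := by
  obtain ⟨α, hα⟩ := H.aut (H.norm g hg)
  obtain ⟨c, hc⟩ := P.sylow ((⊤ : Subgroup (Co K)).map (α.toMonoidHom.comp P.nf))
    ((isPGroup.to_subgroup ⊤).map _)
  have hc' : ∀ a, ∃ b, c * α (P.nf a) * c⁻¹ = P.nf b := fun a => hc _ ⟨a, trivial, rfl⟩
  obtain ⟨β, hβ⟩ : ∃ β : MulAut C, ∀ x, β x = c * α x * c⁻¹ := ⟨MulAut.conj c * α, fun _ => rfl⟩
  obtain ⟨e, he, ee⟩ := P.aut_E β (a := y6 0 1) (by simp)
  obtain ⟨a, ha⟩ := PC.sj P hc' (y8 1 0)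
  rw [← hβ] at ha
  obtain ⟨u, hu⟩ := P.aut_Z β (1 * a.a1)
  have r := PC.rel ee ha hu (PC.z6_rel 1 a)
  rw [mem_E] at he
  have h2 := congrArg Co.a3 r
  simp [he] at h2
  have h3 := congrArg Co.a5 r
  simp [he, h2] at h3
  have h5 := congrArg Co.b6 r
  simp [he, h2, h3] at h5
  have h6 : e.b6 = 1 := by
    refine (hK _).resolve_left fun h6 => ?_
    obtain ⟨v, hv⟩ := P.aut_Z β⁻¹ e.b4
    rw [← FC.Z_eq (by simp [he, h2, h3, h5, h6]), ← ee, MulAut.inv_apply_self] at hv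
    have := congrArg Co.b6 (P.inj hv)
    simp at this
  have hx : x1 e.b4 * e * (x1 e.b4)⁻¹ = y6 0 1 := by
    rw [mul_inv_eq_iff_eq_mul]
    ext <;> simp [he, h2, h3, h5, h6] <;> grind
  obtain ⟨r, -, hr⟩ := cV hK H (g := ι (P.nf (x1 e.b4) * c) * g)
    (by
      rw [mul_cj, show g * ι (P.nf (y4 0 1)) * g⁻¹ = ι (P.nf (y4 0 1)) from mul_inv_eq_iff_eq_mul.2 hg.eq,
        ← map_inv, ← map_mul, ← map_mul, (P.z_comm _ 1).eq, mul_inv_cancel_right])
    (by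
      rw [mul_cj, hα, ← map_inv, ← map_mul, ← map_mul, mul_cj, ← hβ, ee, ← map_inv, ← map_mul, ← map_mul, hx])
  exact ⟨(P.nf (x1 e.b4) * c)⁻¹ * P.nf r, by rw [map_mul, map_inv, ← hr]; group⟩

end H78.Oct
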