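import Mathlib
import Cfsg.Agent.Lib.Oct.Def2

/-!
# The case q = 2: twisting the coordinates
-/

set_option autoImplicit false
set_option linter.unusedSectionVars false

namespace H78.Oct

open Co

variable {K C G : Type*} [Field K] [Tits K] [Finite K] [Group C] [Finite C] [Group G] [Finite G]
  {P : Par K C} {ι : C →* G}

namespace TW

/-- `phi` is multiplicative at `g`. -/
def ok (x y g : Co (Bs 17)) : Bs 17 :=
  eqB (phi (vr 17 12) (vr 17 13) (vr 17 14) (g * x)) (phi (vr 17 12) (vr 17 13) (vr 17 14) g * y)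

variable (hK : ∀ x : K, x = 0 ∨ x = 1) (e1 e2 e3 : K)
include hK

theorem roots (s u : K) (x : Co K) : ∀ g ∈ [x1 s, y2 s u, x3 s, y4 s u, x5 s, y6 s u, x7 s, y8 s u],
    phi e1 e2 e3 (g * x) = phi e1 e2 e3 g * phi e1 e2 e3 x := by
  obtain ⟨i, rfl, h⟩ := exists_gen hK 17 (by decide) x fun j => [e1, e2, e3, s, u].getD (j - 12) 0
  obtain rfl : pi K i (vr 17 12) = e1 := h 12 (by decide) (by decide)
  obtain rfl : pi K i (vr 17 13) = e2 := h 13 (by decide) (by decide)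
  obtain rfl : pi K i (vr 17 14) = e3 := h 14 (by decide) (by decide)
  obtain rfl : pi K i (vr 17 15) = s := h 15 (by decide) (by decide)
  obtain rfl : pi K i (vr 17 16) = u := h 16 (by decide) (by decide)
  have := Tr.of (K := K) (i := i) (x := fc (gen 17 0) fun x =>
    fc (phi (vr 17 12) (vr 17 13) (vr 17 14) x) fun y =>
    andB (ok x y (bx1 (vr 17 15))) <| andB (ok x y (by2 (vr 17 15) (vr 17 16))) <|
    andB (ok x y (bx3 (vr 17 15))) <| andB (ok x y (by4 (vr 17 15) (vr 17 16))) <|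
    andB (ok x y (bx5 (vr 17 15))) <| andB (ok x y (by6 (vr 17 15) (vr 17 16))) <|
    andB (ok x y (bx7 (vr 17 15))) (ok x y (by8 (vr 17 15) (vr 17 16)))) (by decide +kernel)
  simp only [fc_eq, ok, tr_and, tr_eqB, ev_phi, ev_mul', ev_bx1, ev_by2, ev_bx3, ev_by4, ev_bx5, ev_by6,
    ev_bx7, ev_by8] at this
  simpa only [List.forall_mem_cons, List.not_mem_nil, IsEmpty.forall_iff, implies_true, and_true] using this

theorem facts (x : Co K) : (phi e1 e2 e3 x = 1 → x = 1) ∧ (phi e1 e2 e3 x).a8 = x.a8 ∧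
    (x.a8 = 0 → (phi e1 e2 e3 x).b8 = x.b8) ∧ (x.a8 = 0 → x.b8 = 0 →
      w2 (phi e1 e2 e3 x) = phi e1 e2 e3 (w2 x)) ∧ (phi e1 e2 e3 x).a1 = x.a1 := by
  obtain ⟨i, rfl, h⟩ := exists_gen hK 15 (by decide) x fun j => [e1, e2, e3].getD (j - 12) 0
  obtain rfl : pi K i (vr 15 12) = e1 := h 12 (by decide) (by decide)
  obtain rfl : pi K i (vr 15 13) = e2 := h 13 (by decide) (by decide)
  obtain rfl : pi K i (vr 15 14) = e3 := h 14 (by decide) (by decide)
  have := Tr.of (K := K) (i := i) (x := fc (gen 15 0) fun x =>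
    fc (phi (vr 15 12) (vr 15 13) (vr 15 14) x) fun y => andB (impB (eqB y 1) (eqB x 1)) <| andB (eqS y.a8 x.a8) <|
    andB (impB (eqS x.a8 0) (eqS y.b8 x.b8)) <| andB (impB (eqS x.a8 0) <| impB (eqS x.b8 0) <|
      eqB (bw2 y) (phi (vr 15 12) (vr 15 13) (vr 15 14) (bw2 x))) (eqS y.a1 x.a1)) (by decide +kernel)
  simp only [fc_eq, tr_and, tr_imp, tr_eqB, tr_eqS, ev_phi, ev_one, ev_bw2, pi_a1, pi_a8, pi_b8, pi_zero] at this
  exact this

theorem vals : phi e1 e2 e3 (y4 0 1) = y4 0 1 ∧ phi e1 e2 e3 (y8 1 0) = y4 e1 e2 * y8 1 0 := by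
  obtain ⟨i, h⟩ := exists_ix hK 3 fun j => [e1, e2, e3].getD j 0
  obtain rfl : pi K i (vr 3 0) = e1 := h 0 (by decide)
  obtain rfl : pi K i (vr 3 1) = e2 := h 1 (by decide)
  obtain rfl : pi K i (vr 3 2) = e3 := h 2 (by decide)
  have := Tr.of (K := K) (i := i) (x := andB (eqB (phi (vr 3 0) (vr 3 1) (vr 3 2) (by4 0 1)) (by4 0 1))
    (eqB (phi (vr 3 0) (vr 3 1) (vr 3 2) (by8 1 0)) (by4 (vr 3 0) (vr 3 1) * by8 1 0))) (by decide +kernel)
  simpa only [tr_and, tr_eqB, ev_phi, ev_mul', ev_by4, ev_by8, pi_zero, pi_one] using this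

end TW

theorem phi_mul (hK : ∀ x : K, x = 0 ∨ x = 1) (e1 e2 e3 : K) (x y : Co K) :
    phi e1 e2 e3 (x * y) = phi e1 e2 e3 x * phi e1 e2 e3 y := by
  have mul : ∀ g h : Co K, (∀ y, phi e1 e2 e3 (g * y) = phi e1 e2 e3 g * phi e1 e2 e3 y) →
      (∀ y, phi e1 e2 e3 (h * y) = phi e1 e2 e3 h * phi e1 e2 e3 y) →
      ∀ y, phi e1 e2 e3 (g * h * y) = phi e1 e2 e3 (g * h) * phi e1 e2 e3 y := fun g h hg hh y => by
    rw [mul_assoc, hg, hh, hg, mul_assoc]
  have r := TW.roots hK e1 e2 e3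
  rw [eq_prod x]
  exact mul _ _ (mul _ _ (mul _ _ (mul _ _ (mul _ _ (mul _ _ (mul _ _ (fun y => r x.a1 0 y _ (by simp))
    fun y => r x.a2 x.b2 y _ (by simp)) fun y => r x.a3 0 y _ (by simp)) fun y => r x.a4 x.b4 y _ (by simp))
    fun y => r x.a5 0 y _ (by simp)) fun y => r x.a6 x.b6 y _ (by simp)) fun y => r x.a7 0 y _ (by simp))
    (fun y => r x.a8 x.b8 y _ (by simp)) y

theorem Hyp.twist (hK : ∀ x : K, x = 0 ∨ x = 1) (H : Hyp P ι) (hR : P.Rel) (e1 e2 e3 : K) :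
    ∃ P' : Par K C, Hyp P' ι ∧ P'.Rel ∧ P'.z = P.z ∧ ∀ a, P'.nf a = P.nf (phi e1 e2 e3 a) := by
  let φ : Co K →* Co K := MonoidHom.mk' (phi e1 e2 e3) (phi_mul hK e1 e2 e3)
  have f := TW.facts hK e1 e2 e3
  have inj : Function.Injective φ := (injective_iff_map_eq_one φ).2 fun a => (f a).1
  have sur := Finite.injective_iff_surjective.1 inj
  have hQ : ∀ a, φ a ∈ Q ↔ a ∈ Q := fun a => by
    change (phi e1 e2 e3 a).a8 = 0 ∧ (phi e1 e2 e3 a).b8 = 0 ↔ _
    rw [(f a).2.1]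
    exact and_congr_right fun h => by rw [(f a).2.2.1 h]
  obtain ⟨v4, v8⟩ : φ (y4 0 1) = y4 0 1 ∧ φ (y8 1 0) = y4 e1 e2 * y8 1 0 := TW.vals hK e1 e2 e3
  have z := P.z_comm
  have nl : Commute P.n (P.nf (y4 e1 e2)) := by
    have := P.n_nf (y4 e1 e2) (by simp)
    rw [show w2 (y4 e1 e2) = y4 e1 e2 by ext <;> simp] at this
    exact (mul_inv_eq_iff_eq_mul.1 (by rw [P.n_inv, this]) :)
  have lu : Commute (P.nf (y4 e1 e2)) (P.nf (y8 1 0)) := Commute.map (by ext <;> simp) _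
  have l2 : P.nf (y4 e1 e2) * P.nf (y4 e1 e2) = P.nf (y4 0 e1) := by
    rw [← map_mul]; congr 1; ext <;> simp [add_assoc, CharTwo.add_self_eq_zero, Q2_σ hK, Q2_mm hK]
  have zz : P.nf (y4 0 e1) * P.nf (y4 0 e1) = 1 := by rw [← map_mul, HA.z4_sq, map_one]
  have cj : ∀ x, P.n * P.nf (y4 0 e1) * x * (P.n * P.nf (y4 0 e1)) = P.n * x * P.n := fun x => by
    rw [mul_assoc P.n _ x, ← (z x e1).eq, (z P.n e1).eq, mul_assoc, mul_assoc, ← mul_assoc (P.nf _), zz, one_mul,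
      mul_assoc]
  have u2 : (y8 0 1 : Co K) = y8 1 0 * y8 1 0 := by ext <;> simp [CharTwo.add_self_eq_zero]
  have u3 : (y8 1 1 : Co K) = (y8 1 0)⁻¹ := by ext <;> simp
  have big : ∀ t v, ∃ q ∈ Q, Commute P.n (P.nf q) ∧ φ (y8 t v) = q * y8 t v := fun t v => by
    have c : ∀ k : ℕ, y4 e1 e2 ^ k ∈ Q ∧ Commute P.n (P.nf (y4 e1 e2 ^ k)) ∧
        φ (y8 1 0 ^ k) = y4 e1 e2 ^ k * y8 1 0 ^ k := fun k =>
      ⟨pow_mem (by simp) k, map_pow P.nf _ k ▸ nl.pow_right k, by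
        rw [map_pow, v8, Commute.mul_pow (by ext <;> simp)]⟩
    have : ∃ k : ℕ, y8 t v = y8 1 0 ^ k := by
      rcases hK t with rfl | rfl <;> rcases hK v with rfl | rfl
      exacts [⟨0, by ext <;> simp⟩, ⟨2, by rw [pow_two, u2]⟩, ⟨1, by simp⟩,
        ⟨3, by rw [pow_three, ← u2]; ext <;> simp⟩]
    obtain ⟨k, hk⟩ := this
    exact ⟨_, (c k).1, (c k).2.1, hk ▸ (c k).2.2⟩
  refine ⟨{ nf := P.nf.comp φ
            inj := P.inj.comp inj
            n := P.n * P.nf (y4 0 e1)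
            nn := by simpa [P.nn] using cj 1
            n_nf := fun a ha => (cj _).trans ((P.n_nf _ ((hQ a).2 ha)).trans
              (congrArg P.nf ((f a).2.2.2.1 ha.1 ha.2)))
            n_y8 := fun t v a h => ?_
            d := 1
            T := 1
            T_nf := fun c k a => by rw [B2.unit hK c, B2.unit hK k, tor_one]; rfl
            T_d := fun _ _ => rfl
            T_n := fun _ _ => (one_mul _).symm
            d_conj := fun _ _ => by simp
            bruhat := fun c => ?_ }, ⟨H.inj, H.odd, fun g hg => H.norm g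
        ((congrArg (fun x => Commute g (ι (P.nf x))) v4).mp hg), fun g hg => H.core g fun a ha => ?_⟩,
      ?_, congrArg P.nf v4, fun _ => rfl⟩
  · obtain ⟨q, hq, c, e⟩ := big t v
    refine P.n_y8 t v (q⁻¹ * φ a) ?_
    rw [cj, MonoidHom.comp_apply, MonoidHom.comp_apply, e, map_mul, ← mul_assoc, c.eq] at h
    rw [map_mul, ← h, map_inv]
    group
  · rcases P.bruhat c with ⟨a, k, rfl⟩ | ⟨a, k, t, v, rfl⟩
    · obtain ⟨a, rfl⟩ := sur a
      exact Or.inl ⟨a, 1, by rw [B2.d_one hK]; rfl⟩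
    · obtain ⟨q, hq, c, e⟩ := big t v
      obtain ⟨b, hb⟩ := sur (a * q⁻¹ * y4 0 e1)
      refine Or.inr ⟨b, 1, t, v, ?_⟩
      simp only [MonoidHom.comp_apply, hb, e, map_mul, map_inv, map_one, B2.d_one hK, mul_one, (z P.n e1).eq]
      calc _ = P.nf a * (P.nf q)⁻¹ * (P.nf q * P.n) * P.nf (y8 t v) := by group
        _ = _ := by rw [← c.eq, mul_assoc _ (P.nf (y4 0 e1)), ← mul_assoc (P.nf (y4 0 e1)), zz]; group
  · obtain ⟨b, rfl⟩ := sur a
    exact hg b ((hQ b).1 ha)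
  · change P.n * P.nf (y4 0 e1) * P.nf (φ _) * _ = P.nf (φ _) * (P.n * P.nf (y4 0 e1)) * P.nf (φ _)
    unfold Par.Rel at hR
    rw [cj, u2, u3, map_mul, map_inv, v8]
    rw [u2, u3] at hR
    simp only [map_mul, map_inv] at hR ⊢
    rw [← l2]
    generalize P.nf (y4 e1 e2) = l, P.nf (y8 1 0) = u at *
    calc P.n * (l * u * (l * u)) * P.n = l * l * (P.n * (u * u) * P.n) := by
          rw [lu.symm.mul_mul_mul_comm, ← mul_assoc, (nl.mul_right nl).eq]
          simp only [mul_assoc]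
      _ = _ := by
          rw [hR, mul_inv_rev, mul_assoc u⁻¹ l⁻¹, ← mul_assoc l⁻¹, nl.symm.inv_left.eq]
          have := ((lu.inv_right.mul_right nl.symm).mul_right lu)
          rw [(this.mul_left this).eq]
          simp only [mul_assoc, inv_mul_cancel_left]
          rw [(lu.symm.mul_right lu.symm).eq, mul_assoc]

theorem auto_lemmas_tw : True := by
  have := @TW.ok.eq_1
  trivial

end H78.Oct
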