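import Mathlib
import Cfsg.Agent.Lib.Oct.TW

/-!
# The case q = 2: the amalgam is determined
-/

set_option autoImplicit false
set_option linter.unusedSectionVars false

namespace H78.Oct

open Co

variable {K C G : Type*} [Field K] [Tits K] [Finite K] [Group C] [Finite C] [Group G] [Finite G]
  {P : Par K C} {ι : C →* G}

namespace AM

section
variable {A : Type*} [Add A] [Mul A] [Zero A] [One A] [Mul (Co A)] [Inv (Co A)]

/-- The value of `β` on `U₂ U₃ U₄ U₅ Z₆`. -/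
def app (a c x : Co A) : Co A :=
  sel x.a2 a * sel x.b2 (a * a) * sel x.a3 (c * a * c⁻¹ * a⁻¹) * sel x.a4 c *
    ⟨0, 0, 0, 0, 0, 0, 0, 0, x.b4, 0, 0, 0⟩ * ⟨0, 0, 0, 0, 0, x.b6, x.a5, 0, 0, 0, 0, 0⟩

/-- Interchange `b4` and `b6`. -/
def bw (x : Co A) : Co A := { x with b4 := x.b6, b6 := x.b4 }

/-- The conjugating element. -/
def rr (a : Co A) : Co A := ⟨0, 0, a.a3, a.a3 + a.a5 + a.a4 + a.a3 * a.a4, a.a4, 0, 0, a.a4, a.a4, 0, 0, 0⟩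

/-- The twist followed by the conjugation. -/
def tw (a x : Co A) : Co A :=
  rr a * phi a.a4 (a.a3 + a.b4 + a.a5 + a.a3 * a.a4) (a.a3 + a.b6 + a.a5 * a.a4) x * (rr a)⁻¹

end

/-- On the second centre of `R` the map is `w1`. -/
def Rule (x y : Co K) : Prop := x = x5 x.a5 * (y4 0 x.b4 * y6 0 x.b6) → y = w1 x

/-- The same for truth tables. -/
def ruleB {N : ℕ} (x y : Co (Bs N)) : Bs N :=
  fc x fun x => impB (eqB x (bx5 x.a5 * (by4 0 x.b4 * by6 0 x.b6))) (eqB y (bw1 x))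

theorem tr_rule {N : ℕ} {i : Ix N} (x y : Co (Bs N)) : Tr K i (ruleB x y) ↔ Rule (bev K i x) (bev K i y) := by
  simp only [ruleB, Rule, fc_eq, tr_imp, tr_eqB, ev_mul', ev_bx5, ev_by4, ev_by6, ev_bw1, pi_zero, pi_a5, pi_b4,
    pi_b6]

theorem ev_app {N : ℕ} {i : Ix N} (a c x : Co (Bs N)) :
    bev K i (app a c x) = app (bev K i a) (bev K i c) (bev K i x) := by
  simp only [app, ev_mul', ev_inv, ev_sel, ev_mk, pi_zero]
  rfl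

theorem ev_bw {N : ℕ} {i : Ix N} (x : Co (Bs N)) : bev K i (bw x) = bw (bev K i x) := rfl

theorem ev_tw {N : ℕ} {i : Ix N} (a x : Co (Bs N)) : bev K i (tw a x) = tw (bev K i a) (bev K i x) := by
  simp only [tw, rr, ev_mul', ev_inv, ev_phi, ev_mk, pi_zero, pi_add, pi_mul]
  rfl

variable (hK : ∀ x : K, x = 0 ∨ x = 1)
include hK

theorem key {a c xa xc xc' xd : Co K} (a1 : a.a1 = 0) (a2 : a.a2 = 0) (a8 : a.a8 = 1) (c1 : c.a1 = 0)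
    (c2 : c.a2 = 0) (c8 : c.a8 = 0) (ea : xa = x1 1 * a * x1 1) (ec : xc = x1 1 * c * x1 1)
    (ec' : xc' = x1 1 * (a * a * c) * x1 1) (ed : xd = x1 1 * (c * a * c⁻¹ * a⁻¹) * x1 1)
    (h0 : Rule (a * c⁻¹ * y4 1 0 * c⁻¹ * a⁻¹ * (y4 1 0)⁻¹)
      (y2 1 0 * (y4 1 0)⁻¹ * c * (y4 1 0)⁻¹ * (y2 1 0)⁻¹ * c⁻¹))
    (h1 : Rule (y2 1 0 * xc⁻¹ * (y2 1 0)⁻¹ * xc⁻¹)
      (a * xc'⁻¹ * a⁻¹ * xc'⁻¹))
    (h2 : Rule (xa * (y2 1 0)⁻¹ * (xa * (y2 1 0)⁻¹) * (xa * (y2 1 0)⁻¹ * (xa * (y2 1 0)⁻¹)))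
      (xa * a⁻¹ * (xa * a⁻¹) * (xa * a⁻¹ * (xa * a⁻¹))))
    (h3 : Rule (y2 1 0 * y4 1 0 * a * xa⁻¹ * xd⁻¹)
      (a * c * y2 1 0 * xa⁻¹ * xd⁻¹))
    (h4 : Rule ((y4 1 0)⁻¹ * a * xd * y2 1 0 * xa⁻¹)
      (c⁻¹ * y2 1 0 * xd * a * xa⁻¹)) :
    tw a (x1 1) = x1 1 ∧ (tw a (y2 1 0) = app (y2 1 0) (y4 1 0) (bw (tw a (y2 1 0))) ∧
      app a c (tw a (y2 1 0)) = tw a (y8 1 0)) ∧
      tw a (y4 1 0) = app (y2 1 0) (y4 1 0) (bw (tw a (y4 1 0))) ∧ app a c (tw a (y4 1 0)) = tw a (y6 1 0) := by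
  obtain ⟨i, h⟩ := exists_ix hK 18 fun j => [a.b2, a.a3, a.a4, a.b4, a.a5, a.a6, a.b6, a.a7, a.b8,
    c.b2, c.a3, c.a4, c.b4, c.a5, c.a6, c.b6, c.a7, c.b8].getD j 0
  obtain rfl : bev K i ⟨0, 0, vr 18 0, vr 18 1, vr 18 2, vr 18 3, vr 18 4, vr 18 5, vr 18 6, vr 18 7, 1, vr 18 8⟩
      = a := by
    rw [ev_mk, pi_zero, pi_one, h 0 (by decide), h 1 (by decide), h 2 (by decide), h 3 (by decide),
      h 4 (by decide), h 5 (by decide), h 6 (by decide), h 7 (by decide), h 8 (by decide)]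
    exact Co.ext a1.symm a2.symm rfl rfl rfl rfl rfl rfl rfl rfl a8.symm rfl
  obtain rfl : bev K i ⟨0, 0, vr 18 9, vr 18 10, vr 18 11, vr 18 12, vr 18 13, vr 18 14, vr 18 15, vr 18 16, 0,
      vr 18 17⟩ = c := by
    rw [ev_mk, pi_zero, h 9 (by decide), h 10 (by decide), h 11 (by decide), h 12 (by decide),
      h 13 (by decide), h 14 (by decide), h 15 (by decide), h 16 (by decide), h 17 (by decide)]
    exact Co.ext c1.symm c2.symm rfl rfl rfl rfl rfl rfl rfl rfl c8.symm rfl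
  subst ea ec ec' ed
  have := Tr.of (K := K) (i := i) (x :=
    fc ⟨0, 0, vr 18 0, vr 18 1, vr 18 2, vr 18 3, vr 18 4, vr 18 5, vr 18 6, vr 18 7, 1, vr 18 8⟩ fun a =>
    fc ⟨0, 0, vr 18 9, vr 18 10, vr 18 11, vr 18 12, vr 18 13, vr 18 14, vr 18 15, vr 18 16, 0, vr 18 17⟩ fun c =>
    fc (bx1 1 * a * bx1 1) fun xa => fc (bx1 1 * c * bx1 1) fun xc => fc (bx1 1 * (a * a * c) * bx1 1) fun xc' =>
    fc (bx1 1 * (c * a * c⁻¹ * a⁻¹) * bx1 1) fun xd =>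
    impB (ruleB (a * c⁻¹ * by4 1 0 * c⁻¹ * a⁻¹ * (by4 1 0)⁻¹)
      (by2 1 0 * (by4 1 0)⁻¹ * c * (by4 1 0)⁻¹ * (by2 1 0)⁻¹ * c⁻¹)) <|
    impB (ruleB (by2 1 0 * xc⁻¹ * (by2 1 0)⁻¹ * xc⁻¹)
      (a * xc'⁻¹ * a⁻¹ * xc'⁻¹)) <|
    impB (ruleB (xa * (by2 1 0)⁻¹ * (xa * (by2 1 0)⁻¹) * (xa * (by2 1 0)⁻¹ * (xa * (by2 1 0)⁻¹)))
      (xa * a⁻¹ * (xa * a⁻¹) * (xa * a⁻¹ * (xa * a⁻¹)))) <|
    impB (ruleB (by2 1 0 * by4 1 0 * a * xa⁻¹ * xd⁻¹)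
      (a * c * by2 1 0 * xa⁻¹ * xd⁻¹)) <|
    impB (ruleB ((by4 1 0)⁻¹ * a * xd * by2 1 0 * xa⁻¹)
      (c⁻¹ * by2 1 0 * xd * a * xa⁻¹)) <|
    andB (eqB (tw a (bx1 1)) (bx1 1)) <| andB (fc (tw a (by2 1 0)) fun x =>
      andB (eqB x (app (by2 1 0) (by4 1 0) (bw x))) (eqB (app a c x) (tw a (by8 1 0)))) <|
    fc (tw a (by4 1 0)) fun x => andB (eqB x (app (by2 1 0) (by4 1 0) (bw x))) (eqB (app a c x) (tw a (by6 1 0))))
    (by decide +kernel)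
  simp only [fc_eq, tr_imp, tr_and, tr_eqB, tr_rule, ev_mul', ev_inv, ev_app, ev_tw, ev_bw, ev_bx1, ev_by2, ev_by4,
    ev_by6, ev_by8, pi_zero, pi_one] at this
  exact this h0 h1 h2 h3 h4

theorem pre {a : Co K} (s : K) (a1 : a ∈ R) (ha : a * x5 1 = x5 1 * y6 0 s * a) : a.a2 = 0 ∧ a.a8 = s := by
  have h4 := congrArg Co.b4 ha
  have h6 := congrArg Co.b6 ha
  rw [mem_R] at a1
  simp [a1] at h4 h6
  grind

/-- `R` is generated by four root elements. -/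
theorem genR (X : Subgroup (Co K)) (h2 : y2 1 0 ∈ X) (h4 : y4 1 0 ∈ X) (h6 : y6 1 0 ∈ X) (h8 : y8 1 0 ∈ X) :
    R ≤ X := fun a ha => by
  have e : a = sel a.a2 (y2 1 0) * sel a.b2 (y2 1 0 * y2 1 0) *
      sel a.a3 (y4 1 0 * y2 1 0 * (y4 1 0)⁻¹ * (y2 1 0)⁻¹) * sel a.a4 (y4 1 0) * sel a.b4 (y4 1 0 * y4 1 0) *
      sel a.a5 (y4 1 0 * y6 1 0 * (y4 1 0)⁻¹ * (y6 1 0)⁻¹) * sel a.a6 (y6 1 0) * sel a.b6 (y6 1 0 * y6 1 0) *
      sel a.a7 (y6 1 0 * y8 1 0 * (y6 1 0)⁻¹ * (y8 1 0)⁻¹) * sel a.a8 (y8 1 0) * sel a.b8 (y8 1 0 * y8 1 0) := by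
    obtain ⟨i, rfl, -⟩ := exists_gen hK 12 le_rfl a 0
    have := Tr.of (K := K) (i := i) (x := fc (gen 12 0) fun a => impB (eqS a.a1 0) <| eqB a <|
      sel a.a2 (by2 1 0) * sel a.b2 (by2 1 0 * by2 1 0) *
      sel a.a3 (by4 1 0 * by2 1 0 * (by4 1 0)⁻¹ * (by2 1 0)⁻¹) * sel a.a4 (by4 1 0) * sel a.b4 (by4 1 0 * by4 1 0) *
      sel a.a5 (by4 1 0 * by6 1 0 * (by4 1 0)⁻¹ * (by6 1 0)⁻¹) * sel a.a6 (by6 1 0) * sel a.b6 (by6 1 0 * by6 1 0) *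
      sel a.a7 (by6 1 0 * by8 1 0 * (by6 1 0)⁻¹ * (by8 1 0)⁻¹) * sel a.a8 (by8 1 0) * sel a.b8 (by8 1 0 * by8 1 0))
      (by decide +kernel)
    simp only [fc_eq, tr_imp, tr_eqS, tr_eqB, ev_mul', ev_inv, ev_sel, ev_by2, ev_by4, ev_by6, ev_by8, pi_zero, pi_one,
      pi_a1, pi_a2, pi_b2, pi_a3, pi_a4, pi_b4, pi_a5, pi_a6, pi_b6, pi_a7, pi_a8, pi_b8] at this
    exact this ha
  have s : ∀ t, ∀ g ∈ X, sel t g ∈ X := fun t g hg => by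
    rcases hK t with rfl | rfl
    exacts [sel_zero g ▸ one_mem X, (sel_one g).symm ▸ hg]
  rw [e]
  repeat' first | assumption | apply mul_mem | apply inv_mem | apply s

omit hK

/-- The graph of conjugation by `n`. -/
def Gr (ν : Co K →* G) (n : G) (x y : Co K) : Prop := n * ν x * n⁻¹ = ν y

variable {ν : Co K →* G} {n : G} {x y x' y' : Co K}

theorem Gr.mul (h : Gr ν n x y) (h' : Gr ν n x' y') : Gr ν n (x * x') (y * y') := by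
  unfold Gr at *
  rw [map_mul, map_mul, ← h, ← h']; group

theorem Gr.inv (h : Gr ν n x y) : Gr ν n x⁻¹ y⁻¹ := by
  unfold Gr at *
  rw [map_inv, map_inv, ← h]; group

theorem Gr.one : Gr ν n 1 1 := by simp [Gr]

theorem Gr.symm (hn : n⁻¹ = n) (h : Gr ν n x y) : Gr ν n y x := by
  unfold Gr at *
  rw [← h]
  nth_rewrite 1 [← hn]
  nth_rewrite 4 [← hn]
  group

theorem Gr.sel (hK : ∀ x : K, x = 0 ∨ x = 1) (s : K) (h : Gr ν n x y) : Gr ν n (sel s x) (sel s y) := by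
  rcases hK s with rfl | rfl
  · rw [sel_zero, sel_zero]; exact Gr.one
  · rwa [sel_one, sel_one]

theorem Gr.braid {t : Co K} (hn : n⁻¹ = n) (ht : t * t = 1) (b : n * ν t * n = ν t * n * ν t) (h : Gr ν n x y)
    (h' : Gr ν n (t * x * t) y') : Gr ν n (t * y * t) (t * y' * t) := by
  unfold Gr at *
  simp only [map_mul, hn] at *
  rw [← h, ← h']
  calc _ = n * ν t * n * ν x * (n * ν t * n) := by simp only [mul_assoc]
    _ = _ := by rw [b]; simp only [mul_assoc]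

theorem Gr.of (h : Gr ν n x y) (e : x' = x) (e' : y' = y) : Gr ν n x' y' := e ▸ e' ▸ h

theorem Gr.fn (inj : Function.Injective ν) (h : Gr ν n x y) (h' : Gr ν n x y') : y = y' :=
  inj (Eq.trans (Eq.symm h) h')

/-- The action on `R` up to twisting and conjugation. -/
theorem act (hK : ∀ x : K, x = 0 ∨ x = 1) (inj : Function.Injective ν) (hn : n⁻¹ = n)
    (b : n * ν (x1 1) * n = ν (x1 1) * n * ν (x1 1)) (g4 : Gr ν n (y4 0 1) (y6 0 1)) (g5 : Gr ν n (x5 1) (x5 1))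
    {a c : Co K} (a1 : a ∈ R) (c1 : c ∈ R) (ga : Gr ν n (y2 1 0) a) (gc : Gr ν n (y4 1 0) c) :
    tw a (x1 1) = x1 1 ∧ Gr ν n (tw a (y2 1 0)) (tw a (y8 1 0)) ∧ Gr ν n (tw a (y4 1 0)) (tw a (y6 1 0)) := by
  have G4 : ∀ s, Gr ν n (y4 0 s) (y6 0 s) := fun s =>
    (g4.sel hK s).of (by ext <;> simp [sel]) (by ext <;> simp [sel])
  have G5 : ∀ s, Gr ν n (x5 s) (x5 s) := fun s =>
    (g5.sel hK s).of (by ext <;> simp [sel]) (by ext <;> simp [sel])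
  have G := fun s t u => (G5 s).mul ((G4 t).mul ((G4 u).symm hn))
  have rule : ∀ {x y}, Gr ν n x y → Rule x y := fun {x y} h e =>
    h.fn inj ((G x.a5 x.b4 x.b6).of e (by rw [e]; ext <;> simp))
  obtain ⟨a2, a8⟩ := pre hK 1 a1 ((ga.mul g5).fn inj (((g5.mul g4).mul ga).of
    (by ext <;> simp [CharTwo.add_self_eq_zero]) rfl))
  obtain ⟨c2, c8⟩ := pre hK 0 c1 ((gc.mul g5).fn inj (((g5.mul (G4 0)).mul gc).of (by ext <;> simp) rfl))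
  have xx : (x1 1 : Co K) * x1 1 = 1 := by ext <;> simp [CharTwo.add_self_eq_zero]
  have gd := ((gc.mul ga).mul gc.inv).mul ga.inv
  have ga' := ga.symm hn
  have gc' := gc.symm hn
  have L4 := ga.braid hn xx b (ga.of (by ext <;> simp [CharTwo.add_self_eq_zero]) rfl)
  have L5 := gc.braid hn xx b (((ga.mul ga).mul gc).of (by ext <;> simp [CharTwo.add_self_eq_zero]) rfl)
  have L6 := gd.braid hn xx b (gd.of (by
    rw [show (y4 1 0 * y2 1 0 * (y4 1 0)⁻¹ * (y2 1 0)⁻¹ : Co K) = x3 1 by ext <;> simp [CharTwo.add_self_eq_zero]]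
    ext <;> simp [CharTwo.add_self_eq_zero]) rfl)
  obtain ⟨k1, ⟨k2, k8⟩, k4, k6⟩ := key hK a1 a2 a8 c1 c2 c8 rfl rfl rfl rfl
    (rule (((((ga'.mul gc'.inv).mul gc).mul gc'.inv).mul ga'.inv).mul gc.inv))
    (rule (((ga.mul L5.inv).mul ga.inv).mul L5.inv))
    (rule (((L4.mul ga.inv).mul (L4.mul ga.inv)).mul ((L4.mul ga.inv).mul (L4.mul ga.inv))))
    (rule ((((ga.mul gc).mul ga').mul L4.inv).mul L6.inv))
    (rule ((((gc.inv.mul ga').mul L6).mul ga).mul L4.inv))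
  have ap : ∀ x, Gr ν n (app (y2 1 0) (y4 1 0) (bw x)) (app a c x) := fun x =>
    (((((ga.sel hK x.a2).mul ((ga.mul ga).sel hK x.b2)).mul (gd.sel hK x.a3)).mul (gc.sel hK x.a4)).mul
      (G x.a5 x.b4 x.b6)).of (by rw [app, mul_assoc]; exact congrArg₂ (· * ·) rfl (by ext <;> simp [bw]))
      (by rw [app, mul_assoc]; exact congrArg₂ (· * ·) rfl (by ext <;> simp))
  exact ⟨k1, (ap _).of k2 k8.symm, (ap _).of k4 k6.symm⟩

end AM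

open AM in
theorem Hyp.fr2 (hK : ∀ x : K, x = 0 ∨ x = 1) (H : Hyp P ι) (hR : P.Rel) {n : G} (A : Am P ι n) :
    ∃ (P' : Par K C) (n' : G), Hyp P' ι ∧ P'.z = P.z ∧ Fr2 P' ι n' := by
  have hn : n⁻¹ = n := inv_eq_of_mul_eq_one_right A.nn
  have gr : ∀ {x y}, n * ι (P.nf x) * n = ι (P.nf y) → Gr (ι.comp P.nf) n x y := fun h => by rw [Gr, hn]; exact h
  obtain ⟨a, a1, ga⟩ := A.normR (y2 1 0) rfl
  obtain ⟨c, c1, gc⟩ := A.normR (y4 1 0) rfl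
  obtain ⟨k1, k2, k4⟩ := act hK (H.inj.comp P.inj) hn A.braid (gr A.z4) (gr A.x5) a1 c1 (gr ga) (gr gc)
  obtain ⟨P', H', hR', hz, e⟩ := H.twist hK hR a.a4 (a.a3 + a.b4 + a.a5 + a.a3 * a.a4) (a.a3 + a.b6 + a.a5 * a.a4)
  have e' : ∀ x, ι (P'.nf x) = (ι (P.nf (rr a)))⁻¹ * ι (P.nf (tw a x)) * ι (P.nf (rr a)) := fun x => by
    rw [e, tw]
    simp only [map_mul, map_inv]
    group
  generalize ι (P.nf (rr a)) = r at e'
  have hn' : (r⁻¹ * n * r)⁻¹ = r⁻¹ * n * r := by rw [mul_inv_rev, mul_inv_rev, inv_inv, hn, mul_assoc]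
  have tr : ∀ {x y}, Gr (ι.comp P.nf) n (tw a x) (tw a y) → Gr (ι.comp P'.nf) (r⁻¹ * n * r) x y := fun h => by
    change _ * ι (P'.nf _) * _ = ι (P'.nf _)
    rw [e', e', ← show n * ι (P.nf _) * n⁻¹ = ι (P.nf _) from h]
    group
  let X : Subgroup (Co K) :=
    { carrier := {x | x ∈ R ∧ Gr (ι.comp P'.nf) (r⁻¹ * n * r) x (w1 x)}
      mul_mem' := fun h h' => ⟨mul_mem h.1 h'.1, (h.2.mul h'.2).of rfl (w1_mul h.1 h'.1)⟩
      one_mem' := ⟨one_mem _, Gr.one.of rfl (by ext <;> simp)⟩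
      inv_mem' := fun {x} h => ⟨inv_mem h.1, h.2.inv.of rfl (eq_inv_of_mul_eq_one_left (by
        rw [← w1_mul (inv_mem h.1) h.1, inv_mul_cancel]; ext <;> simp))⟩ }
  have hX := genR hK X ⟨rfl, (tr k2).of rfl (by ext <;> simp)⟩ ⟨rfl, (tr k4).of rfl (by ext <;> simp)⟩
    ⟨rfl, ((tr k4).symm hn').of rfl (by ext <;> simp)⟩ ⟨rfl, ((tr k2).symm hn').of rfl (by ext <;> simp)⟩
  refine ⟨P', r⁻¹ * n * r, H', hz, hR', mul_eq_one_iff_eq_inv.2 hn'.symm, ?_, fun x hx => ?_⟩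
  · rw [e', k1]
    calc _ = r⁻¹ * (n * ι (P.nf (x1 1)) * n) * r := by group
      _ = _ := by rw [A.braid]; group
  · have := (hX hx).2
    rwa [Gr, hn'] at this

theorem auto_lemmas_am2 : True := by
  have := @AM.app.eq_1.{0}
  have := @AM.bw.eq_1.{0}
  have := @AM.rr.eq_1.{0}
  have := @AM.tw.eq_1.{0}
  have := @AM.Rule.eq_1.{0}
  have := @AM.ruleB.eq_1
  have := @AM.Gr.eq_1.{0, 0}
  trivial

end H78.Oct
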