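import Mathlib
import Cfsg.Agent.Lib.Oct.HA

/-!
# The action of n on R
-/

set_option autoImplicit false
set_option linter.unusedSectionVars false

namespace H78.Oct

open Co

variable {K C G : Type*} [Field K] [Tits K] [Finite K] [Group C] [Finite C] [Group G] [Finite G]
  {P : Par K C} {ι : C →* G}

namespace BE

/-- the hypotheses on `β` -/
structure Hb (β : Co K → Co K) : Prop where
  hR : ∀ a ∈ R, β a ∈ R
  hm : ∀ a ∈ R, ∀ b ∈ R, β (a * b) = β a * β b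
  h4 : ∀ t, β (y4 0 t) = y4 0 t
  h6 : ∀ t, β (y6 0 t) = y6 0 t
  ht : ∀ c k, ∀ a ∈ R, β (tor c k a) = tor c k (β a)

theorem ex_unit (hq : 2 < Nat.card K) : ∃ c : Kˣ, c ≠ 1 := by
  haveI : Nontrivial Kˣ := Finite.one_lt_card_iff_nontrivial.1 (by rw [Nat.card_units]; omega)
  exact exists_ne 1

theorem N_ne {c : K} (hc : c ≠ 1) : c * σ c ≠ 1 := fun e => hc (N_inj (by simpa using e))

theorem σ_ne_one {c : K} (hc : c ≠ 1) : σ c ≠ 1 := fun e => hc (σ.injective (by simpa using e))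

theorem fix0 {l x : K} (hl : l ≠ 1) (h : x = l * x) : x = 0 :=
  (mul_eq_zero.1 (by linear_combination -h : (l - 1) * x = 0)).resolve_left (sub_ne_zero.2 hl)

theorem add_van {c : Kˣ} (hc : c ≠ 1) (f : K → K) (h1 : ∀ s t, f (s + t) = f s + f t)
    (h2 : ∀ l : Kˣ, f l = l * σ (l : K) * f 1) (s : K) : f s = 0 := by
  have h3 : ∀ s, f s = s * σ s * f 1 := fun s => by
    by_cases e : s = 0
    · have := h1 0 0
      rw [e, zero_mul, zero_mul]
      rw [add_zero] at this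
      linear_combination -this
    · exact h2 (Units.mk0 s e)
  have h4 := h1 c 1
  rw [h3 (c + 1), h3 c, map_add, map_one] at h4
  have h5 : σ (c : K) + c ≠ 0 := fun e => hc (Units.ext (mul_left_cancel₀ c.ne_zero (by
    have e1 : σ (c : K) = c := by grind
    have := σσ (c : K)
    rw [e1, e1] at this
    rw [Units.val_one]
    linear_combination -this)))
  rw [h3, (mul_eq_zero.1 (by linear_combination h4 : (σ (c : K) + c) * f 1 = 0)).resolve_left h5,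
    mul_zero]

theorem w4 (s u : K) : w1 (y4 s u) = y6 s u := by ext <;> simp
theorem w6 (s u : K) : w1 (y6 s u) = y4 s u := by ext <;> simp
theorem w2' (s u : K) : w1 (y2 s u) = y8 s u := by ext <;> simp
theorem w3 (s : K) : w1 (x3 s) = x7 s := by ext <;> simp

variable {β : Co K → Co K}

theorem Hb.symm (h : Hb β) : Hb fun a => w1 (β (w1 a)) where
  hR := fun _ _ => w1_mem _
  hm := fun a ha b hb => by
    rw [w1_mul ha hb, h.hm _ (w1_mem _) _ (w1_mem _), w1_mul (h.hR _ (w1_mem _)) (h.hR _ (w1_mem _))]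
  h4 := fun t => by rw [w4, h.h6, w6]
  h6 := fun t => by rw [w6, h.h4, w4]
  ht := fun c k a _ => by rw [w1_tor, h.ht _ _ _ (w1_mem _), w1_tor]

theorem Hb.back (h : Hb β) {a : Co K} (e : w1 (β (w1 a)) = a) : β (w1 a) = w1 a := by
  rw [← w1_w1 (h.hR _ (w1_mem a)), e]

theorem Hb.f4 (h : Hb β) {c : Kˣ} (hc : c ≠ 1) (s : K) :
    β (y4 s 0) = y4 (β (y4 s 0)).a4 (β (y4 s 0)).b4 := by
  have c1 : (c : K) ≠ 1 := fun e => hc (Units.ext e)
  have e := h.ht 1 c (y4 s 0) (by simp)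
  have r := h.hR (y4 s 0) (by simp)
  rw [show tor 1 c (y4 s 0) = y4 s 0 by ext <;> simp] at e
  generalize β (y4 s 0) = b at e r
  ext
  · exact r
  · exact fix0 (inv_ne_one.2 c1) (by simpa using congrArg Co.a2 e)
  · exact fix0 (inv_ne_one.2 (N_ne c1)) (by simpa [-mul_inv_rev] using congrArg Co.b2 e)
  · exact fix0 (inv_ne_one.2 c1) (by simpa using congrArg Co.a3 e)
  · rfl
  · rfl
  · exact fix0 c1 (by simpa using congrArg Co.a5 e)
  · exact fix0 c1 (congrArg Co.a6 e)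
  · exact fix0 (N_ne c1) (congrArg Co.b6 e)
  · exact fix0 (N_ne c1) (by simpa using congrArg Co.a7 e)
  · exact fix0 (σ_ne_one c1) (by simpa using congrArg Co.a8 e)
  · exact fix0 (N_ne (σ_ne_one c1)) (by simpa [mul_comm] using congrArg Co.b8 e)

theorem Hb.u4 (h : Hb β) {c : Kˣ} (hc : c ≠ 1) (s u : K) : β (y4 s u) = y4 s u := by
  have m : ∀ s u : K, y4 s u ∈ R := fun _ _ => by simp
  have h1 : ∀ s, β (y4 s 0) = y4 s (β (y4 s 0)).b4 := fun s => by
    have e := h.hm _ (m s 0) _ (m s 0)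
    rw [show y4 s 0 * y4 s 0 = y4 0 (s * σ s) by ext <;> simp <;> grind, h.h4, h.f4 hc] at e
    have := congrArg Co.b4 e
    simp only [mul_b4, y4_a1, y4_a2, y4_b2, y4_a3, y4_a4, y4_b4, y4_a5, y4_a6, y4_b6, y4_a7, y4_a8,
      y4_b8] at this
    have e2 : (β (y4 s 0)).a4 = s := N_inj (by grind)
    conv_lhs => rw [h.f4 hc, e2]
  have h2 : ∀ s u, β (y4 s u) = y4 s ((β (y4 s 0)).b4 + u) := fun s u => by
    rw [show y4 s u = y4 s 0 * y4 0 u by ext <;> simp, h.hm _ (m _ _) _ (m _ _), h.h4]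
    conv_lhs => rw [h1]
    ext <;> simp
  rw [h2, add_van hc (fun s => (β (y4 s 0)).b4) (fun s t => ?_) (fun l => ?_), zero_add]
  · have e := h.hm _ (m s 0) _ (m t 0)
    rw [show y4 s 0 * y4 t 0 = y4 (s + t) (s * σ t) by ext <;> simp, h2, h1 s, h1 t] at e
    have := congrArg Co.b4 e
    simp only [mul_b4, y4_a1, y4_a2, y4_b2, y4_a3, y4_a4, y4_b4, y4_a5, y4_a6, y4_b6, y4_a7, y4_a8,
      y4_b8] at this
    grind
  · have e := h.ht l 1 _ (m 1 0)
    rw [show tor l 1 (y4 1 0) = y4 (l : K) 0 by ext <;> simp] at e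
    exact congrArg Co.b4 e

theorem Hb.u6 (h : Hb β) {c : Kˣ} (hc : c ≠ 1) (s u : K) : β (y6 s u) = y6 s u :=
  w4 s u ▸ h.back (h.symm.u4 hc s u)

theorem Hb.u5 (h : Hb β) {c : Kˣ} (hc : c ≠ 1) (s : K) : β (x5 s) = x5 s := by
  have e : y6 s 0 * y4 1 0 = y4 1 0 * x5 s * y6 s 0 := by ext <;> simp
  have e1 := congrArg β e
  rw [h.hm _ (by simp) _ (by simp), h.hm _ (by simp) _ (by simp), h.hm _ (by simp) _ (by simp),
    h.u4 hc, h.u6 hc, e] at e1
  exact (mul_left_cancel (mul_right_cancel e1)).symm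

theorem Hb.f2 (h : Hb β) {c : Kˣ} (hc : c ≠ 1) (s : K) :
    β (y2 s 0) = y2 (β (y2 s 0)).a2 (β (y2 s 0)).b2 := by
  have c1 : (c : K) ≠ 1 := fun e => hc (Units.ext e)
  have c0 := c.ne_zero
  have s0 := σ_ne c0
  have e := h.ht c (σu c) (y2 s 0) (by simp)
  have r := h.hR (y2 s 0) (by simp)
  rw [show tor c (σu c) (y2 s 0) = y2 s 0 by ext <;> simp [s0]] at e
  generalize β (y2 s 0) = b at e r
  ext
  · exact r
  · rfl
  · rfl
  · exact fix0 c1 ((congrArg Co.a3 e).trans (by simp [s0]))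
  · exact fix0 c1 (congrArg Co.a4 e)
  · exact fix0 (N_ne c1) (congrArg Co.b4 e)
  · exact fix0 (N_ne c1) (congrArg Co.a5 e)
  · exact fix0 (σ_ne_one c1) (congrArg Co.a6 e)
  · exact fix0 (N_ne (σ_ne_one c1)) (congrArg Co.b6 e)
  · exact fix0 (N_ne c1) ((congrArg Co.a7 e).trans (by
      rw [tor_a7, σu_val, σσ]; field_simp))
  · exact fix0 c1 ((congrArg Co.a8 e).trans (by rw [tor_a8, σu_val, σσ]; field_simp))
  · exact fix0 (N_ne c1) ((congrArg Co.b8 e).trans (by rw [tor_b8, σu_val, σσ]; field_simp))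

theorem Hb.u2 (h : Hb β) {c : Kˣ} (hc : c ≠ 1) (s u : K) : β (y2 s u) = y2 s u := by
  have m : ∀ s u : K, y2 s u ∈ R := fun _ _ => by simp
  have h1 : ∀ s, β (y2 s 0) = y2 s (β (y2 s 0)).b2 := fun s => by
    have e := congrArg β (show x5 1 * y2 s 0 = y2 s 0 * y4 0 s * x5 1 by ext <;> simp)
    rw [h.hm _ (by simp) _ (by simp), h.hm _ (by simp) _ (by simp), h.hm _ (by simp) _ (by simp),
      h.u5 hc, h.h4, h.f2 hc] at e
    have e2 : (β (y2 s 0)).a2 = s := by simpa using congrArg Co.b4 e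
    conv_lhs => rw [h.f2 hc, e2]
  have h0 : ∀ u, β (y2 0 u) = y2 0 u := fun u => by
    obtain ⟨s, rfl⟩ := N_surj u
    rw [show y2 0 (s * σ s) = y2 s 0 * y2 s 0 by ext <;> simp <;> grind, h.hm _ (m _ _) _ (m _ _),
      h1 s]
    ext <;> simp <;> grind
  have h2 : ∀ s u, β (y2 s u) = y2 s ((β (y2 s 0)).b2 + u) := fun s u => by
    rw [show y2 s u = y2 s 0 * y2 0 u by ext <;> simp, h.hm _ (m _ _) _ (m _ _), h0]
    conv_lhs => rw [h1]
    ext <;> simp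
  rw [h2, add_van hc (fun s => (β (y2 s 0)).b2) (fun s t => ?_) (fun l => ?_), zero_add]
  · have e := h.hm _ (m s 0) _ (m t 0)
    rw [show y2 s 0 * y2 t 0 = y2 (s + t) (s * σ t) by ext <;> simp, h2, h1 s, h1 t] at e
    have := congrArg Co.b2 e
    simp only [mul_b2, y2_a1, y2_a2, y2_b2, y2_a4, y2_a6, y2_a8, y2_b8] at this
    grind
  · have e := h.ht 1 l⁻¹ _ (m 1 0)
    rw [show tor 1 l⁻¹ (y2 1 0) = y2 (l : K) 0 by ext <;> simp] at e
    exact (congrArg Co.b2 e).trans (by simp [mul_comm])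

theorem Hb.u3 (h : Hb β) {c : Kˣ} (hc : c ≠ 1) (s : K) : β (x3 s) = x3 s := by
  have e : y4 1 0 * y2 s 0 = y2 s 0 * x3 s * y4 1 0 := by ext <;> simp
  have e1 := congrArg β e
  rw [h.hm _ (by simp) _ (by simp), h.hm _ (by simp) _ (by simp), h.hm _ (by simp) _ (by simp),
    h.u4 hc, h.u2 hc, e] at e1
  exact (mul_left_cancel (mul_right_cancel e1)).symm

end BE

/-- An endomorphism of `R` which fixes `V` and commutes with the torus is trivial. -/
theorem beta (hq : 2 < Nat.card K) (β : Co K → Co K) (hR : ∀ a ∈ R, β a ∈ R)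
    (hm : ∀ a ∈ R, ∀ b ∈ R, β (a * b) = β a * β b) (h4 : ∀ t, β (y4 0 t) = y4 0 t)
    (h6 : ∀ t, β (y6 0 t) = y6 0 t) (ht : ∀ c k, ∀ a ∈ R, β (tor c k a) = tor c k (β a)) :
    ∀ a ∈ R, β a = a := by
  have h : BE.Hb β := ⟨hR, hm, h4, h6, ht⟩
  obtain ⟨c, hc⟩ := BE.ex_unit hq
  have cl : ∀ {a b : Co K}, a ∈ R ∧ β a = a → b ∈ R ∧ β b = b → a * b ∈ R ∧ β (a * b) = a * b :=
    fun p q => ⟨mul_mem p.1 q.1, by rw [hm _ p.1 _ q.1, p.2, q.2]⟩
  intro a ha
  have e := eq_prod a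
  rw [mem_R.1 ha, show x1 (0 : K) = 1 by ext <;> simp, one_mul] at e
  rw [e]
  exact (cl (cl (cl (cl (cl (cl ⟨by simp, h.u2 hc _ _⟩ ⟨by simp, h.u3 hc _⟩) ⟨by simp, h.u4 hc _ _⟩)
    ⟨by simp, h.u5 hc _⟩) ⟨by simp, h.u6 hc _ _⟩)
    ⟨by simp, BE.w3 a.a7 ▸ h.back (h.symm.u3 hc _)⟩)
    ⟨by simp, BE.w2' a.a8 a.b8 ▸ h.back (h.symm.u2 hc _ _)⟩).2

theorem Hyp.frame (hq : 2 < Nat.card K) (H : Hyp P ι) {n : G} (S : Sw P ι n) {k : Kˣ}
    (T : Tor P ι n k) : ∃ θ, Fr P ι n θ := by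
  obtain ⟨c₀, hc₀⟩ := BE.ex_unit hq
  have k1 : (k : K) ≠ 1 := fun e => hc₀ (by
    simpa [show k = 1 from Units.ext e] using T.gen c₀)
  let η : Kˣ →* G := (MulAut.conj n).toMonoidHom.comp (ι.comp P.d)
  have hη : ∀ c, η c = n * ι (P.d c) * n⁻¹ := fun _ => rfl
  have pw : ∀ c, (∀ x, η c * ι x * (η c)⁻¹ = ι (P.T (c, 1) x)) ∧ n * η c * n⁻¹ = ι (P.d c) :=
    fun c => by
    obtain ⟨m, rfl⟩ := (Submonoid.mem_powers_iff _ _).1 (mem_powers_iff_mem_zpowers.2 (T.gen c))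
    induction m with
    | zero => exact ⟨fun x => by simp [show ((1, 1) : Kˣ × Kˣ) = 1 from rfl], by simp⟩
    | succ m ih =>
      refine ⟨fun x => ?_, ?_⟩
      · rw [pow_succ', show ((k * k ^ m, 1) : Kˣ × Kˣ) = (k, 1) * (k ^ m, 1) by simp, map_mul, map_mul,
          MulAut.mul_apply, ← T.act, ← ih.1, hη k]
        group
      · rw [pow_succ', map_mul, map_mul, map_mul, ← T.back, ← ih.2, hη k]
        group
  have dc : ∀ c x, ι (P.d c) * ι x * (ι (P.d c))⁻¹ = ι (P.T (1, c) x) := fun c x => by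
    rw [← map_inv, ← map_mul, ← map_mul, P.d_conj]
  have cm : ∀ c j, Commute (η c) ((ι.comp P.d) j) := fun c j =>
    mul_inv_eq_iff_eq_mul.1 (((pw c).1 _).trans (congrArg ι (P.T_d _ _)))
  choose! b hb e using fun r (hr : r ∈ R) => H.normR (S.z4 1) (S.z6 1) hr
  have inj : ∀ {a a' : Co K}, ι (P.nf a) = ι (P.nf a') → a = a' := fun h => P.inj (H.inj h)
  have t1 : ∀ c, ∀ a ∈ R, b (tor 1 c a) = tor c 1 (b a) := fun c a ha => inj (by
    rw [← e _ (by simp [mem_R.1 ha]), ← P.T_nf, ← P.T_nf, ← dc, ← (pw c).1, ← e a ha, hη]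
    group)
  have t2 : ∀ c, ∀ a ∈ R, b (tor c 1 a) = tor 1 c (b a) := fun c a ha => inj (by
    rw [← e _ (by simp [mem_R.1 ha]), ← P.T_nf, ← P.T_nf, ← dc, ← (pw c).1, ← e a ha, ← (pw c).2]
    group)
  have key := beta hq (fun a => w1 (b a)) (fun _ _ => w1_mem _) (fun a ha a' ha' => by
      rw [← w1_mul (hb a ha) (hb a' ha')]
      exact congrArg w1 (inj (by
        rw [← e _ (mul_mem ha ha'), map_mul, map_mul, map_mul, map_mul, ← e a ha, ← e a' ha']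
        group)))
    (fun t => by rw [inj ((e _ (by simp)).symm.trans (S.z4 t)), BE.w6])
    (fun t => by rw [inj ((e _ (by simp)).symm.trans (S.z6 t)), BE.w4])
    fun c j a ha => by
      rw [show tor c j a = tor c 1 (tor 1 j a) by simp [tor_tor], t2 _ _ (by simp [mem_R.1 ha]),
        t1 _ _ ha, tor_tor, w1_tor, one_mul, mul_one]
  have act : ∀ a ∈ R, n * ι (P.nf a) * n⁻¹ = ι (P.nf (w1 a)) := fun a ha => by
    rw [e a ha, ← w1_w1 (hb a ha), key a ha]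
  obtain ⟨v, hv, ev⟩ := H.cent_R (g := n * n) fun a ha => mul_inv_eq_iff_eq_mul.1 (by
    rw [show n * n * ι (P.nf a) * (n * n)⁻¹ = n * (n * ι (P.nf a) * n⁻¹) * n⁻¹ by group, act a ha,
      act _ (w1_mem a), w1_w1 ha])
  have f1 : tor 1 k v = v := inj (by
    rw [← P.T_nf, ← dc, ← ev]
    calc _ = n * (n * ι (P.d k) * n⁻¹) * n⁻¹ * (n * n) * (ι (P.d k))⁻¹ := by rw [T.back]
      _ = _ := by group)
  have f2 : tor k 1 v = v := inj (by
    rw [← P.T_nf, ← (pw k).1, ← ev]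
    have : η k = n * (n * η k * n⁻¹) * n⁻¹ := by rw [(pw k).2, hη]
    calc _ = n * (n * η k * n⁻¹) * n⁻¹ * (n * n) * (η k)⁻¹ := by rw [← this]
      _ = _ := by group)
  have nn : n * n = 1 := by
    rw [mem_V] at hv
    rw [ev, show v = 1 from ?_, map_one, map_one]
    have g1 := BE.fix0 (BE.N_ne k1) (congrArg Co.b6 f1).symm
    have g2 := BE.fix0 (BE.N_ne k1) (congrArg Co.b4 f2).symm
    ext <;> simp [hv, g1, g2]
  have ni : n⁻¹ = n := inv_eq_of_mul_eq_one_right nn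
  have ap : ∀ c j, η.noncommCoprod (ι.comp P.d) cm (c, j) = η c * ι (P.d j) := fun _ _ => rfl
  refine ⟨η.noncommCoprod (ι.comp P.d) cm, nn, fun a ha => ?_, fun j => by rw [ap, map_one, one_mul],
    fun x y => ?_, fun c j => ?_, S.gen⟩
  · rw [← act a ha, ni]
  · obtain ⟨c, j⟩ := x
    rw [ap, show ((c, j) : Kˣ × Kˣ) = (c, 1) * (1, j) by simp, map_mul, MulAut.mul_apply, ← (pw c).1,
      ← dc]
    group
  · rw [ap, ap]
    calc _ = n * (η c * ι (P.d j)) * n⁻¹ := by rw [ni]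
      _ = n * η c * n⁻¹ * (n * ι (P.d j) * n⁻¹) := by group
      _ = _ := by rw [(pw c).2, ← hη]; exact (cm j c).eq.symm

end H78.Oct
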