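import Mathlib
import Cfsg.Agent.Lib.Oct.Defs

/-!
# Bruhat decomposition
-/

set_option autoImplicit false
set_option linter.unusedSectionVars false

namespace H78.Oct

open Co

/-- The relations of an octagon group. -/
structure Pre (K Γ : Type*) [Field K] [Tits K] [Group Γ] where
  /-- normal forms -/
  nf : Co K →* Γ
  /-- the reflection in `U₁` -/
  n1 : Γ
  /-- the reflection in `U₈` -/
  n2 : Γ
  n11 : n1 * n1 = 1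
  n22 : n2 * n2 = 1
  rho : (n1 * n2) ^ 8 = 1
  n1_nf : ∀ a ∈ R, n1 * nf a * n1 = nf (w1 a)
  n2_nf : ∀ a ∈ Q, n2 * nf a * n2 = nf (w2 a)
  /-- the torus -/
  h : Kˣ × Kˣ →* Γ
  h_nf : ∀ c k a, h (c, k) * nf a * (h (c, k))⁻¹ = nf (tor c k a)
  n1_h : ∀ c k, n1 * h (c, k) * n1 = h (k, c)
  n2_h : ∀ c k, n2 * h (c, k) * n2 = h (c, σu c * k⁻¹)
  sl2 : ∀ s, s ≠ 0 → ∃ a b x, n1 * nf (x1 s) * n1 = nf (x1 a) * h x * n1 * nf (x1 b)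
  sz : ∀ t v, ¬ (t = 0 ∧ v = 0) →
    ∃ a b a' b' x, n2 * nf (y8 t v) * n2 = nf (y8 a b) * h x * n2 * nf (y8 a' b')

variable {K Γ : Type*} [Field K] [Tits K] [Group Γ]

/-- Forget the nondegeneracy. -/
def Oct.pre (O : Oct K Γ) : Pre K Γ :=
  ⟨O.nf, O.n1, O.n2, O.n11, O.n22, O.rho, O.n1_nf, O.n2_nf, O.h, O.h_nf, O.n1_h, O.n2_h, O.sl2, O.sz⟩

namespace Pre

variable (D : Pre K Γ)

/-- `w` conjugates `nf a` into the image of `nf`. -/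
def BNg (w : Γ) (a : Co K) : Prop := ∃ b, w * D.nf a = D.nf b * w

/-- `w` conjugates `nf a` to `nf b`. -/
def BNt (w : Γ) (a b : Co K) : Prop := w * D.nf a = D.nf b * w

/-- The Weyl elements. -/
def BNw (w : Γ) : Prop := ∃ j : ℤ, w = (D.n1 * D.n2) ^ j ∨ w = (D.n1 * D.n2) ^ j * D.n2

/-- The double cosets. -/
def BNf (g : Γ) : Prop := ∃ a x w b, D.BNw w ∧ g = D.nf a * D.h x * w * D.nf b

variable {D}

theorem BNt_mul {w w' : Γ} {a b c : Co K} (h' : D.BNt w' b c) (h : D.BNt w a b) :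
    D.BNt (w' * w) a c := by
  unfold BNt at *
  rw [mul_assoc, h, ← mul_assoc, h', mul_assoc]

theorem BNt1 {a b : Co K} (ha : a ∈ R) (hb : w1 a = b) : D.BNt D.n1 a b := by
  unfold BNt
  rw [← hb, ← D.n1_nf a ha, mul_assoc _ D.n1 D.n1, D.n11, mul_one]

theorem BNt2 {a b : Co K} (ha : a ∈ Q) (hb : w2 a = b) : D.BNt D.n2 a b := by
  unfold BNt
  rw [← hb, ← D.n2_nf a ha, mul_assoc _ D.n2 D.n2, D.n22, mul_one]

theorem BNinv : (D.n1 * D.n2)⁻¹ = D.n2 * D.n1 := by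
  rw [inv_eq_iff_mul_eq_one, mul_assoc, ← mul_assoc D.n2, D.n22, one_mul, D.n11]

theorem BNn1 : D.n1 = (D.n1 * D.n2) * D.n2 := by rw [mul_assoc, D.n22, mul_one]

theorem BNmod (j : ℤ) : (D.n1 * D.n2) ^ j = (D.n1 * D.n2) ^ (j % 8) := by
  conv_lhs => rw [← Int.mul_ediv_add_emod j 8, zpow_add, zpow_mul]
  rw [show (D.n1 * D.n2) ^ (8 : ℤ) = 1 by exact_mod_cast D.rho, one_zpow, one_mul]

theorem BNup {a b c : Co K} (j : ℤ) (ha : a ∈ Q) (hb : w2 a ∈ R) (hc : w1 (w2 a) = b) {w : Γ}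
    (h : D.BNt ((D.n1 * D.n2) ^ j * w) c a) : D.BNt ((D.n1 * D.n2) ^ (j + 1) * w) c b := by
  rw [add_comm, zpow_add, zpow_one, mul_assoc]
  exact BNt_mul (BNt_mul (BNt1 hb hc) (BNt2 ha rfl)) h

theorem BNdown {a b c : Co K} (j : ℤ) (ha : a ∈ R) (hb : w1 a ∈ Q) (hc : w2 (w1 a) = b) {w : Γ}
    (h : D.BNt ((D.n1 * D.n2) ^ j * w) c a) : D.BNt ((D.n1 * D.n2) ^ (j - 1) * w) c b := by
  rw [sub_eq_neg_add, zpow_add, zpow_neg_one, mul_assoc, BNinv]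
  exact BNt_mul (BNt_mul (BNt2 hb hc) (BNt1 ha rfl)) h

theorem BNg1 (s : K) (j : ℤ) (hj : j % 8 < 4) : D.BNg ((D.n1 * D.n2) ^ j) (x1 s) := by
  have h0 : D.BNt ((D.n1 * D.n2) ^ (0 : ℤ) * 1) (x1 s) (x1 s) := by simp [BNt]
  have h1 := BNup (b := x3 s) _ (by simp) (by simp) (by ext <;> simp) h0
  have h2 := BNup (b := x5 s) _ (by simp) (by simp) (by ext <;> simp) h1
  have h3 := BNup (b := x7 s) _ (by simp) (by simp) (by ext <;> simp) h2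
  rw [mul_one] at h0 h1 h2 h3
  rw [BNmod]
  rcases (by omega : j % 8 = 0 ∨ j % 8 = 0 + 1 ∨ j % 8 = 0 + 1 + 1 ∨ j % 8 = 0 + 1 + 1 + 1) with
    h | h | h | h <;> rw [h]
  exacts [⟨_, h0⟩, ⟨_, h1⟩, ⟨_, h2⟩, ⟨_, h3⟩]

theorem BNg1' (s : K) (j : ℤ) (hj : j % 8 = 0 ∨ 5 ≤ j % 8) :
    D.BNg ((D.n1 * D.n2) ^ j * D.n2) (x1 s) := by
  have h0 : D.BNt ((D.n1 * D.n2) ^ (0 : ℤ) * D.n2) (x1 s) (x7 s) := by
    rw [zpow_zero, one_mul]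
    exact BNt2 (by simp) (by ext <;> simp)
  have h1 := BNdown (b := x5 s) _ (by simp) (by simp) (by ext <;> simp) h0
  have h2 := BNdown (b := x3 s) _ (by simp) (by simp) (by ext <;> simp) h1
  have h3 := BNdown (b := x1 s) _ (by simp) (by simp) (by ext <;> simp) h2
  rw [BNmod] at h0 h1 h2 h3 ⊢
  rcases (by omega : j % 8 = 0 % 8 ∨ j % 8 = (0 - 1) % 8 ∨ j % 8 = (0 - 1 - 1) % 8 ∨
    j % 8 = (0 - 1 - 1 - 1) % 8) with h | h | h | h <;> rw [h]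
  exacts [⟨_, h0⟩, ⟨_, h1⟩, ⟨_, h2⟩, ⟨_, h3⟩]

theorem BNg8 (s u : K) (j : ℤ) (hj : j % 8 = 0 ∨ 5 ≤ j % 8) :
    D.BNg ((D.n1 * D.n2) ^ j) (y8 s u) := by
  have h0 : D.BNt ((D.n1 * D.n2) ^ (0 : ℤ) * 1) (y8 s u) (y8 s u) := by simp [BNt]
  have h1 := BNdown (b := y6 s u) _ (by simp) (by simp) (by ext <;> simp) h0
  have h2 := BNdown (b := y4 s u) _ (by simp) (by simp) (by ext <;> simp) h1
  have h3 := BNdown (b := y2 s u) _ (by simp) (by simp) (by ext <;> simp) h2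
  rw [mul_one] at h0 h1 h2 h3
  rw [BNmod] at h0 h1 h2 h3 ⊢
  rcases (by omega : j % 8 = 0 % 8 ∨ j % 8 = (0 - 1) % 8 ∨ j % 8 = (0 - 1 - 1) % 8 ∨
    j % 8 = (0 - 1 - 1 - 1) % 8) with h | h | h | h <;> rw [h]
  exacts [⟨_, h0⟩, ⟨_, h1⟩, ⟨_, h2⟩, ⟨_, h3⟩]

theorem BNg8' (s u : K) (j : ℤ) (hj : 1 ≤ j % 8 ∧ j % 8 ≤ 4) :
    D.BNg ((D.n1 * D.n2) ^ j * D.n2) (y8 s u) := by
  have h0 : D.BNt ((D.n1 * D.n2) ^ (1 : ℤ) * D.n2) (y8 s u) (y2 s u) := by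
    rw [zpow_one, ← BNn1]
    exact BNt1 (by simp) (by ext <;> simp)
  have h1 := BNup (b := y4 s u) _ (by simp) (by simp) (by ext <;> simp) h0
  have h2 := BNup (b := y6 s u) _ (by simp) (by simp) (by ext <;> simp) h1
  have h3 := BNup (b := y8 s u) _ (by simp) (by simp) (by ext <;> simp) h2
  rw [BNmod]
  rcases (by omega : j % 8 = 1 ∨ j % 8 = 1 + 1 ∨ j % 8 = 1 + 1 + 1 ∨ j % 8 = 1 + 1 + 1 + 1) with
    h | h | h | h <;> rw [h]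
  exacts [⟨_, h0⟩, ⟨_, h1⟩, ⟨_, h2⟩, ⟨_, h3⟩]

theorem BNa (j : ℤ) : (D.n1 * D.n2) ^ j * D.n1 = (D.n1 * D.n2) ^ (j + 1) * D.n2 := by
  rw [zpow_add, zpow_one, mul_assoc, ← BNn1]

theorem BNb (j : ℤ) : (D.n1 * D.n2) ^ j * D.n2 * D.n1 = (D.n1 * D.n2) ^ (j - 1) := by
  rw [zpow_sub, zpow_one, BNinv, mul_assoc]

theorem BNc (w : Γ) : w * D.n2 * D.n2 = w := by rw [mul_assoc, D.n22, mul_one]

theorem BNw1 {w : Γ} (h : D.BNw w) : D.BNw (w * D.n1) := by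
  rcases h with ⟨j, rfl | rfl⟩
  exacts [⟨j + 1, Or.inr (BNa j)⟩, ⟨j - 1, Or.inl (BNb j)⟩]

theorem BNw2 {w : Γ} (h : D.BNw w) : D.BNw (w * D.n2) := by
  rcases h with ⟨j, rfl | rfl⟩
  exacts [⟨j, Or.inr rfl⟩, ⟨j, Or.inl (BNc _)⟩]

theorem BNor1 {w : Γ} (h : D.BNw w) :
    (∀ s, D.BNg w (x1 s)) ∨ ∀ s, D.BNg (w * D.n1) (x1 s) := by
  rcases h with ⟨j, rfl | rfl⟩
  · by_cases hj : j % 8 < 4
    · exact Or.inl fun s => BNg1 s j hj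
    · exact Or.inr fun s => BNa (D := D) j ▸ BNg1' s (j + 1) (by omega)
  · by_cases hj : j % 8 = 0 ∨ 5 ≤ j % 8
    · exact Or.inl fun s => BNg1' s j hj
    · exact Or.inr fun s => BNb (D := D) j ▸ BNg1 s (j - 1) (by omega)

theorem BNor2 {w : Γ} (h : D.BNw w) :
    (∀ s u, D.BNg w (y8 s u)) ∨ ∀ s u, D.BNg (w * D.n2) (y8 s u) := by
  rcases h with ⟨j, rfl | rfl⟩
  · by_cases hj : j % 8 = 0 ∨ 5 ≤ j % 8
    · exact Or.inl fun s u => BNg8 s u j hj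
    · exact Or.inr fun s u => BNg8' s u j (by omega)
  · by_cases hj : j % 8 = 0 ∨ 5 ≤ j % 8
    · exact Or.inr fun s u => by rw [BNc]; exact BNg8 s u j hj
    · exact Or.inl fun s u => BNg8' s u j (by omega)

/-- The normaliser of the torus. -/
def BNn (D : Pre K Γ) : Subgroup Γ := Subgroup.normalizer (D.h.range : Set Γ)

theorem BNn_of {n : Γ} (hn : n * n = 1) (h : ∀ x, ∃ y, n * D.h x * n = D.h y) : n ∈ D.BNn := by
  have hi : n⁻¹ = n := inv_eq_of_mul_eq_one_right hn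
  refine Subgroup.mem_normalizer_iff.2 fun g => ⟨?_, ?_⟩
  · rintro ⟨x, rfl⟩
    obtain ⟨y, hy⟩ := h x
    exact ⟨y, by rw [hi, hy]⟩
  · rintro ⟨x, hx⟩
    obtain ⟨y, hy⟩ := h x
    refine ⟨y, ?_⟩
    rw [← hy, hx, hi, ← mul_assoc, ← mul_assoc, hn, one_mul, mul_assoc, hn, mul_one]

theorem BNwh {w : Γ} (h : D.BNw w) (x : Kˣ × Kˣ) : ∃ y, w * D.h x = D.h y * w := by
  have h1 : D.n1 ∈ D.BNn := BNn_of D.n11 fun x => ⟨_, D.n1_h x.1 x.2⟩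
  have h2 : D.n2 ∈ D.BNn := BNn_of D.n22 fun x => ⟨_, D.n2_h x.1 x.2⟩
  have hw : w ∈ D.BNn := by
    rcases h with ⟨j, rfl | rfl⟩
    exacts [zpow_mem (mul_mem h1 h2) _, mul_mem (zpow_mem (mul_mem h1 h2) _) h2]
  obtain ⟨y, hy⟩ := (Subgroup.mem_normalizer_iff.1 hw (D.h x)).1 ⟨x, rfl⟩
  exact ⟨y, by rw [hy, inv_mul_cancel_right]⟩

theorem BNhn (x : Kˣ × Kˣ) (a : Co K) : D.h x * D.nf a = D.nf (tor x.1 x.2 a) * D.h x := by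
  rw [← D.h_nf x.1 x.2 a, inv_mul_cancel_right]

theorem BNnh (x : Kˣ × Kˣ) (a : Co K) : ∃ b, D.nf a * D.h x = D.h x * D.nf b := by
  refine ⟨tor x⁻¹.1 x⁻¹.2 a, ?_⟩
  rw [← D.h_nf x⁻¹.1 x⁻¹.2 a, map_inv, inv_inv, ← mul_assoc, mul_inv_cancel_left]

theorem BNf_nf {g : Γ} (h : D.BNf g) (c : Co K) : D.BNf (g * D.nf c) := by
  obtain ⟨a, x, w, b, hw, rfl⟩ := h
  exact ⟨a, x, w, b * c, hw, by rw [map_mul, mul_assoc _ (D.nf b)]⟩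

theorem BNf_h {g : Γ} (h : D.BNf g) (y : Kˣ × Kˣ) : D.BNf (g * D.h y) := by
  obtain ⟨a, x, w, b, hw, rfl⟩ := h
  obtain ⟨b', hb⟩ := BNnh (D := D) y b
  obtain ⟨y', hy⟩ := BNwh hw y
  refine ⟨a, x * y', w, b', hw, ?_⟩
  rw [mul_assoc _ (D.nf b), hb, ← mul_assoc, mul_assoc _ w, hy, map_mul]
  simp only [mul_assoc]

theorem BNf_left {g : Γ} (h : D.BNf g) (c : Co K) (y : Kˣ × Kˣ) : D.BNf (D.nf c * D.h y * g) := by
  obtain ⟨a, x, w, b, hw, rfl⟩ := h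
  refine ⟨c * tor y.1 y.2 a, y * x, w, b, hw, ?_⟩
  simp only [map_mul, mul_assoc]
  rw [← mul_assoc (D.h y), BNhn, mul_assoc]

theorem BNf_w {w : Γ} (h : D.BNw w) (c : Co K) : D.BNf (D.nf c * w) :=
  ⟨c, 1, w, 1, h, by simp⟩

theorem BNstep {ι : Type*} {n : Γ} (hn : n * n = 1) (U : ι → Co K) (P : Subgroup (Co K))
    (hP : ∀ r ∈ P, ∃ r', D.nf r * n = n * D.nf r') (hU : ∀ b, ∃ i, ∃ r ∈ P, b = U i * r)
    (hw : ∀ w, D.BNw w → D.BNw (w * n))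
    (hor : ∀ w, D.BNw w → (∀ i, D.BNg w (U i)) ∨ ∀ i, D.BNg (w * n) (U i))
    (h1 : ∀ i, U i = 1 ∨ ∃ j k x, n * D.nf (U i) * n = D.nf (U j) * D.h x * n * D.nf (U k))
    {g : Γ} (h : D.BNf g) : D.BNf (g * n) := by
  obtain ⟨a, x, w, b, hw0, rfl⟩ := h
  obtain ⟨i, r, hr, rfl⟩ := hU b
  obtain ⟨r', hr'⟩ := hP r hr
  have e : D.nf a * D.h x * w * D.nf (U i * r) * n =
      D.nf a * D.h x * (w * D.nf (U i) * n * D.nf r') := by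
    simp only [map_mul, mul_assoc, hr']
  rw [e]
  refine BNf_left (BNf_nf ?_ _) _ _
  rcases hor w hw0 with H | H
  · obtain ⟨c, hc⟩ := H i
    rw [hc, mul_assoc]
    exact BNf_w (hw w hw0) c
  rcases h1 i with h1 | ⟨j, k, y, h1⟩
  · simpa [h1] using BNf_w (hw w hw0) 1
  obtain ⟨c, hc⟩ := H j
  obtain ⟨y', hy⟩ := BNwh (hw w hw0) y
  have e2 : w * D.nf (U i) * n = w * n * (n * D.nf (U i) * n) := by
    rw [← mul_assoc, ← mul_assoc, mul_assoc w n n, hn, mul_one]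
  refine ⟨c, y', w, U k, hw0, ?_⟩
  rw [e2, h1, ← mul_assoc, ← mul_assoc, ← mul_assoc, hc, mul_assoc _ (w * n), hy, ← mul_assoc,
    mul_assoc _ (w * n), mul_assoc w n n, hn, mul_one]

theorem BNf1 {g : Γ} (h : D.BNf g) : D.BNf (g * D.n1) := by
  refine BNstep D.n11 x1 R (fun r hr => ⟨w1 r, ?_⟩) (fun b => ⟨b.a1, (x1 b.a1)⁻¹ * b, ?_, by simp⟩)
    (fun w => BNw1) (fun w => BNor1) (fun s => ?_) h
  · rw [← D.n1_nf r hr, ← mul_assoc, ← mul_assoc, D.n11, one_mul]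
  · simp [CharTwo.add_self_eq_zero]
  · by_cases hs : s = 0
    · exact Or.inl (by ext <;> simp [hs])
    · exact Or.inr (D.sl2 s hs)

theorem BNf2 {g : Γ} (h : D.BNf g) : D.BNf (g * D.n2) := by
  refine BNstep D.n22 (fun p : K × K => y8 p.1 p.2) Q (fun r hr => ⟨w2 r, ?_⟩)
    (fun b => ⟨(b.a8, b.b8), (y8 b.a8 b.b8)⁻¹ * b, ?_, by simp⟩)
    (fun w => BNw2) (fun w hw => (BNor2 hw).imp (fun H p => H _ _) fun H p => H _ _) (fun p => ?_) h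
  · rw [← D.n2_nf r hr, ← mul_assoc, ← mul_assoc, D.n22, one_mul]
  · simp only [mem_Q, mul_a8, mul_b8, inv_a8, inv_b8, y8_a8, y8_b8]
    constructor <;> grind
  · by_cases hs : p.1 = 0 ∧ p.2 = 0
    · exact Or.inl (by ext <;> simp [hs])
    · obtain ⟨a, b, a', b', x, hx⟩ := D.sz _ _ hs
      exact Or.inr ⟨(a, b), (a', b'), x, hx⟩

end Pre

theorem Pre.bruhat (D : Pre K Γ) : ∃ Y : Subgroup Γ, (∀ a, D.nf a ∈ Y) ∧ (∀ x, D.h x ∈ Y) ∧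
    D.n1 ∈ Y ∧ D.n2 ∈ Y ∧ ∀ g ∈ Y, ∃ a x j b, j < 8 ∧
      (g = D.nf a * D.h x * (D.n1 * D.n2) ^ j * D.nf b ∨
        g = D.nf a * D.h x * ((D.n1 * D.n2) ^ j * D.n2) * D.nf b) := by
  refine ⟨Subgroup.closure (Set.range D.nf ∪ Set.range D.h ∪ {D.n1, D.n2}),
    fun a => Subgroup.subset_closure (by simp), fun a => Subgroup.subset_closure (by simp),
    Subgroup.subset_closure (by simp), Subgroup.subset_closure (by simp), fun g hg => ?_⟩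
  have H : D.BNf g := by
    induction hg using Subgroup.closure_induction_right with
    | one => exact ⟨1, 1, 1, 1, ⟨0, Or.inl (by simp)⟩, by simp⟩
    | mul_right x _ y hy ih =>
      rcases hy with (⟨a, rfl⟩ | ⟨a, rfl⟩) | rfl | rfl
      exacts [Pre.BNf_nf ih _, Pre.BNf_h ih _, Pre.BNf1 ih, Pre.BNf2 ih]
    | mul_inv_cancel x _ y hy ih =>
      rcases hy with (⟨a, rfl⟩ | ⟨a, rfl⟩) | rfl | rfl
      · rw [← map_inv]; exact Pre.BNf_nf ih _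
      · rw [← map_inv]; exact Pre.BNf_h ih _
      · rw [inv_eq_of_mul_eq_one_right D.n11]; exact Pre.BNf1 ih
      · rw [inv_eq_of_mul_eq_one_right D.n22]; exact Pre.BNf2 ih
  obtain ⟨a, x, w, b, ⟨j, hj⟩, rfl⟩ := H
  have e : (D.n1 * D.n2) ^ j = (D.n1 * D.n2) ^ (j % 8).toNat := by
    rw [Pre.BNmod, ← zpow_natCast, Int.toNat_of_nonneg (by omega)]
  refine ⟨a, x, (j % 8).toNat, b, by omega, ?_⟩
  rw [← e]
  rcases hj with rfl | rfl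
  exacts [Or.inl rfl, Or.inr rfl]

namespace Oct

variable [Finite K] (O : Oct K Γ)

theorem bruhat (g : Γ) : ∃ a x j b, j < 8 ∧
    (g = O.nf a * O.h x * (O.n1 * O.n2) ^ j * O.nf b ∨
      g = O.nf a * O.h x * ((O.n1 * O.n2) ^ j * O.n2) * O.nf b) := by
  obtain ⟨Y, h1, -, h2, h3, h⟩ := O.pre.bruhat
  exact h g (by rw [O.gen Y h1 h2 h3]; trivial)

theorem nf_h {a : Co K} {x : Kˣ × Kˣ} (h : O.nf a * O.h x = 1) : a = 1 ∧ x = 1 := by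
  have h1 : O.h (x ^ 16) = 1 := by
    rw [map_pow, eq_inv_of_mul_eq_one_right h, ← map_inv, ← map_pow, pow_16, map_one]
  have h2 : ∀ b, tor (x ^ 16).1 (x ^ 16).2 b = b := fun b => O.inj (by
    rw [← O.h_nf, h1]; simp)
  have h3 : ∀ c : K, c ^ 2 = 1 → c = 1 := fun c hc =>
    (sq_eq_one_iff.1 hc).elim id fun e => by rw [e, CharTwo.neg_eq]
  have h4 : ∀ c : Kˣ, (c : K) ^ 16 = 1 → c = 1 := fun c hc =>
    Units.ext (h3 _ (h3 _ (h3 _ (h3 _ (by rw [← hc]; ring)))))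
  have hx : x = 1 := Prod.ext (h4 _ (by simpa using congrArg Co.a4 (h2 (y4 1 0))))
    (h4 _ (by simpa using congrArg Co.a6 (h2 (y6 1 0))))
  subst hx
  exact ⟨O.inj (by simpa using h), rfl⟩

theorem BNopp {w : Γ} {a : Co K} (h : O.pre.BNg w a)
    (h' : ∃ b, (O.n1 * O.n2) ^ (4 : ℤ) * w * O.nf a * ((O.n1 * O.n2) ^ (4 : ℤ) * w)⁻¹ = O.nf b) :
    a = 1 := by
  obtain ⟨c, hc⟩ := h
  obtain ⟨b, hb⟩ := h'
  change w * O.nf a = O.nf c * w at hc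
  have h4 : ((O.n1 * O.n2) ^ 4)⁻¹ = (O.n1 * O.n2) ^ 4 :=
    inv_eq_of_mul_eq_one_right (by rw [← pow_add]; exact O.rho)
  have e : (O.n1 * O.n2) ^ (4 : ℤ) = (O.n1 * O.n2) ^ 4 := zpow_natCast _ 4
  have : c = 1 := O.opp c b (by
    rw [← hb, e, mul_assoc _ w, hc, mul_inv_rev, h4]
    simp only [mul_assoc, mul_inv_cancel_left])
  rw [this, map_one, one_mul, mul_eq_left] at hc
  exact O.inj (by rw [hc, map_one])

theorem BNfour (j : ℕ) :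
    (O.n1 * O.n2) ^ j = (O.n1 * O.n2) ^ (4 : ℤ) * (O.n1 * O.n2) ^ ((j : ℤ) - 4) := by
  rw [← zpow_add, add_sub_cancel, zpow_natCast]

theorem rot_norm {j : ℕ} (hj : j < 8)
    (h : ∀ a, ∃ b, (O.n1 * O.n2) ^ j * O.nf a * ((O.n1 * O.n2) ^ j)⁻¹ = O.nf b) : j = 0 := by
  by_contra h0
  rw [O.BNfour] at h
  by_cases h4 : 4 ≤ j
  · simpa using congrArg Co.a1 (O.BNopp (Pre.BNg1 1 ((j : ℤ) - 4) (by omega)) (h _))
  · simpa using congrArg Co.a8 (O.BNopp (Pre.BNg8 1 0 ((j : ℤ) - 4) (by omega)) (h _))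

theorem refl_norm (j : ℕ) :
    ¬ ∀ a, ∃ b, (O.n1 * O.n2) ^ j * O.n2 * O.nf a * ((O.n1 * O.n2) ^ j * O.n2)⁻¹ = O.nf b := by
  intro h
  rw [O.BNfour, mul_assoc _ _ O.n2] at h
  by_cases h4 : 1 ≤ j % 8 ∧ j % 8 ≤ 4
  · simpa using congrArg Co.a1 (O.BNopp (Pre.BNg1' 1 ((j : ℤ) - 4) (by omega)) (h _))
  · simpa using congrArg Co.a8 (O.BNopp (Pre.BNg8' 1 0 ((j : ℤ) - 4) (by omega)) (h _))

end Oct

theorem auto_lemmas_bn : True := by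
  have := @Oct.pre.eq_1.{0, 0}
  have := @Pre.BNg.eq_1.{0, 0}
  have := @Pre.BNt.eq_1.{0, 0}
  have := @Pre.BNw.eq_1.{0, 0}
  have := @Pre.BNf.eq_1.{0, 0}
  have := @Pre.BNn.eq_1.{0, 0}
  trivial

end H78.Oct
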