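import Mathlib
import Cfsg.Agent.Lib.Chev.Mat
import Cfsg.Agent.Lib.Oct.Co

/-!
# Collection in the unipotent group of type `F₄` in characteristic two (helper78)
-/

set_option autoImplicit false
set_option linter.unusedSectionVars false

namespace H78.Oct

open H38 Cfsg Cfsg.Lie

/-- Insertion of a monomial, modulo two. -/
def ins (m : ℕ) : List ℕ → List ℕ
  | [] => [m]
  | a :: l => bif m.blt a then m :: a :: l else bif m.beq a then l else a :: ins m l

/-- Sum of polynomials. -/
def padd (p q : List ℕ) : List ℕ := p.foldr ins q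

/-- Product of polynomials. -/
def pmul (p q : List ℕ) : List ℕ := p.foldr (fun m acc => padd (q.map (m * ·)) acc) []

/-- Power of a polynomial. -/
def ppow (p : List ℕ) : ℕ → List ℕ
  | 0 => [1]
  | n + 1 => pmul (ppow p n) p

/-- The primes coding the variables. -/
def prs : List ℕ :=
  [3, 5, 7, 11, 13, 17, 19, 23, 29, 31, 37, 41, 43, 47, 53, 59, 61, 67, 71, 73, 79, 83, 89, 97, 101, 103,
   107, 109, 113, 127, 131, 137, 139, 149, 151, 157, 163, 167, 173, 179, 181, 191, 193, 197, 199, 211, 223,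
   227]

/-- Polynomial expressions. -/
inductive PE
  | v (i : ℕ)
  | zero
  | add (a b : PE)
  | mul (a b : PE)
  | pow (a : PE) (n : ℕ)

instance peAdd : Add PE := ⟨.add⟩
instance peMul : Mul PE := ⟨.mul⟩
instance pePow : Pow PE ℕ := ⟨.pow⟩
instance peZero : Zero PE := ⟨.zero⟩

/-- The formal Tits endomorphism. -/
def PE.sg : PE → PE
  | .v i => bif (i % 2).beq 0 then .v (i + 1) else .pow (.v (i - 1)) 2
  | .zero => .zero
  | .add a b => .add a.sg b.sg
  | .mul a b => .mul a.sg b.sg
  | .pow a n => .pow a.sg n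

/-- Normal form. -/
def PE.toP : PE → List ℕ
  | .v i => [prs.getD i 2]
  | .zero => []
  | .add a b => padd a.toP b.toP
  | .mul a b => pmul a.toP b.toP
  | .pow a n => ppow a.toP n

/-- The commutator table. -/
def ctab : List (List (List (ℕ × ℕ × ℕ))) :=
  [[[], [(26, 1, 1)], [], [], [(29, 1, 1), (32, 1, 2)], [], [(31, 1, 1)], [], [], [], [], [(36, 1, 1), (43,
   1, 2)], [], [(38, 1, 1), (45, 1, 2)], [], [], [], [(42, 1, 1)], [], [], [], [], [(47, 1, 1)], []], [[(26,
   1, 1)], [], [], [(28, 1, 1), (30, 1, 2)], [], [], [], [(32, 1, 1)], [], [], [(35, 1, 1), (41, 1, 2)], [],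
   [], [], [(39, 1, 1), (47, 1, 2)], [], [], [], [(43, 1, 1)], [], [], [(46, 1, 1)], [], []], [[], [], [],
   [(29, 1, 1), (31, 1, 2)], [], [], [(32, 1, 1)], [], [], [], [(36, 1, 1), (42, 1, 2)], [], [], [(39, 1,
   1), (46, 1, 2)], [], [], [], [(43, 1, 1)], [], [], [], [(47, 1, 1)], [], []], [[], [(28, 1, 1), (30, 2,
   1)], [(29, 1, 1), (31, 2, 1)], [], [], [], [], [], [], [(34, 1, 1)], [], [(37, 1, 1)], [(38, 1, 1)], [],
   [], [(40, 1, 1)], [], [], [], [(44, 1, 1), (45, 2, 1)], [], [], [], []], [[(29, 1, 1), (32, 2, 1)], [],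
   [], [], [], [], [], [], [], [(35, 1, 1)], [(37, 1, 1)], [], [(39, 1, 1)], [], [(40, 1, 1)], [], [], [],
   [(44, 1, 1), (46, 2, 1)], [], [], [], [], []], [[], [], [], [], [], [], [], [], [], [(36, 1, 1)], [(38,
   1, 1)], [(39, 1, 1)], [], [(40, 1, 1)], [], [], [], [(44, 1, 1), (47, 2, 1)], [], [], [], [], [], []],
   [[(31, 1, 1)], [], [(32, 1, 1)], [], [], [], [], [], [], [(37, 1, 1), (41, 1, 2)], [], [], [(40, 1, 1),
   (47, 1, 2)], [], [], [], [], [], [(45, 1, 1)], [(46, 1, 1)], [], [], [], []], [[], [(32, 1, 1)], [], [],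
   [], [], [], [], [], [(38, 1, 1), (42, 1, 2)], [], [(40, 1, 1), (46, 1, 2)], [], [], [], [], [], [(45, 1,
   1)], [], [(47, 1, 1)], [], [], [], []], [[], [], [], [], [], [], [], [], [], [(39, 1, 1), (43, 1, 2)],
   [(40, 1, 1), (45, 1, 2)], [], [], [], [], [], [], [(46, 1, 1)], [(47, 1, 1)], [], [], [], [], []], [[],
   [], [], [(34, 1, 1)], [(35, 1, 1)], [(36, 1, 1)], [(37, 1, 1), (41, 2, 1)], [(38, 1, 1), (42, 2, 1)],
   [(39, 1, 1), (43, 2, 1)], [], [], [], [], [], [], [], [(44, 1, 1)], [], [], [], [], [], [], []], [[],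
   [(35, 1, 1), (41, 2, 1)], [(36, 1, 1), (42, 2, 1)], [], [(37, 1, 1)], [(38, 1, 1)], [], [], [(40, 1, 1),
   (45, 2, 1)], [], [], [], [], [], [], [(44, 1, 1)], [], [], [], [], [], [], [], []], [[(36, 1, 1), (43, 2,
   1)], [], [], [(37, 1, 1)], [], [(39, 1, 1)], [], [(40, 1, 1), (46, 2, 1)], [], [], [], [], [], [], [(44,
   1, 1)], [], [], [], [], [], [], [], [], []], [[], [], [], [(38, 1, 1)], [(39, 1, 1)], [], [(40, 1, 1),
   (47, 2, 1)], [], [], [], [], [], [], [(44, 1, 1)], [], [], [], [], [], [], [], [], [], []], [[(38, 1, 1),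
   (45, 2, 1)], [], [(39, 1, 1), (46, 2, 1)], [], [], [(40, 1, 1)], [], [], [], [], [], [], [(44, 1, 1)],
   [], [], [], [], [], [], [], [], [], [], []], [[], [(39, 1, 1), (47, 2, 1)], [], [], [(40, 1, 1)], [], [],
   [], [], [], [], [(44, 1, 1)], [], [], [], [], [], [], [], [], [], [], [], []], [[], [], [], [(40, 1, 1)],
   [], [], [], [], [], [], [(44, 1, 1)], [], [], [], [], [], [], [], [], [], [], [], [], []], [[], [], [],
   [], [], [], [], [], [], [(44, 1, 1)], [], [], [], [], [], [], [], [], [], [], [], [], [], []], [[(42, 1,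
   1)], [], [(43, 1, 1)], [], [], [(44, 1, 1), (47, 1, 2)], [], [(45, 1, 1)], [(46, 1, 1)], [], [], [], [],
   [], [], [], [], [], [], [], [], [], [], []], [[], [(43, 1, 1)], [], [], [(44, 1, 1), (46, 1, 2)], [],
   [(45, 1, 1)], [], [(47, 1, 1)], [], [], [], [], [], [], [], [], [], [], [], [], [], [], []], [[], [], [],
   [(44, 1, 1), (45, 1, 2)], [], [], [(46, 1, 1)], [(47, 1, 1)], [], [], [], [], [], [], [], [], [], [], [],
   [], [], [], [], []], [[], [], [], [], [], [], [], [], [], [], [], [], [], [], [], [], [], [], [], [], [],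
   [], [], []], [[], [(46, 1, 1)], [(47, 1, 1)], [], [], [], [], [], [], [], [], [], [], [], [], [], [], [],
   [], [], [], [], [], []], [[(47, 1, 1)], [], [], [], [], [], [], [], [], [], [], [], [], [], [], [], [],
   [], [], [], [], [], [], []], [[], [], [], [], [], [], [], [], [], [], [], [], [], [], [], [], [], [], [],
   [], [], [], [], []]]

/-- The commutator terms. -/
def ct (r s : ℕ) : List (ℕ × ℕ × ℕ) := (ctab.getD (r - 24) []).getD (s - 24) []

/-- The order of the positive roots. -/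
def ord (r : ℕ) : ℕ :=
  [0, 0, 0, 0, 0, 0, 0, 0, 0, 0, 0, 0, 0, 0, 0, 0, 0, 0, 0, 0, 0, 0, 0, 0, 1, 21, 3, 20, 22, 8, 23, 15, 19,
   0, 2, 14, 4, 18, 6, 12, 16, 9, 5, 7, 10, 13, 17, 11].getD r 0

/-- Is `x_s x_r` to be interchanged? -/
def sw (s r : ℕ) : Bool := Nat.ble 24 r && Nat.ble 24 s && r.blt 48 && s.blt 48 && (ord r).blt (ord s)

/-- Collection of one letter. -/
def push : ℕ → ℕ × List ℕ → List (ℕ × List ℕ) → List (ℕ × List ℕ)
  | 0, a, w => a :: w
  | _ + 1, a, [] => [a]
  | f + 1, a, b :: w => bif a.2.isEmpty then b :: w else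
      bif a.1.beq b.1 then (a.1, padd a.2 b.2) :: w else
      bif sw a.1 b.1 then b :: push f a ((ct b.1 a.1).foldr
        (fun c acc => push f (c.1, pmul (ppow b.2 c.2.1) (ppow a.2 c.2.2)) acc) w)
      else a :: b :: w

/-- The collected word. -/
def col (w : List (ℕ × PE)) : List (ℕ × List ℕ) :=
  ((w.map fun p => (p.1, p.2.toP)).foldr (push 200) []).filter fun p => !p.2.isEmpty

/-- The word of a normal form. -/
def wd {A : Type*} [Add A] [Mul A] (s : A → A) (x : Co A) : List (ℕ × A) :=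
  [(33, x.a1), (24, s x.a1), (34, x.a2), (26, s x.a2), (36, x.a2 * s x.a2 + x.b2), (42, s x.b2), (38,
   x.a3), (43, s x.a3), (29, x.a4), (41, s x.a4), (44, x.a4 * s x.a4 + x.b4), (47, s x.b4), (39, x.a5), (45,
   s x.a5), (35, x.a6), (31, s x.a6), (40, x.a6 * s x.a6 + x.b6), (46, s x.b6), (37, x.a7), (32, s x.a7),
   (27, x.a8), (25, s x.a8), (28, x.a8 * s x.a8 + x.b8), (30, s x.b8)]

/-- The permutation of the roots induced by `n₁`. -/
def p1 (r : ℕ) : ℕ :=
  [1, 0, 2, 7, 15, 17, 16, 3, 8, 10, 9, 19, 18, 20, 33, 4, 6, 5, 12, 11, 13, 22, 21, 24, 23, 26, 25, 34,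
   36, 35, 42, 41, 43, 14, 27, 29, 28, 38, 37, 39, 44, 31, 30, 32, 40, 45, 47, 46].getD r r

/-- The permutation of the roots induced by `n₂`. -/
def p2 (r : ℕ) : ℕ :=
  [0, 5, 4, 3, 2, 1, 6, 11, 9, 8, 14, 7, 13, 12, 10, 23, 21, 30, 18, 28, 27, 16, 25, 15, 32, 22, 31, 20,
   19, 29, 17, 26, 24, 37, 35, 34, 40, 33, 39, 38, 36, 41, 46, 45, 44, 43, 42, 47].getD r r

theorem ct_ok0 : ((List.range 48).all fun r => (List.range 48).all fun s => !sw s r || (s != r &&
    s != chevF4.neg r && (chevF4.commTerms r s).all (·.1 < 48) &&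
    ((chevF4.commTerms r s).filter fun c => c.2.1 % 2 != 0).map (fun c => (c.1, c.2.2)) == ct r s)) = true := by
  decide +kernel

theorem ct_ok (r : ℕ) (hr : r < 48) (s : ℕ) (hs : s < 48) (h : sw s r = true) : s ≠ r ∧ s ≠ chevF4.neg r ∧
    (chevF4.commTerms r s).all (·.1 < 48) ∧
    ((chevF4.commTerms r s).filter fun c => c.2.1 % 2 != 0).map (fun c => (c.1, c.2.2)) = ct r s := by
  have := List.all_eq_true.1 (List.all_eq_true.1 ct_ok0 r (List.mem_range.2 hr)) s (List.mem_range.2 hs)
  simpa only [h, Bool.not_true, Bool.false_or, Bool.and_eq_true, bne_iff_ne, beq_iff_eq, and_assoc] using this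

theorem prs_ok (i : ℕ) : (prs.getD i 2).Prime ∧ prs.idxOf (prs.getD i 2) = min i 48 := by
  by_cases h : i < 48
  · revert i; decide +kernel
  · rw [List.getD_eq_default _ _ (not_lt.1 h), min_eq_right (not_lt.1 h)]
    decide +kernel

variable {K : Type*} [Field K] [Tits K] (ρ : ℕ → K)

/-- Value of a monomial. -/
def evM (m : ℕ) : K := if m = 0 then 0 else (m.primeFactorsList.map fun p => ρ (prs.idxOf p)).prod

/-- Value of a polynomial. -/
def evP (p : List ℕ) : K := (p.map (evM ρ)).sum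

/-- Value of an expression. -/
def PE.ev : PE → K
  | .v i => ρ (min i 48)
  | .zero => 0
  | .add a b => a.ev + b.ev
  | .mul a b => a.ev * b.ev
  | .pow a n => a.ev ^ n

theorem evM_mul (m n : ℕ) : evM ρ (m * n) = evM ρ m * evM ρ n := by
  by_cases hm : m = 0
  · simp [evM, hm]
  by_cases hn : n = 0
  · simp [evM, hn]
  simp only [evM, hm, hn, mul_eq_zero, or_self, if_false]
  rw [((Nat.perm_primeFactorsList_mul hm hn).map _).prod_eq, List.map_append, List.prod_append]

theorem evP_ins (m : ℕ) (l : List ℕ) : evP ρ (ins m l) = evM ρ m + evP ρ l := by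
  induction l with
  | nil => simp [ins, evP]
  | cons a l ih =>
    rw [ins]
    cases m.blt a
    · cases h : m.beq a
      · simp only [evP, cond_false, List.map_cons, List.sum_cons] at ih ⊢
        rw [ih, add_left_comm]
      · simp [evP, Nat.eq_of_beq_eq_true h, ← add_assoc, CharTwo.add_self_eq_zero]
    · simp [evP]

theorem evP_padd (p q : List ℕ) : evP ρ (padd p q) = evP ρ p + evP ρ q := by
  induction p with
  | nil => simp [padd, evP]
  | cons a l ih =>
    rw [padd, List.foldr_cons, evP_ins, ← padd, ih, ← add_assoc]; rfl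

theorem evP_pmul (p q : List ℕ) : evP ρ (pmul p q) = evP ρ p * evP ρ q := by
  induction p with
  | nil => simp [pmul, evP]
  | cons a l ih =>
    rw [pmul, List.foldr_cons, evP_padd, ← pmul, ih, show evP ρ (a :: l) = evM ρ a + evP ρ l from rfl,
      add_mul]
    simp [evP, Function.comp_def, evM_mul, List.sum_map_mul_left]

theorem evP_ppow (p : List ℕ) (n : ℕ) : evP ρ (ppow p n) = evP ρ p ^ n := by
  induction n with
  | zero => simp [ppow, evP, evM]
  | succ n ih => rw [ppow, evP_pmul, ih, pow_succ]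

theorem evP_toP (e : PE) : evP ρ e.toP = e.ev ρ := by
  induction e with
  | v i => simp only [PE.toP, PE.ev, evP, evM, (prs_ok i).1.ne_zero, Nat.primeFactorsList_prime (prs_ok i).1,
      (prs_ok i).2, List.map_cons, List.map_nil, List.sum_cons, List.sum_nil, List.prod_cons, List.prod_nil,
      if_false, mul_one, add_zero]
  | zero => rfl
  | add a b h1 h2 => rw [PE.toP, evP_padd, h1, h2, PE.ev]
  | mul a b h1 h2 => rw [PE.toP, evP_pmul, h1, h2, PE.ev]
  | pow a n h1 => rw [PE.toP, evP_ppow, h1, PE.ev]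

/-- The valuation given by a list of values. -/
def val (l : List K) (j : ℕ) : K := if j % 2 = 0 then l.getD (j / 2) 0 else σ (l.getD (j / 2) 0)

theorem ev_sg {l : List K} (hl : l.length ≤ 24) (e : PE) : e.sg.ev (val l) = σ (e.ev (val l)) := by
  induction e with
  | v i =>
    have h0 : val l 48 = 0 := by simp [val, List.getElem?_eq_none hl]
    rcases Nat.mod_two_eq_zero_or_one i with h | h <;> simp only [PE.sg, h, Nat.beq, cond, PE.ev]
    · by_cases h1 : i < 48
      · rw [min_eq_left h1, min_eq_left h1.le, val, val, if_neg (by omega), if_pos h,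
          show (i + 1) / 2 = i / 2 by omega]
      · rw [min_eq_right (by omega), min_eq_right (by omega), h0, map_zero]
    · by_cases h1 : i < 48
      · rw [min_eq_left (by omega), min_eq_left h1.le, val, val, if_pos (by omega), if_neg (by omega),
          show (i - 1) / 2 = i / 2 by omega, σσ]
      · rw [min_eq_right (by omega), min_eq_right (by omega), h0, map_zero, zero_pow two_ne_zero]
  | zero => exact (map_zero _).symm
  | add a b h1 h2 => simp only [PE.sg, PE.ev, h1, h2, map_add]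
  | mul a b h1 h2 => simp only [PE.sg, PE.ev, h1, h2, map_mul]
  | pow a n h1 => simp only [PE.sg, PE.ev, h1, map_pow]

theorem ev_add (a b : PE) : (a + b).ev ρ = a.ev ρ + b.ev ρ := rfl
theorem ev_mul (a b : PE) : (a * b).ev ρ = a.ev ρ * b.ev ρ := rfl
theorem ev_pow (a : PE) (n : ℕ) : (a ^ n).ev ρ = a.ev ρ ^ n := rfl
theorem ev_zero : (0 : PE).ev ρ = 0 := rfl

variable {G : Type*} [Group G] (S : StRel chevF4 K G)

/-- The root elements. -/
def xx (r : ℕ) (t : K) : G := if r < 48 then S.x r t else 1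

/-- Value of a word. -/
def ev (w : List (ℕ × K)) : G := (w.map fun p => xx S p.1 p.2).prod

theorem xx_add (r : ℕ) (a b : K) : xx S r a * xx S r b = xx S r (a + b) := by
  unfold xx; split_ifs with h
  exacts [S.x_add r h a b, mul_one _]

theorem xx_zero (r : ℕ) : xx S r 0 = 1 := by
  unfold xx; split_ifs with h
  exacts [S.x_zero h, rfl]

theorem ev_cons (a : ℕ × K) (w : List (ℕ × K)) : ev S (a :: w) = xx S a.1 a.2 * ev S w := rfl

theorem ev_append (v w : List (ℕ × K)) : ev S (v ++ w) = ev S v * ev S w := by simp [ev]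

theorem xx_comm {r s : ℕ} (h : sw s r = true) (t u : K) : xx S s u * xx S r t =
    xx S r t * xx S s u * ((ct r s).map fun c => xx S c.1 (t ^ c.2.1 * u ^ c.2.2)).prod := by
  have h' := h
  simp only [sw, Bool.and_eq_true, Nat.blt_eq] at h'
  obtain ⟨h1, h2, h3, h4⟩ := ct_ok r h'.1.1.2 s h'.1.2 h
  rw [xx, xx, if_pos h'.1.1.2, if_pos h'.1.2, S.comm r h'.1.1.2 s h'.1.2 h1 h2, ← h4,
    ChevalleyDatum.commWord]
  congr 1
  generalize chevF4.commTerms r s = L at h3
  induction L with
  | nil => rfl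
  | cons c L ih =>
    rw [List.all_cons, Bool.and_eq_true, decide_eq_true_eq] at h3
    rw [List.map_cons, List.map_cons, List.prod_cons, ih h3.2, List.filter_cons]
    have e : (c.2.1 : K) = ((c.2.1 % 2 : ℤ) : K) := by
      rw [← Int.emod_add_mul_ediv c.2.1 2]; push_cast; simp [CharTwo.two_eq_zero]
    rcases Int.emod_two_eq_zero_or_one c.2.1 with h | h
    · simp [h, e, S.x_zero h3.1]
    · simp [h, e, xx, h3.1, CharTwo.neg_eq]

/-- Value of a word with polynomial coefficients. -/
def evW (w : List (ℕ × List ℕ)) : G := ev S (w.map fun p => (p.1, evP ρ p.2))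

theorem evW_cons (a : ℕ × List ℕ) (w : List (ℕ × List ℕ)) :
    evW ρ S (a :: w) = xx S a.1 (evP ρ a.2) * evW ρ S w := rfl

theorem evW_push (f : ℕ) (a : ℕ × List ℕ) (w : List (ℕ × List ℕ)) :
    evW ρ S (push f a w) = evW ρ S (a :: w) := by
  induction f generalizing a w with
  | zero => rfl
  | succ f ih =>
    rcases w with _ | ⟨b, w⟩
    · rfl
    rw [push]
    cases h1 : a.2.isEmpty
    swap
    · rw [cond_true, evW_cons _ _ a, List.isEmpty_iff.1 h1, show evP ρ [] = 0 from rfl, xx_zero, one_mul]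
    cases h2 : a.1.beq b.1
    swap
    · simp only [cond_true, cond_false, evW_cons, evP_padd, ← xx_add, Nat.eq_of_beq_eq_true h2, mul_assoc]
    cases h3 : sw a.1 b.1
    · rfl
    simp only [cond_true, cond_false, evW_cons, ih]
    rw [← mul_assoc, ← mul_assoc, xx_comm S h3, mul_assoc _ _ (evW ρ S w)]
    congr 1
    induction ct b.1 a.1 with
    | nil => simp
    | cons c L ih2 =>
      rw [List.foldr_cons, ih, evW_cons, ih2, evP_pmul, evP_ppow, evP_ppow, List.map_cons, List.prod_cons,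
        mul_assoc]

theorem evW_col (w : List (ℕ × PE)) : evW ρ S (col w) = ev S (w.map fun p => (p.1, p.2.ev ρ)) := by
  have h1 : ∀ v : List (ℕ × List ℕ), evW ρ S (v.filter fun p => !p.2.isEmpty) = evW ρ S v := fun v => by
    induction v with
    | nil => rfl
    | cons a v ih =>
      rw [List.filter_cons]
      cases h : a.2.isEmpty
      · simp only [Bool.not_false, if_true, evW_cons, ih]
      · simp [evW_cons, ih, List.isEmpty_iff.1 h, evP, xx_zero]
  rw [col, h1]
  induction w with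
  | nil => rfl
  | cons a w ih => rw [List.map_cons, List.foldr_cons, evW_push, evW_cons, ih, evP_toP]; rfl

/-- Generic coordinates. -/
def gX : Co PE := ⟨.v 0, .v 2, .v 4, .v 6, .v 8, .v 10, .v 12, .v 14, .v 16, .v 18, .v 20, .v 22⟩

/-- Generic coordinates. -/
def gY : Co PE := ⟨.v 24, .v 26, .v 28, .v 30, .v 32, .v 34, .v 36, .v 38, .v 40, .v 42, .v 44, .v 46⟩

theorem col_mul : col (wd PE.sg gX ++ wd PE.sg gY) = col (wd PE.sg (mulG PE.sg gX gY)) := by
  decide +kernel

theorem col_w1 : col ((wd PE.sg { gX with a1 := 0 }).map fun p => (p1 p.1, p.2)) =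
    col (wd PE.sg (w1G PE.sg gX)) := by decide +kernel

theorem col_w2 : col ((wd PE.sg { gX with a8 := 0, b8 := 0 }).map fun p => (p2 p.1, p.2)) =
    col (wd PE.sg (w2G PE.sg gX)) := by decide +kernel

/-- The list of coordinates. -/
def Co.lst (x : Co K) : List K := [x.a1, x.a2, x.b2, x.a3, x.a4, x.b4, x.a5, x.a6, x.b6, x.a7, x.a8, x.b8]

theorem ev_mul_wd (x y : Co K) : ev S (wd σ (x * y)) = ev S (wd σ x) * ev S (wd σ y) := by
  have h := congrArg (evW (val (x.lst ++ y.lst)) S) col_mul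
  rw [evW_col, evW_col, List.map_append, ev_append] at h
  simp only [wd, mulG, List.map_cons, List.map_nil, ev_add, ev_mul, ev_pow,
    ev_sg (l := x.lst ++ y.lst) le_rfl] at h
  exact h.symm

theorem ev_w1 {x : Co K} (hx : x ∈ Co.R) :
    ev S ((wd σ x).map fun p => (p1 p.1, p.2)) = ev S (wd σ (Co.w1 x)) := by
  have h := congrArg (evW (val x.lst) S) col_w1
  rw [evW_col, evW_col] at h
  simp only [wd, w1G, List.map_cons, List.map_nil, ev_add, ev_mul, ev_pow, ev_zero,
    ev_sg (l := x.lst) (by simp [Co.lst])] at h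
  rw [Co.mem_R] at hx
  simp only [wd, List.map_cons, List.map_nil, hx]
  exact h

theorem ev_w2 {x : Co K} (hx : x ∈ Co.Q) :
    ev S ((wd σ x).map fun p => (p2 p.1, p.2)) = ev S (wd σ (Co.w2 x)) := by
  have h := congrArg (evW (val x.lst) S) col_w2
  rw [evW_col, evW_col] at h
  simp only [wd, w2G, List.map_cons, List.map_nil, ev_add, ev_mul, ev_pow, ev_zero,
    ev_sg (l := x.lst) (by simp [Co.lst])] at h
  rw [Co.mem_Q] at hx
  simp only [wd, List.map_cons, List.map_nil, hx.1, hx.2]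
  exact h

/-- The normal form map. -/
def nfS : Co K →* G := MonoidHom.mk' (fun x => ev S (wd σ x)) (ev_mul_wd S)

theorem auto_lemmas_col : True := by
  have := @ins.eq_def
  have := @padd.eq_1
  have := @pmul.eq_1
  have := @ppow.eq_def
  have := @prs.eq_1
  have := @PE.sg.eq_def
  have := @PE.toP.eq_def
  have := @ctab.eq_1
  have := @ct.eq_1
  have := @ord.eq_1
  have := @sw.eq_1
  have := @push.eq_def
  have := @col.eq_1
  have := @wd.eq_1.{0}
  have := @p1.eq_1
  have := @p2.eq_1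
  have := @evM.eq_1.{0}
  have := @evP.eq_1.{0}
  have := @PE.ev.eq_def.{0}
  have := @val.eq_1.{0}
  have := @xx.eq_1.{0, 0}
  have := @ev.eq_1.{0, 0}
  have := @evW.eq_1.{0, 0}
  have := @gX.eq_1
  have := @gY.eq_1
  have := @Co.lst.eq_1.{0}
  have := @nfS.eq_1.{0, 0}
  trivial

end H78.Oct
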