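import Mathlib
import Cfsg.Agent.Lib.Oct.IV
import Cfsg.Agent.Lib.Oct.AM1
import Cfsg.Agent.Lib.SE42.Basic
import Cfsg.Agent.S3289

/-!
# The case q = 2: the centralizer of x5
-/

set_option autoImplicit false
set_option linter.unusedSectionVars false

namespace H78.Oct

open Co

variable {K C G : Type*} [Field K] [Tits K] [Finite K] [Group C] [Finite C] [Group G] [Finite G]
  {P : Par K C} {ι : C →* G}

namespace F2x

open Subgroup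

local notation "⟪" a "⟫" => ι (P.nf a)

/-- The centralizer of `x5 1` in the Sylow subgroup. -/
def T0 : Subgroup (Co K) where
  carrier := {x | x.a2 = 0 ∧ x.a8 = 0}
  mul_mem' := fun ha hb => by simp_all
  one_mem' := by simp
  inv_mem' := fun ha => by simp_all

/-- The image of `V`. -/
def W (P : Par K C) (ι : C →* G) : Subgroup G := V.map (ι.comp P.nf)

theorem eqns_f2 : True := by
  have := @T0.eq_1.{0}
  have := @W.eq_1.{0, 0, 0}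
  trivial

theorem mem_W {g : G} : g ∈ W P ι ↔ ∃ v ∈ V, ⟪v⟫ = g := Iff.rfl

theorem cj (a b : Co K) : ⟪a⟫ * ⟪b⟫ * ⟪a⟫⁻¹ = ⟪a * b * a⁻¹⟫ := by simp only [map_mul, map_inv]

theorem cm {a b : Co K} (h : a * b = b * a) : Commute ⟪a⟫ ⟪b⟫ := by
  rw [Commute, SemiconjBy, ← map_mul, ← map_mul, h, map_mul, map_mul]

theorem conjV (a : Co K) {v : Co K} (hv : v ∈ V) : a * v = v * y4 0 (a.a1 * v.b6) * a := by
  rw [mem_V] at hv
  ext <;> simp [hv] <;> grind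

theorem conjV' (a : Co K) {v : Co K} (hv : v ∈ V) : a * v * a⁻¹ ∈ V := by
  rw [conjV a hv, mul_inv_cancel_right]
  exact mul_mem hv (by simp)

theorem RV {a v : Co K} (ha : a ∈ R) (hv : v ∈ V) : a * v = v * a := by
  rw [conjV a hv, mem_R.1 ha, zero_mul, FC.z0, mul_one]

theorem T5 {a : Co K} (ha : a ∈ T0) : a * x5 1 = x5 1 * a := by
  ext <;> simp [ha.1, ha.2] <;> grind

theorem nw_nf (a : Co K) : ⟪a⟫ ∈ normalizer (W P ι : Set G) :=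
  mem_normalizer_fintype fun _ ⟨v, hv, e⟩ => ⟨_, conjV' a hv, by rw [← e]; exact (cj a v).symm⟩

theorem nw {g x : G} (hg : g ∈ normalizer (W P ι : Set G)) (hx : x ∈ W P ι) : g * x * g⁻¹ ∈ W P ι :=
  (mem_normalizer_iff.1 hg x).1 hx

theorem W_comm {x y : G} (hx : x ∈ W P ι) (hy : y ∈ W P ι) : Commute x y := by
  obtain ⟨v, hv, rfl⟩ := mem_W.1 hx
  obtain ⟨u, hu, rfl⟩ := mem_W.1 hy
  exact cm (RV (mem_V.1 hv).1 hu)

theorem W_sq {x : G} (hx : x ∈ W P ι) : x * x = 1 := by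
  obtain ⟨v, hv, rfl⟩ := mem_W.1 hx
  rw [← map_mul, ← map_mul, FC.E_sq (by simp_all), map_one, map_one]

theorem z_W : ι P.z ∈ W P ι := ⟨y4 0 1, by simp, rfl⟩

theorem sq5 : ⟪x5 1⟫ * ⟪x5 1⟫ = 1 := by rw [← map_mul, ← map_mul, FC.E_sq (by simp), map_one, map_one]

/-- an involution normalising `W` fixes a nontrivial element -/
theorem fixW (H : Hyp P ι) {p : G} (hp : p ∈ normalizer (W P ι : Set G)) (h2 : p * p = 1) :
    ∃ x ∈ W P ι, x ≠ 1 ∧ Commute p x := by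
  have hu := nw hp z_W
  by_cases h : p * ι P.z * p⁻¹ = ι P.z
  · exact ⟨_, z_W, fun e => by simpa [e] using H.order, mul_inv_eq_iff_eq_mul.1 h⟩
  refine ⟨ι P.z * (p * ι P.z * p⁻¹), mul_mem z_W hu, fun e => h ?_, mul_inv_eq_iff_eq_mul.1 ?_⟩
  · exact mul_left_cancel (e.trans (W_sq z_W).symm)
  · rw [← conj_mul, (W_comm z_W hu).eq]
    congr 1
    calc p * (p * ι P.z * p⁻¹) * p⁻¹ = p * p * ι P.z * (p * p)⁻¹ := by group
      _ = _ := by rw [h2]; group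

variable (hK : ∀ x : K, x = 0 ∨ x = 1) (H : Hyp P ι) {n : G} (F : Fr2 P ι n)

include F in
theorem n_cj {a : Co K} (ha : a ∈ R) : n * ⟪a⟫ * n⁻¹ = ⟪w1 a⟫ := by
  rw [inv_eq_of_mul_eq_one_right F.nn, F.n_nf a ha]

include F in
theorem nw_n : n ∈ normalizer (W P ι : Set G) :=
  mem_normalizer_fintype fun _ ⟨v, hv, e⟩ => ⟨w1 v, by simp_all, by
    rw [← e]; exact (n_cj F (mem_V.1 hv).1).symm⟩

include F in
theorem n5 : Commute n ⟪x5 1⟫ :=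
  mul_inv_eq_iff_eq_mul.1 ((n_cj F (by simp)).trans (by congr 2; ext <;> simp))

include F in
theorem n6 : n * ⟪y6 0 1⟫ * n⁻¹ = ι P.z := (n_cj F (by simp)).trans (by unfold Par.z; congr 2; ext <;> simp)

include hK F in
theorem trans {x : G} (hx : x ∈ W P ι) (h1 : x ≠ 1) :
    ∃ h, Commute h ⟪x5 1⟫ ∧ h ∈ normalizer (W P ι : Set G) ∧ h * ι P.z * h⁻¹ = x := by
  obtain ⟨v, hv, rfl⟩ := mem_W.1 hx
  rw [mem_V] at hv
  rcases hK v.b4 with h4 | h4 <;> rcases hK v.b6 with h6 | h6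
  · exact absurd (by rw [show v = 1 by ext <;> simp [*], map_one, map_one]) h1
  · exact ⟨n, n5 F, nw_n F, F.z6.trans (by congr 2; ext <;> simp [*])⟩
  · exact ⟨1, Commute.one_left _, one_mem _, by unfold Par.z; rw [one_mul, inv_one, mul_one]; congr 2; ext <;> simp [*]⟩
  · refine ⟨⟪x1 1⟫ * n, (cm (T5 ⟨rfl, rfl⟩)).mul_left (n5 F), mul_mem (nw_nf _) (nw_n F), ?_⟩
    rw [show ⟪x1 1⟫ * n * ι P.z * (⟪x1 1⟫ * n)⁻¹ = ⟪x1 1⟫ * (n * ι P.z * n⁻¹) * ⟪x1 1⟫⁻¹ by group, F.z6, cj]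
    congr 2
    ext <;> simp [*] <;> grind

include hK H in
theorem cT {g : G} (h5 : Commute g ⟪x5 1⟫) (hz : Commute g (ι P.z)) : ∃ a ∈ T0, g = ⟪a⟫ := by
  obtain ⟨c, rfl⟩ := H.cent_two hK hz
  have h : Commute c (P.nf (x5 1)) := H.inj (by rw [map_mul, map_mul]; exact h5.eq)
  obtain ⟨a, ha, rfl⟩ := P.cent_x5 h
  have := congrArg Co.b4 (P.PA_cm h)
  simp [ha] at this
  exact ⟨a, ⟨by grind, ha⟩, rfl⟩

include hK H F in
theorem scQ {g : G} (h5 : Commute g ⟪x5 1⟫) {a : Co K} (ha : a ∈ Q) (e : g * ι P.z * g⁻¹ = ⟪a⟫) : a ∈ V := by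
  have hE := F.point_Q H ha (isConj_iff.2 ⟨g, e⟩)
  by_cases hZ : a ∈ Z
  · simp_all
  obtain ⟨c, hc | hc⟩ := P.classE hE hZ
  swap
  · exact absurd (fa (by rw [e]) hc) (H.not_x5 _)
  have h1 : ι c * g * ι P.z * (ι c * g)⁻¹ = ⟪y6 0 1⟫ := fa (by rw [e]) hc
  obtain ⟨d, hd⟩ := H.cent_two hK (g := n * (ι c * g)) (mul_inv_eq_iff_eq_mul.1 (by
    rw [show n * (ι c * g) * ι P.z * (n * (ι c * g))⁻¹ = n * (ι c * g * ι P.z * (ι c * g)⁻¹) * n⁻¹ by group, h1,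
      n6 F]))
  obtain ⟨e1, he1, c1⟩ := P.conj_E c (a := x5 1) (by simp)
  obtain ⟨e2, he2, c2⟩ := P.conj_E d (a := x5 1) (by simp)
  have h2 : e2 = w1 e1 := by
    refine FC.inj2 H ?_
    rw [← n_cj F (mem_E.1 he1).1, ← c1, ← c2, map_mul, map_mul, map_mul, map_mul, map_inv, map_inv, ← hd]
    calc n * (ι c * g) * ⟪x5 1⟫ * (n * (ι c * g))⁻¹ = n * (ι c * (g * ⟪x5 1⟫ * g⁻¹) * (ι c)⁻¹) * n⁻¹ := by group
      _ = _ := by rw [h5.eq, mul_inv_cancel_right]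
  have h3 : e1.b2 = 0 ∧ e1.a3 = 0 := by
    have a1 := congrArg Co.b8 h2
    have a2 := congrArg Co.a7 h2
    rw [mem_E] at he1 he2
    simp [he1, he2] at a1 a2
    exact ⟨a1.symm, a2.symm⟩
  rcases P.bruhat c with ⟨b, k, rfl⟩ | ⟨b, k, t, v, rfl⟩
  · rw [B2.d_one hK, mul_one, ← map_inv, ← map_mul, ← map_mul] at hc
    have := conjV' b⁻¹ (v := y6 0 1) (by simp)
    rw [← P.inj hc] at this
    simpa [mul_assoc] using this
  · have := P.PA_big c1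
    rw [show y8 t v * x5 1 = x5 1 * y6 0 t * y8 t v by ext <;> simp, mul_inv_cancel_right, P.n_nf _ (by simp)] at this
    have e := (PA_E (a := e1) (b := b⁻¹ * e1 * b) (c := b⁻¹) he1 (mul_inv_cancel_right _ _)).2.2 h3.1
    have := congrArg Co.a3 (P.inj this)
    rw [tor_a3, e, h3.2] at this
    simp at this
where
  fa {g : G} {c c' d : C} (h : g * ι P.z * g⁻¹ = ι c) (e : d * c * d⁻¹ = c') :
      ι d * g * ι P.z * (ι d * g)⁻¹ = ι c' := by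
    rw [← e, map_mul, map_mul, map_inv, ← h]; group

include hK H F in
theorem sc {g : G} (h5 : Commute g ⟪x5 1⟫) {a : Co K} (e : g * ι P.z * g⁻¹ = ⟪a⟫) : ⟪a⟫ ∈ W P ι := by
  have hR := F.point_R hK H (isConj_iff.2 ⟨g, e⟩)
  have h2 : a * a = 1 := FC.inj2 H (by
    rw [map_mul, map_mul, ← e, conj_mul, W_sq z_W, map_one, map_one]; group)
  have key : ∀ (h : G) (b : Co K), Commute h ⟪x5 1⟫ → h ∈ normalizer (W P ι : Set G) → b ∈ Q →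
      h * ⟪a⟫ * h⁻¹ = ⟪b⟫ → ⟪a⟫ ∈ W P ι := fun h b c5 hn hb e' => by
    rw [mem_normalizer_iff.1 hn, e']
    exact ⟨b, scQ hK H F (c5.mul_left h5) hb (by rw [← e', ← e]; group), rfl⟩
  rcases hK a.b8 with h8 | h8
  · exact ⟨a, scQ hK H F h5 ⟨Par.pb_a8' h2, h8⟩ e, rfl⟩
  obtain ⟨-, -, h | ⟨h, h'⟩⟩ := B2.inv_out hK h2 h8
  · exact key n _ (n5 F) (nw_n F) h (n_cj F hR)
  · refine key (n * ⟪x1 1⟫) _ ((n5 F).mul_left (cm (T5 ⟨rfl, rfl⟩))) (mul_mem (nw_n F) (nw_nf _)) h' ?_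
    rw [← n_cj F h, show n * ⟪x1 1⟫ * ⟪a⟫ * (n * ⟪x1 1⟫)⁻¹ = n * (⟪x1 1⟫ * ⟪a⟫ * ⟪x1 1⟫⁻¹) * n⁻¹ by group, cj,
      show (x1 1 : Co K)⁻¹ = x1 1 by ext <;> simp]

include hK H F in
/-- `T0` is a Sylow subgroup of the centralizer of `x5 1` -/
theorem syl : ∃ T : Sylow 2 (centralizer ({⟪x5 1⟫} : Set G)), ∀ g : centralizer ({⟪x5 1⟫} : Set G),
    g ∈ T.toSubgroup ↔ ∃ a ∈ T0, ⟪a⟫ = g := by
  refine ⟨⟨(T0.map (ι.comp P.nf)).subgroupOf _, ((isPGroup.to_subgroup T0).map _).comap_subtype, ?_⟩, fun g => Iff.rfl⟩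
  intro Y hY hle
  by_contra hne
  have hnil := hY.isNilpotent
  have hnc : NormalizerCondition Y := Group.normalizerCondition_of_isNilpotent
  obtain ⟨g, hg, hg'⟩ := SetLike.exists_of_lt (hnc (((T0.map (ι.comp P.nf)).subgroupOf _).subgroupOf Y) (by
    rw [lt_top_iff_ne_top, Ne, subgroupOf_eq_top]
    exact fun h => hne (le_antisymm h hle)))
  rw [← subgroupOf_normalizer_eq hle] at hg
  replace hg := mem_subgroupOf.1 hg
  have h5 : Commute (g.1.1 : G) ⟪x5 1⟫ := mem_centralizer_singleton_iff.1 g.1.2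
  have m : ∀ a ∈ T0, ⟪a⟫ ∈ centralizer ({⟪x5 1⟫} : Set G) := fun a ha => mem_centralizer_singleton_iff.2 (cm (T5 ha))
  obtain ⟨a, -, e⟩ := (mem_normalizer_iff.1 hg ⟨ι P.z, m _ ⟨rfl, rfl⟩⟩).1 ⟨y4 0 1, ⟨rfl, rfl⟩, rfl⟩
  obtain ⟨b, -, e'⟩ := (mem_normalizer_iff.1 (inv_mem hg) ⟨⟪x1 1⟫, m _ ⟨rfl, rfl⟩⟩).1 ⟨x1 1, ⟨rfl, rfl⟩, rfl⟩
  replace e : g.1.1 * ι P.z * g.1.1⁻¹ = ⟪a⟫ := e.symm
  replace e' : ⟪b⟫ = g.1.1⁻¹ * ⟪x1 1⟫ * g.1.1⁻¹⁻¹ := e'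
  obtain ⟨v, hv, e2⟩ := mem_W.1 (sc hK H F h5 e)
  obtain rfl := FC.inj2 H e2
  have c1 : x1 1 * v = v * x1 1 := FC.inj2 H (by
    have : Commute ⟪b⟫ (ι P.z) := (P.z_comm _ 1).map ι
    have := this.conj g.1.1
    rw [e, e'] at this
    simpa [mul_assoc] using this.eq)
  have c2 := congrArg Co.b4 c1
  rw [mem_V] at hv
  simp [hv] at c2
  have c3 : v = y4 0 1 := by
    rcases hK v.b4 with h4 | h4
    · rw [show v = 1 by ext <;> simp [*], map_one, map_one, conj_eq_one_iff] at e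
      exact absurd H.order (by simp [e])
    · ext <;> simp [*]
  obtain ⟨t, ht, e3⟩ := cT hK H h5 (mul_inv_eq_iff_eq_mul.1 (e.trans (by rw [c3]; rfl)))
  exact hg' (mem_subgroupOf.2 ⟨t, ht, e3.symm⟩)

include hK H F in
theorem main {g : G} (hg : Commute g ⟪x5 1⟫) : g ∈ normalizer (W P ι : Set G) := by
  by_contra hn
  obtain ⟨T, hT⟩ := syl hK H F
  have c5 : ∀ g : centralizer ({⟪x5 1⟫} : Set G), Commute (g : G) ⟪x5 1⟫ := fun g =>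
    mem_centralizer_singleton_iff.1 g.2
  have m : ∀ a ∈ T0, ⟪a⟫ ∈ centralizer ({⟪x5 1⟫} : Set G) := fun a ha => mem_centralizer_singleton_iff.2 (cm (T5 ha))
  have VT : ∀ v ∈ V, v ∈ (T0 : Subgroup (Co K)) := fun v hv => ⟨(mem_V.1 hv).2.1, (mem_V.1 hv).2.2.2.2.2.2.2.2.1⟩
  have le : W P ι ≤ centralizer ({⟪x5 1⟫} : Set G) := fun _ ⟨v, hv, e⟩ => e ▸ m v (VT v hv)
  have z1 : ι P.z ≠ 1 := fun e => by simpa [e] using H.order
  have om : Cfsg.omegaOne 2 ((W P ι).subgroupOf (centralizer ({⟪x5 1⟫} : Set G))) = (W P ι).subgroupOf _ :=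
    le_antisymm ((closure_le _).2 fun x hx => hx.1) fun x hx =>
      subset_closure ⟨hx, by rw [pow_two]; exact Subtype.ext (W_sq (mem_subgroupOf.1 hx))⟩
  obtain ⟨se, hW, -⟩ := Cfsg.Agent.S3289.result T ((W P ι).subgroupOf _)
    (fun e => z1 (congrArg Subtype.val (mem_bot.1 (e ▸ mem_subgroupOf.2 z_W : (⟨_, le z_W⟩ : centralizer _) ∈ ⊥))))
    ⟨fun x hx => by
      obtain ⟨v, hv, e⟩ := mem_W.1 (mem_subgroupOf.1 hx)
      exact (hT x).2 ⟨v, VT v hv, e⟩, fun x hx k hk => by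
      by_cases x1 : (x : G) = 1
      · rw [show x = 1 from Subtype.ext x1]; simp
      obtain ⟨h, h5, -, e⟩ := trans hK F (mem_subgroupOf.1 hx) x1
      obtain ⟨a, -, e'⟩ := (hT _).1 hk
      rw [mem_subgroupOf, ← e']
      refine sc hK H F ((c5 k).mul_left h5) ?_
      rw [e', coe_mul, coe_mul, coe_inv, ← e]; group⟩
    ((normalizer (W P ι : Set G)).subgroupOf _)
    (fun e => hn (mem_subgroupOf.1 (e ▸ mem_top _ : (⟨g, mem_centralizer_singleton_iff.2 hg⟩ : centralizer _) ∈ _)))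
    (fun s hs s1 k hk => by
      obtain ⟨h, h5, hN, e⟩ := trans hK F (mem_subgroupOf.1 hs) fun e => s1 (Subtype.ext e)
      have hk' : (k : G) * s = s * k := congrArg Subtype.val (mem_centralizer_singleton_iff.1 hk)
      obtain ⟨a, -, e'⟩ := cT hK H (g := h⁻¹ * k * h) ((h5.inv_left.mul_left (c5 k)).mul_left h5) (by
        rw [← e] at hk'
        calc h⁻¹ * k * h * ι P.z = h⁻¹ * (k * (h * ι P.z * h⁻¹)) * h := by group
          _ = _ := by rw [hk']; group)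
      rw [mem_subgroupOf, show (k : G) = h * (h⁻¹ * k * h) * h⁻¹ by group, e']
      exact mul_mem (mul_mem hN (nw_nf a)) (inv_mem hN))
    (by rw [om, subgroupOf_normalizer_eq le])
  have z6W : ⟪y6 0 1⟫ ∈ W P ι := ⟨_, by simp, rfl⟩
  obtain ⟨k, hk⟩ := isConj_iff.1 (H42.SE.isConj se
    (a := ⟨⟨_, le z_W⟩, subset_normalClosure (mem_subgroupOf.2 z_W)⟩)
    (b := ⟨⟨_, le z6W⟩, subset_normalClosure (mem_subgroupOf.2 z6W)⟩)
    (by rw [← orderOf_coe, ← orderOf_coe]; exact H.order)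
    (by
      rw [← orderOf_coe, ← orderOf_coe, ← H.order, ← n6 F]
      exact ((MulAut.conj n).orderOf_eq _).symm))
  replace hk : k.1.1 * ι P.z * k.1.1⁻¹ = ⟪y6 0 1⟫ := congrArg (fun x => x.1.1) hk
  obtain ⟨t, ht, e⟩ := cT hK H (g := n * k.1.1) ((n5 F).mul_left (c5 _)) (mul_inv_eq_iff_eq_mul.1 (by
    rw [show n * k.1.1 * ι P.z * (n * k.1.1)⁻¹ = n * (k.1.1 * ι P.z * k.1.1⁻¹) * n⁻¹ by group, hk, n6 F]))
  obtain ⟨v1, v2, v3, v4, v5⟩ := B2.comm3 hK ht.1 ht.2 rfl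
  set v := w1 (t * x3 1 * t⁻¹) * x3 1 with hv
  let x : centralizer ({⟪x5 1⟫} : Set G) := ⟨⟪x3 1⟫, m _ ⟨rfl, rfl⟩⟩
  have e1 : (⟨⟪v⟫, m v ⟨v3, v4⟩⟩ : centralizer ({⟪x5 1⟫} : Set G)) = k.1 * (x * k.1⁻¹ * x⁻¹) := Subtype.ext (by
    have e2 : k.1.1 = n * ⟪t⟫ := by rw [← e, ← mul_assoc, F.nn, one_mul]
    show ⟪v⟫ = k.1.1 * (⟪x3 1⟫ * k.1.1⁻¹ * ⟪x3 1⟫⁻¹)
    rw [hv, map_mul, map_mul, ← n_cj F v1, ← cj, e2, ← map_inv ι (P.nf (x3 1)), ← map_inv P.nf (x3 1),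
      show (x3 1 : Co K)⁻¹ = x3 1 by ext <;> simp]
    group)
  have h1 : (⟨⟪v⟫, m v ⟨v3, v4⟩⟩ : centralizer ({⟪x5 1⟫} : Set G)) ∈ T.toSubgroup ⊓
      normalClosure ((W P ι).subgroupOf (centralizer ({⟪x5 1⟫} : Set G)) : Set _) :=
    ⟨(hT _).2 ⟨v, ⟨v3, v4⟩, rfl⟩, e1 ▸ mul_mem k.2 (normalClosure_normal.conj_mem _ (inv_mem k.2) x)⟩
  have h2 : ⟪v⟫ ∈ W P ι := by
    refine mem_subgroupOf.1 (?_ : (⟨⟪v⟫, m v ⟨v3, v4⟩⟩ : centralizer ({⟪x5 1⟫} : Set G)) ∈ (W P ι).subgroupOf _)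
    rcases hW with hW | hW
    · exact hW.ge h1
    · exact hW.ge (subset_closure ⟨h1, Subtype.ext (by
        show ⟪v⟫ ^ 2 = 1
        rw [pow_two, ← map_mul, ← map_mul, v2, map_one, map_one])⟩)
  obtain ⟨u, hu, e3⟩ := mem_W.1 h2
  rw [FC.inj2 H e3] at hu
  exact one_ne_zero (v5.symm.trans (mem_V.1 hu).2.2.2.1)

end F2x

open F2x

theorem Fr2.cent_x5 (hK : ∀ x : K, x = 0 ∨ x = 1) (H : Hyp P ι) {n : G} (F : Fr2 P ι n) {g : G}
    (hg : Commute g (ι (P.nf (x5 1)))) : ∀ v ∈ V, ∃ v' ∈ V, g * ι (P.nf v) * g⁻¹ = ι (P.nf v') := fun v hv =>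
  have ⟨u, hu, e⟩ := nw (main hK H F hg) ⟨v, hv, rfl⟩
  ⟨u, hu, e.symm⟩

theorem Fr2.point_V (hK : ∀ x : K, x = 0 ∨ x = 1) (H : Hyp P ι) {n : G} (F : Fr2 P ι n) {p : G}
    (hp : IsConj (ι P.z) p) (hc : Commute p (ι (P.nf (x5 1)))) : ∀ v ∈ V, Commute p (ι (P.nf v)) := by
  intro v hv
  obtain ⟨c, hc'⟩ := isConj_iff.1 hp
  obtain ⟨x, hx, x1, hpx⟩ := fixW H (main hK H F hc) (by rw [← hc', conj_mul, W_sq z_W]; group)
  obtain ⟨h, h5, hN, e⟩ := trans hK F hx x1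
  obtain ⟨a, -, e'⟩ := cT hK H (g := h⁻¹ * p * h) ((h5.inv_left.mul_left hc).mul_left h5) (by
    rw [← e] at hpx
    calc h⁻¹ * p * h * ι P.z = h⁻¹ * (p * (h * ι P.z * h⁻¹)) * h := by group
      _ = _ := by rw [hpx.eq]; group)
  have hR := F.point_R hK H (a := a) (hp.trans (isConj_iff.2 ⟨h⁻¹, by rw [inv_inv, e']⟩))
  obtain ⟨u, hu, e2⟩ := mem_W.1 (nw (inv_mem hN) ⟨v, hv, rfl⟩)
  have := (cm (ι := ι) (P := P) (RV hR hu)).conj h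
  rw [← e', e2] at this
  simpa [mul_assoc] using this

/-- A point is collinear with a point commuting with `V`. -/
theorem Fr2.exists_point (hK : ∀ x : K, x = 0 ∨ x = 1) (H : Hyp P ι) {n : G} (F : Fr2 P ι n) {t : G}
    (ht : IsConj (ι P.z) t) : ∃ p, IsConj (ι P.z) p ∧ Commute p t ∧ ∀ v ∈ V, Commute p (ι (P.nf v)) := by
  obtain ⟨c, hc⟩ := isConj_iff.1 ht
  obtain ⟨w, hw, wt, w5⟩ := H9.exists_involution_commute_of_not_isConj (x := t) (y := ι (P.nf (x5 1)))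
    (by rw [← hc, conj_mul, W_sq z_W]; group) sq5 fun h => by
      obtain ⟨d, hd⟩ := isConj_iff.1 (ht.trans h)
      exact H.not_x5 d hd
  rcases F.invol hK H hw with h | h
  · exact ⟨w, h, wt, F.point_V hK H h w5⟩
  obtain ⟨g, rfl⟩ := isConj_iff.1 h
  have h1 : Commute (g⁻¹ * t * g⁻¹⁻¹) (ι (P.nf (x5 1))) := by simpa [mul_assoc] using wt.symm.conj g⁻¹
  have h2 : Commute (g⁻¹ * ι (P.nf (x5 1)) * g⁻¹⁻¹) (ι (P.nf (x5 1))) := by simpa [mul_assoc] using w5.symm.conj g⁻¹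
  obtain ⟨x, hx, x1, hpx⟩ := fixW H (main hK H F h2) (by rw [conj_mul, sq5]; group)
  obtain ⟨k, -, -, e⟩ := trans hK F hx x1
  obtain ⟨v, hv, rfl⟩ := mem_W.1 hx
  have h3 := F.point_V hK H (ht.trans (isConj_iff.2 ⟨g⁻¹, rfl⟩)) h1 v hv
  have h4 : IsConj (ι P.z) (g * ι (P.nf v) * g⁻¹) := (isConj_iff.2 ⟨k, e⟩).trans (isConj_iff.2 ⟨g, rfl⟩)
  exact ⟨_, h4, by simpa [mul_assoc] using h3.symm.conj g,
    F.point_V hK H h4 (by simpa [mul_assoc] using hpx.symm.conj g)⟩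

end H78.Oct
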