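import Mathlib
import Cfsg.Agent.Lib.Oct.BN
import Cfsg.Agent.Lib.Oct.HA

/-!
# The homomorphism from the octagon group
-/

set_option autoImplicit false
set_option linter.unusedSectionVars false

namespace H78.Oct

open Co

variable {K Γ G : Type*} [Field K] [Tits K] [Finite K] [Group Γ] [Finite Γ] [Group G] [Finite G]

/-- `p` acts on the image of `R` -/
def GrA {X : Type*} [Group X] (f : Co K →* X) (p : X) : Prop := ∀ r ∈ R, ∃ r' ∈ R, p * f r * p⁻¹ = f r'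

theorem GrA.mul {X : Type*} [Group X] {f : Co K →* X} {p q : X} (hp : GrA f p) (hq : GrA f q) :
    GrA f (p * q) := fun r hr => by
  obtain ⟨a, ha, e⟩ := hq r hr
  obtain ⟨b, hb, e'⟩ := hp a ha
  exact ⟨b, hb, by rw [← e', ← e]; group⟩

theorem GrA.nf {X : Type*} [Group X] (f : Co K →* X) (a : Co K) : GrA f (f a) := fun r hr =>
  ⟨a * r * a⁻¹, by rw [mem_R] at hr ⊢; simp [hr, CharTwo.add_self_eq_zero], by simp⟩

theorem gr_norm (O : Oct K Γ) {w : Γ} {a b : Co K} {x : Kˣ × Kˣ} (h : 1 = O.nf a * O.h x * w * O.nf b)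
    (c : Co K) : ∃ d, w * O.nf c * w⁻¹ = O.nf d := by
  have e : w = O.h x⁻¹ * O.nf (a⁻¹ * b⁻¹) := by
    rw [map_mul, map_inv, map_inv, map_inv]
    calc w = (O.h x)⁻¹ * ((O.nf a)⁻¹ * (O.nf a * O.h x * w * O.nf b) * (O.nf b)⁻¹) := by group
      _ = _ := by rw [← h, mul_one]
  refine ⟨tor x⁻¹.1 x⁻¹.2 (a⁻¹ * b⁻¹ * c * (a⁻¹ * b⁻¹)⁻¹), ?_⟩
  rw [← O.h_nf, e, map_mul O.nf (_ * c), map_mul O.nf _ c, map_inv O.nf (_ * _)]
  group

section

variable {O : Oct K Γ} {P : Par K (Subgroup.centralizer ({O.z} : Set Γ))}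
  {ι : Subgroup.centralizer ({O.z} : Set Γ) →* G} {n : G} {θ : Kˣ × Kˣ →* G}

theorem gr_n2h (F : Fr P ι n θ) (c k : Kˣ) : ι P.n * θ (c, k) * ι P.n = θ (c, σu c * k⁻¹) := by
  have mm : ι P.n * ι P.n = 1 := by rw [← map_mul, P.nn, map_one]
  have e := F.θ_conj (c, k) P.n
  rw [P.T_n, map_mul, ← F.θ_d] at e
  have e2 : θ (c, k) = θ (1, k ^ 2 * (σu c)⁻¹) * θ (c, σu c * k⁻¹) := by
    rw [← map_mul]
    congr 1
    refine Prod.ext (one_mul c).symm ?_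
    change k = k ^ 2 * (σu c)⁻¹ * (σu c * k⁻¹)
    group
  have e3 : θ (c, σu c * k⁻¹) * ι P.n = ι P.n * θ (c, k) := mul_left_cancel (a := θ (1, k ^ 2 * (σu c)⁻¹)) (by
    rw [← mul_assoc, ← e2, ← mul_assoc, ← e]; group)
  rw [← e3, mul_assoc, mm, mul_one]

theorem gr_sz (hP : O.Cen P) (F : Fr P ι n θ) (t v : K) (h : ¬ (t = 0 ∧ v = 0)) :
    ∃ a b a' b' x, O.n2 * O.nf (y8 t v) * O.n2 = O.nf (y8 a b) * O.h x * O.n2 * O.nf (y8 a' b') ∧
      ι P.n * ι (P.nf (y8 t v)) * ι P.n = ι (P.nf (y8 a b)) * θ x * ι P.n * ι (P.nf (y8 a' b')) := by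
  obtain ⟨a, b, a', b', ⟨c, k⟩, e⟩ := O.sz t v h
  have m : O.h (c, k) ∈ Subgroup.centralizer ({O.z} : Set Γ) := by
    rw [show O.h (c, k) = (O.nf (y8 a b))⁻¹ * (O.n2 * O.nf (y8 t v) * O.n2) * (O.nf (y8 a' b'))⁻¹ * O.n2⁻¹ by
      rw [e]; group, ← hP.nf, ← hP.nf, ← hP.nf, ← hP.n]
    exact ((P.nf (y8 a b))⁻¹ * (P.n * P.nf (y8 t v) * P.n) * (P.nf (y8 a' b'))⁻¹ * P.n⁻¹).2
  have e1 : tor c k (y4 0 1) = y4 0 1 := O.inj (by
    rw [← O.h_nf, mul_inv_eq_iff_eq_mul]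
    exact (Subgroup.mem_centralizer_iff.1 m _ rfl).symm)
  have e2 : c = 1 := Units.ext (N_inj (by simpa using congrArg Co.b4 e1))
  subst e2
  refine ⟨a, b, a', b', _, e, ?_⟩
  rw [F.θ_d, ← map_mul, ← map_mul, ← map_mul, ← map_mul, ← map_mul]
  refine congrArg ι (Subtype.ext ?_)
  simpa only [Subgroup.coe_mul, hP.nf, hP.n, hP.d] using e

theorem gr_sl2 (hq : 2 < Nat.card K) (H : Hyp P ι) (F : Fr P ι n θ) {s a b : K} {x : Kˣ × Kˣ}
    (e : O.n1 * O.nf (x1 s) * O.n1 = O.nf (x1 a) * O.h x * O.n1 * O.nf (x1 b)) :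
    n * ι (P.nf (x1 s)) * n = ι (P.nf (x1 a)) * θ x * n * ι (P.nf (x1 b)) := by
  let f := O.nf.prod (ι.comp P.nf)
  have a1 : GrA f (O.n1, n) := fun r hr => ⟨w1 r, w1_mem r, Prod.ext
    ((congrArg (O.n1 * O.nf r * ·) (inv_eq_of_mul_eq_one_right O.n11)).trans (O.n1_nf r hr))
    ((congrArg (n * ι (P.nf r) * ·) (inv_eq_of_mul_eq_one_right F.nn)).trans (F.n_nf r hr))⟩
  have a2 : GrA f (O.h x, θ x) := fun r hr => ⟨tor x.1 x.2 r, by rw [mem_R] at hr ⊢; simp [hr],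
    Prod.ext (O.h_nf _ _ r) ((F.θ_conj x _).trans (congrArg ι (P.T_nf _ _ r)))⟩
  have p := (a1.mul (GrA.nf f (x1 s))).mul a1
  have q := (((GrA.nf f (x1 a)).mul a2).mul a1).mul (GrA.nf f (x1 b))
  obtain ⟨v, hv, ev⟩ := H.cent_R (g := (ι (P.nf (x1 a)) * θ x * n * ι (P.nf (x1 b)))⁻¹ *
      (n * ι (P.nf (x1 s)) * n)) fun r hr => by
    obtain ⟨r1, -, e1⟩ := p r hr
    obtain ⟨r2, -, e2⟩ := q r hr
    have e3 : r1 = r2 := O.inj (((congrArg Prod.fst e1).symm.trans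
      (congrArg (fun w => w * O.nf r * w⁻¹) e)).trans (congrArg Prod.fst e2))
    have e4 : n * ι (P.nf (x1 s)) * n * ι (P.nf r) * (n * ι (P.nf (x1 s)) * n)⁻¹ =
        ι (P.nf (x1 a)) * θ x * n * ι (P.nf (x1 b)) * ι (P.nf r) *
          (ι (P.nf (x1 a)) * θ x * n * ι (P.nf (x1 b)))⁻¹ :=
      (congrArg Prod.snd e1).trans (e3 ▸ (congrArg Prod.snd e2).symm)
    generalize n * ι (P.nf (x1 s)) * n = A, ι (P.nf (x1 a)) * θ x * n * ι (P.nf (x1 b)) = B at e4 ⊢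
    calc B⁻¹ * A * ι (P.nf r) = B⁻¹ * (A * ι (P.nf r) * A⁻¹) * A := by group
      _ = ι (P.nf r) * (B⁻¹ * A) := by rw [e4]; group
  have : Nontrivial Kˣ := Finite.one_lt_card_iff_nontrivial.1 (by rw [Nat.card_units]; omega)
  obtain ⟨c, hc⟩ := exists_ne (1 : Kˣ)
  have act : ∀ r, θ (c, c) * ι (P.nf r) * (θ (c, c))⁻¹ = ι (P.nf (tor c c r)) := fun r =>
    (F.θ_conj _ _).trans (congrArg ι (P.T_nf _ _ r))
  have c1 : ∀ u, Commute (θ (c, c)) (ι (P.nf (x1 u))) := fun u => mul_inv_eq_iff_eq_mul.1 (by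
    rw [act, show tor c c (x1 u) = x1 u by
      have := σ_ne c.ne_zero
      ext <;> simp
      field_simp])
  have c2 : Commute (θ (c, c)) n := by
    change _ * _ = _ * _
    conv_rhs => rw [← F.n_θ, ← mul_assoc, ← mul_assoc, F.nn, one_mul]
  have c3 : Commute (θ (c, c)) (ι (P.nf v)) := ev ▸
    ((((c1 a).mul_right ((Commute.all _ _).map θ)).mul_right c2).mul_right (c1 b)).inv_right.mul_right
      ((c2.mul_right (c1 s)).mul_right c2)
  have e1 : tor c c v = v := P.inj (H.inj (by rw [← act, c3.eq, mul_inv_cancel_right]))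
  have n1 : (c : K) * σ (c : K) ≠ 1 := fun e => hc (Units.ext (N_inj (by simpa using e)))
  have e2 : v = 1 := by
    rw [mem_V] at hv
    have h4 : v.b4 = 0 := by_contra fun h => n1 (mul_right_cancel₀ h ((congrArg Co.b4 e1).trans (one_mul _).symm))
    have h6 : v.b6 = 0 := by_contra fun h => n1 (mul_right_cancel₀ h ((congrArg Co.b6 e1).trans (one_mul _).symm))
    ext <;> simp [hv, h4, h6]
  rw [e2, map_one, map_one, inv_mul_eq_one] at ev
  exact ev.symm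

/-- the diagonal octagon data -/
def grD (hq : 2 < Nat.card K) (hP : O.Cen P) (H : Hyp P ι) (F : Fr P ι n θ) (hr : (n * ι P.n) ^ 8 = 1) :
    Pre K (Γ × G) where
  nf := O.nf.prod (ι.comp P.nf)
  n1 := (O.n1, n)
  n2 := (O.n2, ι P.n)
  n11 := Prod.ext O.n11 F.nn
  n22 := Prod.ext O.n22 (by change ι P.n * ι P.n = 1; rw [← map_mul, P.nn, map_one])
  rho := Prod.ext O.rho hr
  n1_nf a ha := Prod.ext (O.n1_nf a ha) (F.n_nf a ha)
  n2_nf a ha := Prod.ext (O.n2_nf a ha) (by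
    change ι P.n * ι (P.nf a) * ι P.n = ι (P.nf (w2 a))
    rw [← map_mul, ← map_mul, P.n_nf a ha])
  h := O.h.prod θ
  h_nf c k a := Prod.ext (O.h_nf c k a) ((F.θ_conj _ _).trans (congrArg ι (P.T_nf _ _ a)))
  n1_h c k := Prod.ext (O.n1_h c k) (F.n_θ c k)
  n2_h c k := Prod.ext (O.n2_h c k) (gr_n2h F c k)
  sl2 s hs := by
    obtain ⟨a, b, x, e⟩ := O.sl2 s hs
    exact ⟨a, b, x, Prod.ext e (gr_sl2 hq H F e)⟩
  sz t v h := by
    obtain ⟨a, b, a', b', x, e, e'⟩ := gr_sz hP F t v h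
    exact ⟨a, b, a', b', x, Prod.ext e e'⟩

end

theorem Oct.graph (hq : 2 < Nat.card K) (O : Oct K Γ)
    {P : Par K (Subgroup.centralizer ({O.z} : Set Γ))} (hP : O.Cen P)
    {ι : Subgroup.centralizer ({O.z} : Set Γ) →* G} (H : Hyp P ι) {n : G} {θ : Kˣ × Kˣ →* G}
    (F : Fr P ι n θ) (hr : (n * ι P.n) ^ 8 = 1) :
    ∃ ψ : Γ →* G, (∀ c : Subgroup.centralizer ({O.z} : Set Γ), ψ c = ι c) ∧ ψ O.n1 = n := by
  obtain ⟨Y, y1, y2, y3, y4, y5⟩ := (grD hq hP H F hr).bruhat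
  have sj : Function.Surjective ((MonoidHom.fst Γ G).comp Y.subtype) := MonoidHom.range_eq_top.1
    (O.gen _ (fun a => ⟨⟨_, y1 a⟩, rfl⟩) ⟨⟨_, y3⟩, rfl⟩ ⟨⟨_, y4⟩, rfl⟩)
  have inj : Function.Injective ((MonoidHom.fst Γ G).comp Y.subtype) :=
    (injective_iff_map_eq_one _).2 fun g hg => by
      obtain ⟨a, x, j, b, hj, e | e⟩ := y5 g g.2
      · have e1 : 1 = O.nf a * O.h x * (O.n1 * O.n2) ^ j * O.nf b := hg.symm.trans (congrArg Prod.fst e)
        obtain rfl := O.rot_norm hj (gr_norm O e1)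
        obtain ⟨e2, rfl⟩ := O.nf_h (a := b * a) (x := x) (by
          rw [pow_zero, mul_one] at e1
          rw [map_mul, mul_assoc, mul_eq_one_comm, ← e1])
        refine Subtype.ext (e.trans ?_)
        rw [pow_zero, map_one, mul_one, mul_one, ← map_mul, mul_eq_one_comm.1 e2, map_one]
        rfl
      · exact (O.refl_norm j (gr_norm O (hg.symm.trans (congrArg Prod.fst e)))).elim
  let i := MulEquiv.ofBijective _ ⟨inj, sj⟩
  have key : ∀ p ∈ Y, ((MonoidHom.snd Γ G).comp Y.subtype).comp i.symm.toMonoidHom p.1 = p.2 :=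
    fun p hp => congrArg (fun y : Y => (y : Γ × G).2) (i.symm_apply_apply ⟨p, hp⟩)
  refine ⟨_, fun c => key ((Subgroup.subtype _).prod ι c) ?_, key _ y3⟩
  have m1 : ∀ a, (Subgroup.subtype _).prod ι (P.nf a) ∈ Y := fun a => by
    convert y1 a using 1
    exact Prod.ext (hP.nf a) rfl
  have m2 : ∀ k, (Subgroup.subtype _).prod ι (P.d k) ∈ Y := fun k => by
    convert y2 (1, k) using 1
    exact Prod.ext (hP.d k) (F.θ_d k).symm
  have m3 : (Subgroup.subtype _).prod ι P.n ∈ Y := by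
    convert y4 using 1
    exact Prod.ext hP.n rfl
  rcases P.bruhat c with ⟨a, k, rfl⟩ | ⟨a, k, t, v, rfl⟩ <;> simp only [map_mul]
  exacts [mul_mem (m1 a) (m2 k), mul_mem (mul_mem (mul_mem (m1 a) (m2 k)) m3) (m1 _)]

end H78.Oct
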