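import Mathlib
import Cfsg.Agent.Lib.Oct.BN

/-!
# The centralizer of a 2-central involution in an octagon group
-/

set_option autoImplicit false
set_option linter.unusedSectionVars false
set_option linter.dupNamespace false

namespace H78.Oct

open Co

variable {K Γ : Type*} [Field K] [Tits K] [Finite K] [Group Γ] [Finite Γ]

namespace Oct

variable (O : Oct K Γ)

namespace OP

theorem n1_inv : O.n1⁻¹ = O.n1 := inv_eq_of_mul_eq_one_right O.n11
theorem n2_inv : O.n2⁻¹ = O.n2 := inv_eq_of_mul_eq_one_right O.n22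

theorem c1 {a b : Co K} (ha : a ∈ R) (h : w1 a = b) : O.n1 * O.nf a * O.n1⁻¹ = O.nf b := by
  rw [n1_inv, O.n1_nf a ha, h]

theorem c2 {a b : Co K} (ha : a ∈ Q) (h : w2 a = b) : O.n2 * O.nf a * O.n2⁻¹ = O.nf b := by
  rw [n2_inv, O.n2_nf a ha, h]

theorem conj_mul' (x y a : Γ) : x * y * a * (x * y)⁻¹ = x * (y * a * y⁻¹) * x⁻¹ := by group

theorem r2 (s u : K) : O.n1 * O.n2 * O.nf (y2 s u) * (O.n1 * O.n2)⁻¹ = O.nf (y4 s u) := by
  rw [conj_mul', c2 O (b := y6 s u) (by simp) (by ext <;> simp),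
    c1 O (b := y4 s u) (by simp) (by ext <;> simp)]

theorem r4 (s u : K) : O.n1 * O.n2 * O.nf (y4 s u) * (O.n1 * O.n2)⁻¹ = O.nf (y6 s u) := by
  rw [conj_mul', c2 O (b := y4 s u) (by simp) (by ext <;> simp),
    c1 O (b := y6 s u) (by simp) (by ext <;> simp)]

theorem r6 (s u : K) : O.n1 * O.n2 * O.nf (y6 s u) * (O.n1 * O.n2)⁻¹ = O.nf (y8 s u) := by
  rw [conj_mul', c2 O (b := y2 s u) (by simp) (by ext <;> simp),
    c1 O (b := y8 s u) (by simp) (by ext <;> simp)]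

theorem rho4 : ((O.n1 * O.n2) ^ 4)⁻¹ = (O.n1 * O.n2) ^ 4 :=
  inv_eq_of_mul_eq_one_right (by rw [← pow_add, O.rho])

theorem opp' {a b : Co K} (h : (O.n1 * O.n2) ^ 4 * O.nf a * ((O.n1 * O.n2) ^ 4)⁻¹ = O.nf b) : a = 1 :=
  O.opp a b (by rw [← h, rho4])

theorem n_y8 (s u : K) : O.n2 * O.nf (y8 s u) * O.n2 =
    (O.n1 * O.n2) ^ 4 * O.nf (y8 s u) * ((O.n1 * O.n2) ^ 4)⁻¹ := by
  have h : (O.n1 * O.n2) ^ 4 = O.n2 * ((O.n1 * O.n2) * ((O.n1 * O.n2) * ((O.n1 * O.n2) * O.n1))) := by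
    rw [← rho4, ← inv_pow, mul_inv_rev, n1_inv, n2_inv]
    simp only [pow_succ, pow_zero, one_mul, mul_assoc]
  rw [h, conj_mul', conj_mul' (O.n1 * O.n2), conj_mul' (O.n1 * O.n2), conj_mul' (O.n1 * O.n2),
    c1 O (b := y2 s u) (by simp) (by ext <;> simp), r2, r4, r6, n2_inv]

theorem rot_z {j : ℕ} (hj : j < 8) {t : K}
    (h : (O.n1 * O.n2) ^ j * O.z * ((O.n1 * O.n2) ^ j)⁻¹ = O.nf (y4 0 t)) : j = 0 := by
  have p : ∀ i (a : Γ), (O.n1 * O.n2) ^ (i + 1) * a * ((O.n1 * O.n2) ^ (i + 1))⁻¹ =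
      (O.n1 * O.n2) ^ i * (O.n1 * O.n2 * a * (O.n1 * O.n2)⁻¹) * ((O.n1 * O.n2) ^ i)⁻¹ := fun i a => by
    rw [pow_succ, conj_mul']
  have p0 : ∀ a : Γ, (O.n1 * O.n2) ^ 0 * a * ((O.n1 * O.n2) ^ 0)⁻¹ = a := fun a => by simp
  rw [z] at h
  interval_cases j
  · rfl
  · rw [p, r4, p0] at h
    simpa using congrArg Co.b6 (O.inj h)
  · rw [p, r4, p, r6, p0] at h
    simpa using congrArg Co.b8 (O.inj h)
  · rw [← r2, ← p] at h
    simpa using congrArg Co.b2 (opp' O h)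
  · simpa using congrArg Co.b4 (opp' O h)
  · rw [p, r4] at h
    simpa using congrArg Co.b6 (opp' O h)
  · rw [p, r4, p, r6] at h
    simpa using congrArg Co.b8 (opp' O h)
  · rw [← r2, ← p, O.rho, one_mul, inv_one, mul_one] at h
    simpa using congrArg Co.b2 (O.inj h)

theorem z_comm (a : Co K) (t : K) : O.nf a * O.nf (y4 0 t) = O.nf (y4 0 t) * O.nf a := by
  rw [← map_mul, ← map_mul]
  congr 1
  ext <;> simp [add_comm]

theorem h_z (c k : Kˣ) (t : K) :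
    O.h (c, k) * O.nf (y4 0 t) * (O.h (c, k))⁻¹ = O.nf (y4 0 (c * σ (c : K) * t)) := by
  rw [O.h_nf]
  congr 1
  ext <;> simp

theorem n_z (t : K) : O.n2 * O.nf (y4 0 t) * O.n2⁻¹ = O.nf (y4 0 t) :=
  c2 O (by simp) (by ext <;> simp)

theorem cen_form {g : Γ} (hg : g * O.z * g⁻¹ = O.z) : (∃ a k, g = O.nf a * O.h (1, k)) ∨
    ∃ a k t v, g = O.nf a * O.h (1, k) * O.n2 * O.nf (y8 t v) := by
  have key : ∀ a c k w b, g = O.nf a * O.h (c, k) * w * O.nf b →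
      w * O.z * w⁻¹ = O.nf (y4 0 ((c⁻¹ : Kˣ) * σ ((c⁻¹ : Kˣ) : K) * 1)) := by
    rintro a c k w b rfl
    rw [conj_mul', z, z_comm, mul_inv_cancel_right, conj_mul', conj_mul', mul_inv_eq_iff_eq_mul,
      ← z_comm, mul_right_inj] at hg
    rw [← h_z O c⁻¹ k⁻¹, ← hg, ← Prod.inv_mk, map_inv, z]
    group
  have one : ∀ c : Kˣ, O.z = O.nf (y4 0 ((c⁻¹ : Kˣ) * σ ((c⁻¹ : Kˣ) : K) * 1)) → c = 1 := fun c h => by
    have := congrArg Co.b4 (O.inj h)
    rw [y4_b4, y4_b4, mul_one] at this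
    exact inv_eq_one.1 (Units.ext (N_inj (by rw [← this]; simp)))
  obtain ⟨a, ⟨c, k⟩, j, b, hj, e | e⟩ := O.bruhat g
  · have h := key _ _ _ _ _ e
    obtain rfl := rot_z O hj h
    obtain rfl := one c (by simpa using h)
    exact Or.inl ⟨a * tor 1 k b, k, by rw [e, map_mul, ← O.h_nf]; group⟩
  · have h := key _ _ _ _ _ e
    rw [conj_mul', z, n_z] at h
    obtain rfl := rot_z O hj h
    obtain rfl := one c (by simpa [z] using h)
    have hq : b * (y8 b.a8 b.b8)⁻¹ ∈ Q := by simp; grind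
    refine Or.inr ⟨a * tor 1 k (w2 (b * (y8 b.a8 b.b8)⁻¹)), k, b.a8, b.b8, ?_⟩
    rw [e, map_mul, ← O.h_nf, ← c2 O hq rfl, map_mul, map_inv]; group

theorem cen_all {g : Γ} (hg : g * O.z * g⁻¹ = O.z) (t : K) :
    g * O.nf (y4 0 t) * g⁻¹ = O.nf (y4 0 t) := by
  have h1 : ∀ a, O.nf a * O.nf (y4 0 t) * (O.nf a)⁻¹ = O.nf (y4 0 t) := fun a => by
    rw [z_comm, mul_inv_cancel_right]
  have h2 : ∀ k, O.h (1, k) * O.nf (y4 0 t) * (O.h (1, k))⁻¹ = O.nf (y4 0 t) := fun k => by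
    rw [h_z]; simp
  rcases cen_form O hg with ⟨a, k, rfl⟩ | ⟨a, k, t, v, rfl⟩
  · rw [conj_mul', h2, h1]
  · rw [conj_mul', h1, conj_mul', n_z, conj_mul', h2, h1]

theorem mem_cen {g z : Γ} : g ∈ Subgroup.centralizer ({z} : Set Γ) ↔ g * z * g⁻¹ = z := by
  rw [Subgroup.mem_centralizer_singleton_iff, mul_inv_eq_iff_eq_mul]

theorem h_norm (x : Kˣ × Kˣ) :
    O.h x ∈ Subgroup.normalizer (Subgroup.centralizer ({O.z} : Set Γ) : Set Γ) := by
  refine Subgroup.mem_normalizer_fintype fun g hg => mem_cen.2 ?_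
  have h := cen_all O (mem_cen.1 hg) ((x.1⁻¹ : Kˣ) * σ ((x.1⁻¹ : Kˣ) : K) * 1)
  rw [← h_z O x.1⁻¹ x.2⁻¹, ← Prod.inv_mk, map_inv, Prod.mk.eta] at h
  calc _ = O.h x * (g * ((O.h x)⁻¹ * O.z * (O.h x)⁻¹⁻¹) * g⁻¹) * (O.h x)⁻¹ := by group
    _ = _ := by rw [z, h]; group

theorem syl : ∃ P : Sylow 2 Γ, (P : Subgroup Γ) = O.nf.range := by
  have : Fact (Nat.Prime 2) := ⟨Nat.prime_two⟩
  obtain ⟨P, hP⟩ := (isPGroup.of_surjective _ O.nf.rangeRestrict_surjective).exists_le_sylow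
  refine ⟨P, le_antisymm ?_ hP⟩
  by_contra hn
  have := P.isPGroup'.isNilpotent
  obtain ⟨x, hx, hx'⟩ := SetLike.exists_of_lt (Group.normalizerCondition_of_isNilpotent
    (O.nf.range.subgroupOf P) (lt_top_iff_ne_top.2 fun e => hn (Subgroup.subgroupOf_eq_top.1 e)))
  have key : ∀ a y w b, x = O.nf a * O.h y * w * O.nf b → ∀ u, ∃ v, w * O.nf u * w⁻¹ = O.nf v := by
    rintro a ⟨c, k⟩ w b e u
    obtain ⟨v, hv⟩ := (Subgroup.mem_normalizer_iff.1 hx ⟨_, hP ⟨b⁻¹ * u * b, rfl⟩⟩).1 ⟨b⁻¹ * u * b, rfl⟩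
    refine ⟨tor c⁻¹ k⁻¹ (a⁻¹ * v * a), ?_⟩
    rw [← O.h_nf, ← Prod.inv_mk, map_inv, map_mul, map_mul, hv]
    simp only [Subgroup.coe_subtype, e, map_mul, map_inv]
    group
  obtain ⟨a, y, j, b, hj, e | e⟩ := O.bruhat x
  · obtain rfl := O.rot_norm hj (key _ _ _ _ e)
    have m : O.h y ∈ (P : Subgroup Γ) := by
      have := mul_mem (mul_mem (inv_mem (hP ⟨a, rfl⟩)) x.2) (inv_mem (hP ⟨b, rfl⟩))
      simpa [e, mul_assoc] using this
    obtain ⟨i, hi⟩ := P.isPGroup' ⟨_, m⟩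
    have h1 := (O.nf_h (a := 1) (x := y ^ 2 ^ i) (by
      rw [map_one, one_mul, map_pow]; exact congrArg Subtype.val hi)).2
    have h2 : ∀ c : Kˣ, c ^ 2 ^ i = 1 → c = 1 := fun c hc => Units.ext (sub_eq_zero.1 (by
      have := sub_pow_char_pow (c : K) 1 (p := 2) i
      rw [← Units.val_pow_eq_pow_val, hc, one_pow, Units.val_one, sub_self] at this
      exact pow_eq_zero_iff (by positivity) |>.1 this))
    obtain rfl : y = 1 := Prod.ext (h2 _ (congrArg Prod.fst h1)) (h2 _ (congrArg Prod.snd h1))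
    exact hx' ⟨a * b, by simp [e]⟩
  · exact O.refl_norm j (key _ _ _ _ e)

theorem cent_co {a : Co K} (h : ∀ b, b * a = a * b) : a = y4 0 a.b4 := by
  have h1 := h (x1 1)
  have h2 := h (y2 1 0)
  have h3 := h (y8 1 0)
  have h4 := h (y8 0 1)
  have e8 : a.a8 = 0 := by simpa using congrArg Co.a2 h1
  have e1 : a.a1 = 0 := by simpa using congrArg Co.a2 h3
  have f8 : a.b8 = 0 := by simpa [e8] using congrArg Co.a4 h1
  have e2 : a.a2 = 0 := by simpa [e8, e1, f8] using congrArg Co.a6 h3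
  have e6 : a.a6 = 0 := by simpa [e8, e1, f8, e2] using congrArg Co.a7 h3
  have e4 : a.a4 = 0 := by simpa [e8, e1, f8, e2, e6] using congrArg Co.b2 h1
  have e7 : a.a7 = 0 := by simpa [e8, e1, f8, e2, e6, e4] using congrArg Co.a3 h1
  have f2 : a.b2 = 0 := by simpa [e8, e1, f8, e2, e6, e4, e7] using congrArg Co.a3 h3
  have e3 : a.a3 = 0 := by simpa [e8, e1, f8, e2, e6, e4, e7, f2] using congrArg Co.a5 h3
  have e5 : a.a5 = 0 := by simpa [e8, e1, f8, e2, e6, e4, e7, f2, e3] using congrArg Co.b6 h3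
  have f6 : a.b6 = 0 := by simpa [e8, e1, f8, e2, e6, e4, e7, f2, e3, e5] using congrArg Co.b4 h1
  ext <;> simp [*]

theorem cen_conj {z z' g : Γ} (h : g * z * g⁻¹ = z') :
    Nonempty (Subgroup.centralizer ({z} : Set Γ) ≃* Subgroup.centralizer ({z'} : Set Γ)) :=
  ⟨{ toFun := fun x => ⟨g * x * g⁻¹, mem_cen.2 (by
        rw [← h]
        calc _ = g * (x * z * (x : Γ)⁻¹) * g⁻¹ := by group
          _ = _ := by rw [mem_cen.1 x.2])⟩
     invFun := fun x => ⟨g⁻¹ * x * g, mem_cen.2 (by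
        calc _ = g⁻¹ * (x * (g * z * g⁻¹) * (x : Γ)⁻¹) * g := by group
          _ = _ := by rw [h, mem_cen.1 x.2, ← h]; group)⟩
     left_inv := fun x => Subtype.ext (by simp [mul_assoc])
     right_inv := fun x => Subtype.ext (by simp [mul_assoc])
     map_mul' := fun x y => Subtype.ext (by simp [mul_assoc]) }⟩

end OP

open OP

theorem exists_par : ∃ P : Par K (Subgroup.centralizer ({O.z} : Set Γ)), O.Cen P := by
  have m1 : ∀ a, O.nf a ∈ Subgroup.centralizer ({O.z} : Set Γ) := fun a =>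
    Subgroup.mem_centralizer_singleton_iff.2 (z_comm O a 1)
  have m2 : ∀ k, (O.h.comp (MonoidHom.inr _ _)) k ∈ Subgroup.centralizer ({O.z} : Set Γ) := fun k =>
    mem_cen.2 ((h_z O 1 k 1).trans (by simp [z]))
  refine ⟨{ nf := O.nf.codRestrict _ m1
            inj := fun a b e => O.inj (congrArg Subtype.val e)
            n := ⟨O.n2, mem_cen.2 (n_z O 1)⟩
            nn := Subtype.ext O.n22
            n_nf := fun a ha => Subtype.ext (O.n2_nf a ha)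
            n_y8 := fun t v a e => ?_
            d := (O.h.comp (MonoidHom.inr _ _)).codRestrict _ m2
            T := (Subgroup.normalizerMonoidHom _).comp (O.h.codRestrict _ (h_norm O))
            T_nf := fun c k a => Subtype.ext (O.h_nf c k a)
            T_d := fun x k => Subtype.ext ?_
            T_n := fun c k => Subtype.ext ?_
            d_conj := fun k x => rfl
            bruhat := fun c => ?_ }, fun _ => rfl, rfl, fun _ => rfl, fun _ _ => rfl⟩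
  · have h := opp' O ((n_y8 O t v).symm.trans (congrArg Subtype.val e))
    exact ⟨congrArg Co.a8 h, congrArg Co.b8 h⟩
  · change O.h x * O.h (1, k) * (O.h x)⁻¹ = O.h (1, k)
    rw [← map_mul, mul_comm x, map_mul, mul_inv_cancel_right]
  · change O.h (c, k) * O.n2 * (O.h (c, k))⁻¹ = O.h (1, k ^ 2 * (σu c)⁻¹) * O.n2
    have h := O.n2_h c k
    rw [show ((1 : Kˣ), k ^ 2 * (σu c)⁻¹) = (c, k) * (c, σu c * k⁻¹)⁻¹ by
      ext <;> simp [sq, mul_assoc], map_mul, map_inv, ← h, mul_inv_rev, mul_inv_rev, n2_inv,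
      mul_assoc _ _ O.n2, mul_assoc _ _ O.n2, mul_assoc _ _ O.n2, O.n22, mul_one, mul_assoc]
  · rcases cen_form O (mem_cen.1 c.2) with ⟨a, k, e⟩ | ⟨a, k, t, v, e⟩
    · exact Or.inl ⟨a, k, Subtype.ext e⟩
    · exact Or.inr ⟨a, k, t, v, Subtype.ext e⟩

theorem odd_index : Odd O.nf.range.index := by
  have : Fact (Nat.Prime 2) := ⟨Nat.prime_two⟩
  obtain ⟨P, hP⟩ := syl O
  rw [← hP, ← Nat.not_even_iff_odd, even_iff_two_dvd]
  exact P.not_dvd_index

theorem cen_equiv (U : Sylow 2 Γ) (z : Γ) (hz : orderOf z = 2) (hU : z ∈ (U : Subgroup Γ))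
    (hc : ∀ u ∈ (U : Subgroup Γ), u * z = z * u) :
    Nonempty (Subgroup.centralizer ({z} : Set Γ) ≃* Subgroup.centralizer ({O.z} : Set Γ)) := by
  have : Fact (Nat.Prime 2) := ⟨Nat.prime_two⟩
  obtain ⟨P, hP⟩ := syl O
  obtain ⟨g, rfl⟩ := MulAction.exists_smul_eq Γ U P
  have m : ∀ x, x ∈ O.nf.range ↔ g⁻¹ * x * g ∈ (U : Subgroup Γ) := fun x => by
    rw [← hP, Sylow.coe_subgroup_smul, Subgroup.mem_pointwise_smul_iff_inv_smul_mem, ← map_inv,
      MulAut.smul_def, MulAut.conj_apply, inv_inv]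
  obtain ⟨a, ha⟩ := (m (g * z * g⁻¹)).2 (by simpa [mul_assoc] using hU)
  have h1 := cent_co (a := a) fun b => O.inj (by
    rw [map_mul, map_mul, ha]
    calc _ = g * (g⁻¹ * O.nf b * g * z) * g⁻¹ := by group
      _ = _ := by rw [hc _ ((m _).1 ⟨b, rfl⟩)]; group)
  obtain ⟨c, hc⟩ := N_surj a.b4
  have c0 : c ≠ 0 := by
    rintro rfl
    rw [h1, ← hc, zero_mul, show (y4 0 0 : Co K) = 1 from rfl, map_one, eq_comm, mul_inv_eq_one,
      mul_eq_left] at ha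
    rw [ha, orderOf_one] at hz
    exact absurd hz (by decide)
  have h2 := h_z O (Units.mk0 c c0) 1 1
  rw [Units.val_mk0, hc, mul_one, ← h1, ha] at h2
  exact cen_conj (g := (O.h (Units.mk0 c c0, 1))⁻¹ * g) (by rw [conj_mul', ← h2, Oct.z]; group)

/-- If there are two classes of involutions, they are represented by `z₄` and `x₅`. -/
theorem classes (h : (ConjClasses.mk '' {g : Γ | orderOf g = 2}).ncard = 2)
    (hn : ¬ IsConj O.z (O.nf (x5 1))) {g : Γ} (hg : orderOf g = 2) :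
    IsConj O.z g ∨ IsConj (O.nf (x5 1)) g := by
  have : Fact (Nat.Prime 2) := ⟨Nat.prime_two⟩
  have o : ∀ a : Co K, a * a = 1 → a ≠ 1 → orderOf (O.nf a) = 2 := fun a h1 h2 =>
    orderOf_eq_prime (by rw [← map_pow, sq, h1, map_one]) fun e => h2 (O.inj (by rw [e, map_one]))
  obtain ⟨A, B, -, e⟩ := Set.ncard_eq_two.1 h
  have h1 : ConjClasses.mk O.z ∈ ({A, B} : Set _) := e ▸ ⟨_, o (y4 0 1)
    (by ext <;> simp [CharTwo.add_self_eq_zero]) (fun e => by simpa using congrArg Co.b4 e), rfl⟩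
  have h2 : ConjClasses.mk (O.nf (x5 1)) ∈ ({A, B} : Set _) := e ▸ ⟨_, o (x5 1)
    (by ext <;> simp [CharTwo.add_self_eq_zero]) (fun e => by simpa using congrArg Co.a5 e), rfl⟩
  have h3 : ConjClasses.mk g ∈ ({A, B} : Set _) := e ▸ ⟨_, hg, rfl⟩
  simp only [← ConjClasses.mk_eq_mk_iff_isConj, Set.mem_insert_iff, Set.mem_singleton_iff] at *
  grind

end Oct

end H78.Oct
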