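import Mathlib
import Cfsg.Agent.Lib.Oct.HA
import Cfsg.Agent.Lib.Invol.Dihedral
import Cfsg.Agent.S1220

/-!
# The octagon relation
-/

set_option autoImplicit false
set_option linter.unusedSectionVars false

namespace H78.Oct

open Co

/-- Double transitivity on the cosets of a strongly embedded subgroup, in rank at least two. -/
theorem RH_two_trans {X : Type*} [Group X] [Finite X] (H : Subgroup X) (hH : Cfsg.IsStronglyEmbedded H)
    (h2 : H13.Suz.Rank2 X) {g₁ g₂ : X} (h₁ : g₁ ∉ H) (h₂ : g₂ ∉ H) :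
    ∃ h ∈ H, g₂⁻¹ * (h * g₁) ∈ H := by
  obtain ⟨_, _, hact, hset⟩ := H14.BSE.exists_bar hH h2
  obtain ⟨u, hu, huH⟩ := H42.SE.exists_involution_not_mem hH
  obtain ⟨Q, hS⟩ := hset ((1 : X) : X ⧸ H) u (H14.BSE.bar_sq (H14.BSE.of_orderOf_two hu).2)
    (by rw [hact, Ne, H42.smul_one_eq_iff]; exact huH)
  obtain ⟨x, hx, e⟩ := H40.RankOne.exists_Q_smul hS (b := (g₁ : X ⧸ H)) (c := (g₂ : X ⧸ H))
    (by rw [Ne, H42.mk_eq_one_iff]; exact h₁) (by rw [Ne, H42.mk_eq_one_iff]; exact h₂)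
  have h3 := H40.RankOne.Q_smul hS hx
  obtain ⟨x, rfl⟩ := QuotientGroup.mk_surjective x
  rw [hact] at e h3
  exact ⟨x, (H42.smul_one_eq_iff H x).mp h3, (H42.smul_mk_eq_iff H x g₁ g₂).mp e⟩

variable {K C G : Type*} [Field K] [Tits K] [Finite K] [Group C] [Finite C] [Group G] [Finite G]
  {P : Par K C} {ι : C →* G}

theorem RH_tor_y4 (c k : Kˣ) (s u : K) :
    tor c k (y4 s u) = y4 ((c : K) * s) ((c : K) * σ (c : K) * u) := by
  ext <;> simp

theorem RH_y4_mul (s u s' u' : K) : y4 s u * y4 s' u' = y4 (s + s') (s * σ s' + u + u') := by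
  ext <;> simp

theorem RH_y4_inv (s u : K) : (y4 s u)⁻¹ = y4 s (s * σ s + u) := by
  ext <;> simp

theorem RH_y4_zero : (y4 0 0 : Co K) = 1 := by
  ext <;> simp

theorem RH_z4_sq (t : K) : y4 0 t * y4 0 t = (1 : Co K) := by
  ext <;> simp [CharTwo.add_self_eq_zero]

theorem RH_σσu (c : Kˣ) : σu (σu c) = c ^ 2 := by
  ext; simp

theorem RH_σu_mul (c k : Kˣ) : σu (c * k) = σu c * σu k := by
  ext; simp

theorem RH_σu_inv (c : Kˣ) : σu c⁻¹ = (σu c)⁻¹ := by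
  ext; simp

theorem RH_gen_ne (hq : 4 < Nat.card K) {k : Kˣ} (hg : ∀ j, j ∈ Subgroup.zpowers k) : k ≠ 1 := by
  rintro rfl
  have h1 : Nat.card Kˣ = 1 := by
    rw [Nat.card_eq_one_iff_unique]
    refine ⟨⟨fun a b => ?_⟩, ⟨1⟩⟩
    have ha := hg a
    have hb := hg b
    rw [Subgroup.zpowers_one_eq_bot, Subgroup.mem_bot] at ha hb
    rw [ha, hb]
  rw [Nat.card_units] at h1
  omega

theorem RH_N_ne {k : Kˣ} (hk : k ≠ 1) : (k : K) * σ (k : K) ≠ 1 := fun h =>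
  hk (Units.ext (N_inj (by simpa using h)))

theorem Fr.m_θ {n : G} {θ : Kˣ × Kˣ →* G} (F : Fr P ι n θ) (c k : Kˣ) :
    ι P.n * θ (c, k) * ι P.n = θ (c, σu c * k⁻¹) := by
  have h := F.θ_conj (c, k) P.n
  rw [P.T_n, map_mul, ← F.θ_d] at h
  have hm : ι P.n * ι P.n = 1 := by rw [← map_mul, P.nn, map_one]
  have h1 : ι P.n * θ (c, k) = (θ (1, k ^ 2 * (σu c)⁻¹))⁻¹ * θ (c, k) * ι P.n := by
    rw [mul_assoc, eq_inv_mul_iff_mul_eq, ← mul_assoc, ← h]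
    group
  rw [h1, mul_assoc, hm, mul_one, ← map_inv, ← map_mul]
  congr 1
  ext <;> simp [pow_two, mul_assoc]

theorem RH_rho1 {n : G} {θ : Kˣ × Kˣ →* G} (F : Fr P ι n θ) (c k : Kˣ) :
    n * ι P.n * θ (c, k) * (n * ι P.n)⁻¹ = θ (σu c * k⁻¹, c) := by
  have hm : ι P.n * ι P.n = 1 := by rw [← map_mul, P.nn, map_one]
  rw [mul_inv_rev, inv_eq_of_mul_eq_one_right hm, inv_eq_of_mul_eq_one_right F.nn, ← F.n_θ c (σu c * k⁻¹),
    ← F.m_θ c k]
  group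

theorem RH_rho2 {n : G} {θ : Kˣ × Kˣ →* G} (F : Fr P ι n θ) (c k : Kˣ) :
    (n * ι P.n) ^ 2 * θ (c, k) * ((n * ι P.n) ^ 2)⁻¹ = θ (c * (σu k)⁻¹, σu c * k⁻¹) := by
  have h := RH_rho1 F (σu c * k⁻¹) c
  rw [← RH_rho1 F c k, RH_σu_mul, RH_σσu, RH_σu_inv] at h
  have e : c ^ 2 * (σu k)⁻¹ * c⁻¹ = c * (σu k)⁻¹ := by
    rw [pow_two, mul_comm c c, mul_right_comm, mul_inv_cancel_right]
  rw [← e, ← h]
  generalize n * ι P.n = ρ
  rw [pow_two]
  group

theorem Fr.rho4 {n : G} {θ : Kˣ × Kˣ →* G} (F : Fr P ι n θ) (x : Kˣ × Kˣ) :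
    (n * ι P.n) ^ 4 * θ x * ((n * ι P.n) ^ 4)⁻¹ = (θ x)⁻¹ := by
  obtain ⟨c, k⟩ := x
  have h := RH_rho2 F (c * (σu k)⁻¹) (σu c * k⁻¹)
  rw [← RH_rho2 F c k] at h
  have e : ((c * (σu k)⁻¹ * (σu (σu c * k⁻¹))⁻¹, σu (c * (σu k)⁻¹) * (σu c * k⁻¹)⁻¹) : Kˣ × Kˣ) =
      (c, k)⁻¹ := by
    rw [RH_σu_mul, RH_σu_mul, RH_σu_inv, RH_σu_inv, RH_σσu, RH_σσu]
    ext <;> simp <;> field_simp
  rw [e, map_inv] at h
  rw [← h]
  generalize n * ι P.n = ρ
  group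

theorem RH_nm_θ {n : G} {θ : Kˣ × Kˣ →* G} (F : Fr P ι n θ) (x : Kˣ × Kˣ) : Nm ι (θ x) :=
  fun c => ⟨_, F.θ_conj x c⟩

theorem RH_θ_y4 {n : G} {θ : Kˣ × Kˣ →* G} (F : Fr P ι n θ) (c k : Kˣ) (s u : K) :
    θ (c, k) * ι (P.nf (y4 s u)) * (θ (c, k))⁻¹ =
      ι (P.nf (y4 ((c : K) * s) ((c : K) * σ (c : K) * u))) := by
  rw [F.θ_conj, P.T_nf, RH_tor_y4]

theorem RH_θ_comm (θ : Kˣ × Kˣ →* G) (x y : Kˣ × Kˣ) : Commute (θ x) (θ y) :=
  (Commute.all x y).map θ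

theorem RH_comm_y4 {n : G} {θ : Kˣ × Kˣ →* G} (F : Fr P ι n θ) (k : Kˣ) (s u : K) :
    Commute (ι (P.nf (y4 s u))) (θ (1, k)) := by
  have h := RH_θ_y4 F 1 k s u
  simp only [Units.val_one, map_one, one_mul] at h
  exact (mul_inv_eq_iff_eq_mul.1 h).symm

theorem Fr.borel (hq : 4 < Nat.card K) (H : Hyp P ι) {n : G} {θ : Kˣ × Kˣ →* G} (F : Fr P ι n θ)
    {k : Kˣ} (hg : ∀ j, j ∈ Subgroup.zpowers k) {g : G} (h1 : Nm ι g) (h2 : Commute g (θ (1, k))) :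
    ∃ s u x, g = ι (P.nf (y4 s u)) * θ x := by
  have hk := RH_gen_ne hq hg
  obtain ⟨α, hα⟩ := H.aut h1
  have hd : α (P.d k) = P.d k := H.inj (by
    rw [← hα, ← F.θ_d, h2.eq, mul_inv_cancel_right])
  rcases P.syl_d hk α hd with hS | hS
  · obtain ⟨x, h4, h6⟩ := P.scal hk hg α hd hS
    have key : ∀ v : C, α v = P.T x v → Commute ((θ x)⁻¹ * g) (ι v) := fun v hv => by
      have e1 := hα v
      rw [hv, ← F.θ_conj] at e1
      have : (θ x)⁻¹ * g * ι v * ((θ x)⁻¹ * g)⁻¹ = ι v := by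
        rw [mul_inv_rev, inv_inv, show (θ x)⁻¹ * g * ι v * (g⁻¹ * θ x) =
          (θ x)⁻¹ * (g * ι v * g⁻¹) * θ x by group, e1]
        group
      exact mul_inv_eq_iff_eq_mul.1 this
    obtain ⟨r, -, hr⟩ := H.cent_V (fun t => key _ (h4 t)) (fun t => key _ (h6 t))
    have h3 : Commute (ι (P.nf r)) (ι (P.d k)) := by
      rw [← hr, ← F.θ_d]
      exact (RH_θ_comm θ _ _).inv_left.mul_left h2
    have h5 : Commute (P.nf r) (P.d k) := H.inj (by simpa only [map_mul] using h3.eq)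
    obtain ⟨s, u, j, e⟩ := P.cent_d hk h5
    have h7 : P.nf ((y4 s u)⁻¹ * r) = P.d j := by rw [map_mul, map_inv, e, inv_mul_cancel_left]
    obtain ⟨-, rfl⟩ := P.nf_eq_d h7
    rw [map_one, mul_one] at e
    obtain ⟨c, c'⟩ := x
    refine ⟨(c : K) * s, (c : K) * σ (c : K) * u, (c, c'), ?_⟩
    rw [← RH_θ_y4 F c c' s u, ← e, ← hr]
    group
  · exfalso
    refine P.no_inv hq hg (MulAut.conj P.n * α) ?_ fun a => ?_
    · rw [MulAut.mul_apply, hd, MulAut.conj_apply, P.n_inv, P.n_d]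
    · rw [MulAut.mul_apply, MulAut.conj_apply, P.n_inv]
      exact hS a

/-- An element conjugating a nontrivial element of `Z` into `Z` normalises `ι C`. -/
theorem RH_key (H : Hyp P ι) {n : G} {θ : Kˣ × Kˣ →* G} (F : Fr P ι n θ) {g : G} {s t : K} (hs : s ≠ 0)
    (h : g * ι (P.nf (y4 0 s)) * g⁻¹ = ι (P.nf (y4 0 t))) : Nm ι g := by
  obtain ⟨c, hc⟩ := N_surj s
  have hc0 : c ≠ 0 := by
    rintro rfl
    exact hs (by rw [← hc, zero_mul])
  have h1 : θ (Units.mk0 c hc0, 1) * ι P.z * (θ (Units.mk0 c hc0, 1))⁻¹ = ι (P.nf (y4 0 s)) := by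
    rw [Par.z, RH_θ_y4 F]
    simp [hc]
  have h2 : Nm ι (g * θ (Units.mk0 c hc0, 1)) := H.nm_of_Z (t := t) (by rw [← h, ← h1]; group)
  have h3 := h2.mul (RH_nm_θ F (Units.mk0 c hc0, 1)).inv
  rwa [mul_inv_cancel_right] at h3

theorem RH_two_B (H : Hyp P ι) {n : G} {θ : Kˣ × Kˣ →* G} (F : Fr P ι n θ) {k : Kˣ} (hk : k ≠ 1)
    {g : G} (h1 : Nm ι g) (h2 : Commute g (θ (1, k))) {j : ℕ} (h : g ^ 2 ^ j = 1) :
    ∃ s u, g = ι (P.nf (y4 s u)) := by
  obtain ⟨c, rfl⟩ := H.mem_of_nm h1 h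
  rw [F.θ_d] at h2
  have h3 : Commute c (P.d k) := H.inj (by simpa only [map_mul] using h2.eq)
  obtain ⟨s, u, j', rfl⟩ := P.cent_d hk h3
  have h4 : (P.nf (y4 s u) * P.d j') ^ 2 ^ j = 1 := H.inj (by rw [map_pow, h, map_one])
  obtain rfl := P.two_B h4
  exact ⟨s, u, by rw [map_one, mul_one]⟩

theorem RH_inv_B (H : Hyp P ι) {n : G} {θ : Kˣ × Kˣ →* G} (F : Fr P ι n θ) {k : Kˣ} (hk : k ≠ 1)
    {g : G} (h1 : Nm ι g) (h2 : Commute g (θ (1, k))) (h : g * g = 1) (h0 : g ≠ 1) :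
    ∃ t, t ≠ 0 ∧ g = ι (P.nf (y4 0 t)) := by
  obtain ⟨s, u, rfl⟩ := RH_two_B H F hk h1 h2 (j := 1) (by rw [pow_one, pow_two, h])
  have h3 : y4 s u * y4 s u = 1 := P.inj (H.inj (by simpa only [map_mul, map_one] using h))
  have h5 := congrArg Co.b4 h3
  rw [RH_y4_mul] at h5
  have h6 : s * σ s = 0 := by
    simpa [add_assoc, CharTwo.add_self_eq_zero] using h5
  obtain rfl := N_eq_zero h6
  refine ⟨u, ?_, rfl⟩
  rintro rfl
  exact h0 (by rw [RH_y4_zero, map_one, map_one])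

/-- An element inverting the torus does not normalise `ι C`. -/
theorem RH_not_nm (hq : 4 < Nat.card K) (H : Hyp P ι) {n : G} {θ : Kˣ × Kˣ →* G} (F : Fr P ι n θ)
    {w : G} (hw : ∀ x, w * θ x * w⁻¹ = (θ x)⁻¹) : ¬ Nm ι w := fun h => by
  obtain ⟨k, hg⟩ := IsCyclic.exists_generator (α := Kˣ)
  obtain ⟨α, hα⟩ := H.aut h
  choose f hf using P.aut_Z α
  have hinj : ∀ s t : K, P.nf (y4 0 s) = P.nf (y4 0 t) → s = t := fun s t e => by
    simpa using congrArg Co.b4 (P.inj e)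
  have hadd : ∀ s t, f (s + t) = f s + f t := fun s t => hinj _ _ (by
    have e : ∀ a b : K, y4 0 (a + b) = y4 0 a * y4 0 b := fun a b => by rw [RH_y4_mul]; simp
    rw [← hf, e, e, map_mul, map_mul, map_mul, hf, hf])
  refine no_inv_add hq hg (AddMonoidHom.mk' f hadd) (fun s t e => ?_) fun t => ?_
  · have e' : f s = f t := e
    exact hinj _ _ (α.injective (by rw [hf, hf, e']))
  · change f _ = _ * f t
    refine hinj _ _ (H.inj ?_)
    have e1 := RH_θ_y4 F k 1 0 t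
    have e2 := RH_θ_y4 F k⁻¹ 1 0 (f t)
    have e3 : θ (k⁻¹, 1) = (θ (k, 1))⁻¹ := by rw [← map_inv]; simp
    rw [mul_zero] at e1 e2
    have e4 : ((k⁻¹ : Kˣ) : K) * σ ((k⁻¹ : Kˣ) : K) = ((k : K) * σ (k : K))⁻¹ := by
      simp [mul_comm]
    rw [e4, e3, ← hf, ← hα, ← hw] at e2
    rw [← e2, ← hf, ← hα, ← e1]
    group

/-- An element of `U₄` commuting with `θ (k, 1)` is trivial. -/
theorem RH_comm_t (H : Hyp P ι) {n : G} {θ : Kˣ × Kˣ →* G} (F : Fr P ι n θ) {k : Kˣ} (hk : k ≠ 1)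
    {s u : K} (h : Commute (θ (k, 1)) (ι (P.nf (y4 s u)))) : ι (P.nf (y4 s u)) = 1 := by
  have e := RH_θ_y4 F k 1 s u
  rw [h.eq, mul_inv_cancel_right] at e
  have e1 := P.inj (H.inj e)
  have e2 : s = (k : K) * s := by simpa using congrArg Co.a4 e1
  have e3 : u = (k : K) * σ (k : K) * u := by simpa using congrArg Co.b4 e1
  have hs : s = 0 := by
    by_contra hs
    exact hk (Units.ext (mul_right_cancel₀ hs (by rw [← e2]; simp)))
  have hu : u = 0 := by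
    by_contra hu
    exact RH_N_ne hk (mul_right_cancel₀ hu (by rw [← e3]; simp))
  rw [hs, hu, RH_y4_zero, map_one, map_one]

/-- An element inverting the torus lies in `C(h) · N(ι C)`. -/
theorem RH_exists_d (H : Hyp P ι) {n : G} {θ : Kˣ × Kˣ →* G} (F : Fr P ι n θ) {k : Kˣ} (hk : k ≠ 1)
    {w : G} (hw : ∀ x, w * θ x * w⁻¹ = (θ x)⁻¹) :
    ∃ d, Commute d (θ (1, k)) ∧ Nm ι (d⁻¹ * w) := by
  have hτ : ι P.z ∈ Subgroup.centralizer ({θ (1, k)} : Set G) :=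
    Subgroup.mem_centralizer_singleton_iff.2 (RH_comm_y4 F k 0 1)
  have hi' : Commute (w * ι P.z * w⁻¹) (θ (1, k)) := by
    have h1 := ((RH_comm_y4 F k 0 1).inv_right).map (MulAut.conj w).toMonoidHom
    simp only [MulEquiv.coe_toMonoidHom, MulAut.conj_apply, map_inv, hw, inv_inv] at h1
    exact h1
  have hi : w * ι P.z * w⁻¹ ∈ Subgroup.centralizer ({θ (1, k)} : Set G) :=
    Subgroup.mem_centralizer_singleton_iff.2 hi'
  have hz : ι P.z * ι P.z = 1 := H9.mul_self_of_orderOf_two H.order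
  have hii : w * ι P.z * w⁻¹ * (w * ι P.z * w⁻¹) = 1 := by
    rw [conj_mul, hz]; group
  by_cases hc : IsConj (⟨_, hi⟩ : Subgroup.centralizer ({θ (1, k)} : Set G)) ⟨_, hτ⟩
  · obtain ⟨d, hd⟩ := isConj_iff.1 hc
    have hd' : (d : G) * (w * ι P.z * w⁻¹) * (d : G)⁻¹ = ι P.z := congrArg Subtype.val hd
    refine ⟨(d : G)⁻¹, Commute.inv_left (Subgroup.mem_centralizer_singleton_iff.1 d.2), ?_⟩
    refine H.nm_of_Z (t := 1) ?_
    rw [inv_inv, ← Par.z]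
    conv_rhs => rw [← hd']
    group
  · obtain ⟨j, hj, h1, h2⟩ := H9.exists_involution_commute_of_not_isConj
      (Subtype.ext hii) (Subtype.ext hz) hc
    have h1' : Commute (j : G) (w * ι P.z * w⁻¹) := congrArg Subtype.val h1
    have h2' : Commute (j : G) (ι P.z) := congrArg Subtype.val h2
    obtain ⟨t, ht, e⟩ := RH_inv_B H F hk (H.norm _ h2') (Subgroup.mem_centralizer_singleton_iff.1 j.2)
      (congrArg Subtype.val (H9.mul_self_of_orderOf_two hj))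
      (fun e => H9.ne_one_of_orderOf_two hj (Subtype.ext e))
    have h3 : Nm ι (w * ι P.z * w⁻¹) := RH_key H F ht (t := t) (by
      rw [← e, ← h1'.eq, mul_inv_cancel_right])
    obtain ⟨t', -, e'⟩ := RH_inv_B H F hk h3 hi' hii (fun e => H9.ne_one_of_orderOf_two H.order (by
      simpa using e))
    exact ⟨1, Commute.one_left _, by rw [inv_one, one_mul]; exact H.nm_of_Z e'⟩

/-- The Borel subgroup of `C(h)` is strongly embedded. -/
theorem RH_se (H : Hyp P ι) {n : G} {θ : Kˣ × Kˣ →* G} (F : Fr P ι n θ) {k : Kˣ} (hk : k ≠ 1)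
    (B : Subgroup (Subgroup.centralizer ({θ (1, k)} : Set G))) (hB : ∀ g, g ∈ B ↔ Nm ι (g : G))
    (hne : B ≠ ⊤) : Cfsg.IsStronglyEmbedded B := by
  have hτ : ι P.z ∈ Subgroup.centralizer ({θ (1, k)} : Set G) :=
    Subgroup.mem_centralizer_singleton_iff.2 (RH_comm_y4 F k 0 1)
  refine ⟨hne, ?_, fun g hg => ?_⟩
  · have h1 : orderOf (⟨_, hτ⟩ : Subgroup.centralizer ({θ (1, k)} : Set G)) ∣ Nat.card B :=
      Subgroup.orderOf_dvd_natCard _ ((hB _).2 (Nm.self _))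
    rw [← Subgroup.orderOf_coe, H.order] at h1
    exact even_iff_two_dvd.2 h1
  · by_contra ho
    rw [Nat.not_odd_iff_even, even_iff_two_dvd] at ho
    obtain ⟨⟨i, hi1, b, hb, rfl⟩, hi⟩ := exists_prime_orderOf_dvd_card' 2 ho
    rw [← Subgroup.orderOf_coe] at hi
    change orderOf (g * b * g⁻¹) = 2 at hi
    have hb2 : orderOf b = 2 := by rwa [H9.orderOf_conj] at hi
    obtain ⟨s, hs, e⟩ := RH_inv_B H F hk ((hB _).1 hb) (Subgroup.mem_centralizer_singleton_iff.1 b.2)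
      (congrArg Subtype.val (H9.mul_self_of_orderOf_two hb2))
      (fun e => H9.ne_one_of_orderOf_two hb2 (Subtype.ext e))
    obtain ⟨t, -, e'⟩ := RH_inv_B H F hk ((hB _).1 hi1)
      (Subgroup.mem_centralizer_singleton_iff.1 (g * b * g⁻¹).2)
      (congrArg Subtype.val (H9.mul_self_of_orderOf_two hi))
      (fun e => H9.ne_one_of_orderOf_two hi (Subtype.ext e))
    exact hg ((hB _).2 (RH_key H F hs (t := t) (by rw [← e, ← e']; rfl)))

theorem RH_rank2 (H : Hyp P ι) {n : G} {θ : Kˣ × Kˣ →* G} (F : Fr P ι n θ) {k : Kˣ} (hk : k ≠ 1) :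
    H13.Suz.Rank2 (Subgroup.centralizer ({θ (1, k)} : Set G)) := by
  have hm : ∀ t, ι (P.nf (y4 0 t)) ∈ Subgroup.centralizer ({θ (1, k)} : Set G) := fun t =>
    Subgroup.mem_centralizer_singleton_iff.2 (RH_comm_y4 F k 0 t)
  have hinj : ∀ s t : K, ι (P.nf (y4 0 s)) = ι (P.nf (y4 0 t)) → s = t := fun s t e => by
    simpa using congrArg Co.b4 (P.inj (H.inj e))
  have h0 : ι (P.nf (y4 0 0)) = 1 := by rw [RH_y4_zero, map_one, map_one]
  have hsq : ∀ t : K, ι (P.nf (y4 0 t)) * ι (P.nf (y4 0 t)) = 1 := fun t => by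
    rw [← map_mul, ← map_mul, RH_z4_sq, map_one, map_one]
  refine ⟨⟨_, hm 1⟩, ⟨_, hm k⟩, fun e => ?_, fun e => ?_, fun e => ?_, Subtype.ext (hsq _),
    Subtype.ext (hsq _), Subtype.ext ?_⟩
  · exact one_ne_zero (hinj _ _ ((congrArg Subtype.val e).trans h0.symm))
  · exact k.ne_zero (hinj _ _ ((congrArg Subtype.val e).trans h0.symm))
  · exact hk (Units.ext (hinj _ _ (congrArg Subtype.val e)).symm)
  · exact ((P.z_comm _ _).map ι).eq

theorem RH_main (hq : 4 < Nat.card K) (H : Hyp P ι) {n : G} {θ : Kˣ × Kˣ →* G} (F : Fr P ι n θ)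
    {w : G} (hw : ∀ x, w * θ x * w⁻¹ = (θ x)⁻¹) : w * w = 1 := by
  obtain ⟨k, hg⟩ := IsCyclic.exists_generator (α := Kˣ)
  have hk := RH_gen_ne hq hg
  have hw' : ∀ x, w⁻¹ * θ x * w⁻¹⁻¹ = (θ x)⁻¹ := fun x => by
    have h := hw x⁻¹
    rw [map_inv, inv_inv] at h
    conv_lhs => rw [← h]
    group
  have hn := RH_not_nm hq H F hw
  have hn' := RH_not_nm hq H F hw'
  obtain ⟨d1, c1, n1⟩ := RH_exists_d H F hk hw
  obtain ⟨d2, c2, n2⟩ := RH_exists_d H F hk hw'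
  let B : Subgroup (Subgroup.centralizer ({θ (1, k)} : Set G)) :=
    (Subgroup.normalizer (ι.range : Set G)).subgroupOf _
  have hB : ∀ g, g ∈ B ↔ Nm ι (g : G) := fun g => by rw [Subgroup.mem_subgroupOf, nm_iff]
  let e1 : Subgroup.centralizer ({θ (1, k)} : Set G) := ⟨d1, Subgroup.mem_centralizer_singleton_iff.2 c1⟩
  let e2 : Subgroup.centralizer ({θ (1, k)} : Set G) := ⟨d2, Subgroup.mem_centralizer_singleton_iff.2 c2⟩
  have m1 : e1 ∉ B := fun h => hn (by simpa [e1] using ((hB _).1 h).mul n1)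
  have m2 : e2 ∉ B := fun h => hn' (by simpa [e2] using ((hB _).1 h).mul n2)
  have hne : B ≠ ⊤ := fun h => m1 (h ▸ Subgroup.mem_top _)
  obtain ⟨b, hb, hb'⟩ := RH_two_trans B (RH_se H F hk B hB hne) (RH_rank2 H F hk) m1 m2
  have h1 : Nm ι (w * b * w) := by
    have h := (n2.inv.mul ((hB _).1 hb')).mul n1
    have e : (d2⁻¹ * w⁻¹)⁻¹ * ((e2⁻¹ * (b * e1) : Subgroup.centralizer ({θ (1, k)} : Set G)) : G) *
        (d1⁻¹ * w) = w * b * w := by
      change (d2⁻¹ * w⁻¹)⁻¹ * (d2⁻¹ * (b * d1)) * (d1⁻¹ * w) = w * b * w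
      group
    rwa [e] at h
  obtain ⟨s, u, x, e⟩ := F.borel hq H hg ((hB _).1 hb) (Subgroup.mem_centralizer_singleton_iff.1 b.2)
  have h2 : Nm ι (w * ι (P.nf (y4 s u)) * w) := by
    have h := h1.mul (RH_nm_θ F x)
    have e' : w * b * w * θ x = w * ι (P.nf (y4 s u)) * w := by
      have := hw x
      rw [e, show w * (ι (P.nf (y4 s u)) * θ x) * w * θ x =
        w * ι (P.nf (y4 s u)) * θ x * (w * θ x * w⁻¹) * w by group, this]
      group
    rwa [e'] at h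
  -- the twisted conjugate
  have h3 : Nm ι (w * (θ (k, 1) * ι (P.nf (y4 s u)) * (θ (k, 1))⁻¹) * w) := by
    have h := ((RH_nm_θ F (k, 1)).inv.mul h2).mul (RH_nm_θ F (k, 1))
    have e' : (θ (k, 1))⁻¹ * (w * ι (P.nf (y4 s u)) * w) * θ (k, 1) =
        w * (θ (k, 1) * ι (P.nf (y4 s u)) * (θ (k, 1))⁻¹) * w := by
      have := hw (k, 1)
      conv_lhs => rw [← this]
      conv_rhs => rw [← this]
      group
    rwa [e'] at h
  have h4 : ι (P.nf (y4 s u)) = 1 := by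
    refine RH_comm_t H F hk ?_
    by_contra hc
    have h5 := h2.inv.mul h3
    rw [RH_θ_y4 F] at h5
    obtain ⟨s', u', e'⟩ : ∃ s' u', (y4 s u)⁻¹ * y4 ((k : K) * s) ((k : K) * σ (k : K) * u) = y4 s' u' :=
      ⟨_, _, by rw [RH_y4_inv, RH_y4_mul]⟩
    have h6 : Nm ι (w⁻¹ * ι (P.nf (y4 s' u')) * w⁻¹⁻¹) := by
      rw [← e', map_mul, map_mul, map_inv, map_inv]
      convert h5 using 1
      group
    have h7 : ∃ t, t ≠ 0 ∧ Nm ι (w⁻¹ * ι (P.nf (y4 0 t)) * w⁻¹⁻¹) := by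
      by_cases hs : s' = 0
      · subst hs
        refine ⟨u', ?_, h6⟩
        rintro rfl
        rw [RH_y4_zero, inv_mul_eq_one] at e'
        apply hc
        have := RH_θ_y4 F k 1 s u
        rw [← e'] at this
        exact mul_inv_eq_iff_eq_mul.1 this
      · refine ⟨s' * σ s', mul_ne_zero hs (σ_ne hs), ?_⟩
        have h8 := h6.mul h6
        rw [conj_mul, ← map_mul, ← map_mul, RH_y4_mul] at h8
        simpa only [CharTwo.add_self_eq_zero, add_assoc, add_zero] using h8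
    obtain ⟨t, ht, h8⟩ := h7
    have h9 : Commute (w⁻¹ * ι (P.nf (y4 0 t)) * w⁻¹⁻¹) (θ (1, k)) := by
      have h1 := (RH_comm_y4 F k 0 t).map (MulAut.conj w⁻¹).toMonoidHom
      simp only [MulEquiv.coe_toMonoidHom, MulAut.conj_apply] at h1
      rw [hw'] at h1
      exact Commute.inv_right_iff.1 h1
    obtain ⟨t', -, e''⟩ := RH_inv_B H F hk h8 h9
      (by rw [conj_mul, ← map_mul, ← map_mul, RH_z4_sq, map_one, map_one]; group)
      (fun e => ht (by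
        have e1 : ι (P.nf (y4 0 t)) = ι (P.nf 1) := by
          rw [conj_eq_one_iff] at e
          rw [e, map_one, map_one]
        simpa using congrArg Co.b4 (P.inj (H.inj e1))))
    exact hn' (RH_key H F ht e'')
  rw [h4, mul_one] at h2
  have hc : ∀ x, Commute (w * w) (θ x) := fun x => by
    have h := hw x⁻¹
    rw [map_inv, inv_inv, ← hw x] at h
    refine mul_inv_eq_iff_eq_mul.1 ?_
    conv_rhs => rw [← h]
    group
  obtain ⟨s', u', y, e'⟩ := F.borel hq H hg h2 (hc _)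
  have h5 : ι (P.nf (y4 s' u')) = 1 := by
    refine RH_comm_t H F hk ?_
    rw [eq_mul_inv_of_mul_eq e'.symm]
    exact (hc _).symm.mul_right (RH_θ_comm θ _ _).inv_right
  rw [h5, one_mul] at e'
  have h6 : θ y = (θ y)⁻¹ := by
    rw [← hw y, ← e']
    group
  have h7 : θ y ^ 2 = 1 := by
    rw [pow_two]
    nth_rewrite 1 [h6]
    exact inv_mul_cancel _
  have h8 : Odd (orderOf y) := by
    rw [Prod.orderOf]
    exact Odd.of_dvd_nat ((odd_unit y.1).mul (odd_unit y.2)) (Nat.lcm_dvd_mul _ _)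
  rw [e', ← orderOf_eq_one_iff]
  have h9 : orderOf (θ y) ∣ Nat.gcd 2 (orderOf y) :=
    Nat.dvd_gcd (orderOf_dvd_of_pow_eq_one h7) (orderOf_map_dvd θ y)
  rwa [Nat.coprime_two_left.2 h8, Nat.dvd_one] at h9

theorem Fr.rho (hq : 4 < Nat.card K) (H : Hyp P ι) {n : G} {θ : Kˣ × Kˣ →* G} (F : Fr P ι n θ) :
    (n * ι P.n) ^ 8 = 1 := by
  rw [show 8 = 4 + 4 from rfl, pow_add]
  exact RH_main hq H F F.rho4

end H78.Oct
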