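import Mathlib
import Cfsg.Agent.Lib.Oct.HA
import Cfsg.Agent.Lib.Core.Coprime

/-!
# The torus
-/

set_option autoImplicit false
set_option linter.unusedSectionVars false

namespace H78.Oct

open Co

variable {K C G : Type*} [Field K] [Tits K] [Finite K] [Group C] [Finite C] [Group G] [Finite G]
  {P : Par K C} {ι : C →* G}

namespace TO

variable {X : Type*} [Group X] [Finite X] {A : Subgroup X} {x y : X}

theorem glaub (hA : IsPGroup 2 A) (hx : Odd (orderOf x)) (hn : ∀ a ∈ A, x * a * x⁻¹ ∈ A)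
    {H : Subgroup X} (h : ∀ m : ℕ, ∃ a ∈ A, a * x ^ m ∈ H) : ∃ a ∈ A, a * x * a⁻¹ ∈ H := by
  obtain ⟨j, hj⟩ := (IsPGroup.iff_card (p := 2)).1 hA
  obtain ⟨a, ha, e⟩ := H2.exists_conj_le_of_forall_mul_mem (A := Subgroup.zpowers x) (K := A)
    (Subgroup.zpowers_le.2 (Subgroup.mem_normalizer_fintype hn))
    (by rw [Nat.card_zpowers, hj]; exact (Nat.coprime_two_right.2 hx).pow_right _)
    (Or.inl (H2.isSolvable_zpowers x)) (H := H) fun b hb => by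
      obtain ⟨m, rfl⟩ := mem_powers_iff_mem_zpowers.2 hb
      exact h m
  exact ⟨a, ha, e x (Subgroup.mem_zpowers x)⟩

theorem odd_conj (hx : Odd (orderOf x)) (g : X) : Odd (orderOf (g * x * g⁻¹)) :=
  (MulAut.conj g).orderOf_eq x ▸ hx

end TO

/-- Elements of odd order in one coset of a 2-subgroup are conjugate. -/
theorem conj_of_coset {X : Type*} [Group X] [Finite X] {A : Subgroup X} (hA : IsPGroup 2 A) {x y : X}
    (hx : Odd (orderOf x)) (hy : Odd (orderOf y)) (hn : ∀ a ∈ A, x * a * x⁻¹ ∈ A) (h : y * x⁻¹ ∈ A) :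
    ∃ a ∈ A, a * x * a⁻¹ = y := by
  obtain ⟨a, ha, e⟩ := TO.glaub hA hx hn (H := Subgroup.zpowers y) fun m =>
    ⟨y ^ m * (x ^ m)⁻¹, by
      induction m with
      | zero => simp
      | succ m ih =>
        have := mul_mem h (hn _ ih)
        rwa [show y * x⁻¹ * (x * (y ^ m * (x ^ m)⁻¹) * x⁻¹) = y ^ (m + 1) * (x ^ (m + 1))⁻¹ by
          group] at this, by simp⟩
  have h1 : a * x * a⁻¹ * y⁻¹ ∈ A := by
    have := mul_mem (mul_mem ha (hn _ (inv_mem ha))) (inv_mem h)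
    rwa [show a * (x * a⁻¹ * x⁻¹) * (y * x⁻¹)⁻¹ = a * x * a⁻¹ * y⁻¹ by group] at this
  have h2 := hy.of_dvd_nat
    (orderOf_dvd_of_mem_zpowers (mul_mem e (inv_mem (Subgroup.mem_zpowers y))))
  obtain ⟨j, hj⟩ := hA ⟨_, h1⟩
  have h3 := orderOf_dvd_of_pow_eq_one (congrArg Subtype.val hj : (a * x * a⁻¹ * y⁻¹) ^ 2 ^ j = 1)
  exact ⟨a, ha, mul_inv_eq_one.1 (orderOf_eq_one_iff.1
    (((Nat.coprime_two_right.2 h2).pow_right j).eq_one_of_dvd h3))⟩

theorem conj_commute {X : Type*} [Group X] [Finite X] {A : Subgroup X} (hA : IsPGroup 2 A) {x y : X}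
    (hx : Odd (orderOf x)) (hy : Odd (orderOf y)) (hn : ∀ a ∈ A, x * a * x⁻¹ ∈ A)
    (hn' : ∀ a ∈ A, y * a * y⁻¹ ∈ A) (h : x * y * x⁻¹ * y⁻¹ ∈ A) :
    ∃ a ∈ A, Commute x (a * y * a⁻¹) := by
  obtain ⟨a, ha, e⟩ := TO.glaub hA hx hn (H := Subgroup.centralizer {y}) fun m => by
    obtain ⟨b, hb, e⟩ := conj_of_coset hA hy (TO.odd_conj hy (x ^ m)) hn' (by
      induction m with
      | zero => simp
      | succ m ih =>
        have := mul_mem (hn _ ih) h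
        rwa [show x * (x ^ m * y * (x ^ m)⁻¹ * y⁻¹) * x⁻¹ * (x * y * x⁻¹ * y⁻¹) =
          x ^ (m + 1) * y * (x ^ (m + 1))⁻¹ * y⁻¹ by group] at this)
    refine ⟨b⁻¹, inv_mem hb, Subgroup.mem_centralizer_singleton_iff.2 ?_⟩
    calc b⁻¹ * x ^ m * y = b⁻¹ * (x ^ m * y * (x ^ m)⁻¹) * x ^ m := by group
      _ = _ := by rw [← e]; group
  refine ⟨a⁻¹, inv_mem ha, ?_⟩
  have := Subgroup.mem_centralizer_singleton_iff.1 e
  calc x * (a⁻¹ * y * a⁻¹⁻¹) = a⁻¹ * (a * x * a⁻¹ * y) * a := by group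
    _ = _ := by rw [this]; group

namespace TO

/-- `g` acts on `Z₄` and `Z₆` by scalars. -/
def Act (P : Par K C) (ι : C →* G) (g : G) (l m : Kˣ) : Prop :=
  (∀ t, g * ι (P.nf (y4 0 t)) * g⁻¹ = ι (P.nf (y4 0 (l * t)))) ∧
    ∀ t, g * ι (P.nf (y6 0 t)) * g⁻¹ = ι (P.nf (y6 0 (m * t)))

/-- the image of `R` -/
def RR (P : Par K C) (ι : C →* G) : Subgroup G := R.map (ι.comp P.nf)

variable {g g' n : G} {l m l' m' : Kˣ}

theorem Act.mul (a : Act P ι g l m) (b : Act P ι g' l' m') :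
    Act P ι (g * g') (l * l') (m * m') := by
  have e : ∀ x : G, g * g' * x * (g * g')⁻¹ = g * (g' * x * g'⁻¹) * g⁻¹ := fun x => by group
  exact ⟨fun t => by rw [e, b.1, a.1, Units.val_mul, mul_assoc],
    fun t => by rw [e, b.2, a.2, Units.val_mul, mul_assoc]⟩

theorem Act.inv (a : Act P ι g l m) : Act P ι g⁻¹ l⁻¹ m⁻¹ :=
  ⟨fun t => by
    have := a.1 (l⁻¹ * t : K)
    rw [Units.val_inv_eq_inv_val, mul_inv_cancel_left₀ l.ne_zero] at this
    rw [Units.val_inv_eq_inv_val, ← this]; group, fun t => by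
    have := a.2 (m⁻¹ * t : K)
    rw [Units.val_inv_eq_inv_val, mul_inv_cancel_left₀ m.ne_zero] at this
    rw [Units.val_inv_eq_inv_val, ← this]; group⟩

theorem Act.mem (H : Hyp P ι) (a : Act P ι g 1 1) : g ∈ RR P ι := by
  obtain ⟨r, hr, e⟩ := H.cent_V (g := g)
    (fun t => mul_inv_eq_iff_eq_mul.1 (by simpa using a.1 t))
    fun t => mul_inv_eq_iff_eq_mul.1 (by simpa using a.2 t)
  exact ⟨r, hr, e.symm⟩

theorem act_of_mem (h : g ∈ RR P ι) : Act P ι g 1 1 := by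
  obtain ⟨r, hr, rfl⟩ := h
  rw [SetLike.mem_coe, mem_R] at hr
  constructor <;> intro t <;> rw [mul_inv_eq_iff_eq_mul, MonoidHom.comp_apply, ← map_mul, ← map_mul,
    ← map_mul, ← map_mul] <;> congr 2 <;> ext <;> simp [hr, add_comm]

theorem Act.norm (H : Hyp P ι) (a : Act P ι g l m) : ∀ r ∈ RR P ι, g * r * g⁻¹ ∈ RR P ι :=
  fun r hr => Act.mem H (by simpa using (a.mul (act_of_mem hr)).mul a.inv)

theorem Act.sw (S : Sw P ι n) (a : Act P ι g l m) : Act P ι (n * g * n⁻¹) m l :=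
  ⟨fun t => by rw [← S.z6, ← S.z6, ← a.2]; group, fun t => by rw [← S.z4, ← S.z4, ← a.1]; group⟩

theorem act_d (k : Kˣ) : Act P ι (ι (P.d k)) 1 (k * σu k) := by
  constructor <;> intro t <;> rw [← map_inv, ← map_mul, ← map_mul, P.d_nf] <;> congr 2 <;> ext <;>
    simp

theorem isP : IsPGroup 2 (RR P ι) := (isPGroup.to_subgroup R).map _

theorem sq_mem (S : Sw P ι n) : n * n ∈ RR P ι := by
  obtain ⟨r, hr, e⟩ := S.sq
  exact ⟨r, hr, e.symm⟩

theorem sw_mul (H : Hyp P ι) (S : Sw P ι n) {r : G} (hr : r ∈ RR P ι) : Sw P ι (r * n) := by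
  have a := act_of_mem hr
  have e : ∀ x, r * n * x * (r * n)⁻¹ = r * (n * x * n⁻¹) * r⁻¹ := fun x => by group
  refine ⟨fun t => by rw [e, S.z4]; simpa using a.2 t, fun t => by rw [e, S.z6]; simpa using a.1 t,
    ?_, ?_⟩
  · obtain ⟨s, hs, h⟩ := mul_mem (mul_mem hr ((a.sw S).mem H)) (sq_mem S)
    exact ⟨s, hs, by rw [← MonoidHom.comp_apply, h]; group⟩
  · obtain ⟨s, -, rfl⟩ := hr
    have h1 : (ι.comp P.nf) s ∈ ι.range := ⟨_, rfl⟩
    refine mul_mem (Subgroup.mem_sup_left h1) (SetLike.le_def.1 (sup_le le_sup_left ?_) S.gen)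
    rintro _ ⟨x, hx, rfl⟩
    have := mul_mem (mul_mem (Subgroup.mem_sup_left (inv_mem h1)) (Subgroup.mem_sup_right
      (Subgroup.mem_map_of_mem (MulAut.conj ((ι.comp P.nf) s * n)).toMonoidHom hx)))
      (Subgroup.mem_sup_left h1)
    convert this using 1
    simp only [MulEquiv.coe_toMonoidHom, MulAut.conj_apply]
    group

/-- first step: the two tori are interchanged -/
theorem back (H : Hyp P ι) (S : Sw P ι n) (k : Kˣ) : ∃ n', Sw P ι n' ∧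
    Commute (ι (P.d k)) (n' * ι (P.d k) * n'⁻¹) ∧
    n' * (n' * ι (P.d k) * n'⁻¹) * n'⁻¹ = ι (P.d k) := by
  have a := act_d (P := P) (ι := ι) k
  have o : Odd (orderOf (ι (P.d k))) := (P.odd_d k).of_dvd_nat (orderOf_map_dvd _ _)
  generalize ι (P.d k) = h at a o
  obtain ⟨r, hr, c⟩ := conj_commute isP o (odd_conj o n) (a.norm H) ((a.sw S).norm H) (Act.mem H (by
    simpa using ((a.mul (a.sw S)).mul a.inv).mul (a.sw S).inv))
  have S1 := sw_mul H S hr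
  rw [show r * (n * h * n⁻¹) * r⁻¹ = r * n * h * (r * n)⁻¹ by group] at c
  generalize r * n = n₁ at S1 c
  have c' : Commute (n₁ * h * n₁⁻¹) (n₁ * (n₁ * h * n₁⁻¹) * n₁⁻¹) := c.map (MulAut.conj n₁)
  have hc := Subgroup.mem_centralizer_singleton_iff.2 c.eq
  obtain ⟨u, hu, e⟩ := conj_of_coset (A := RR P ι ⊓ Subgroup.centralizer {n₁ * h * n₁⁻¹})
    (isP.to_le inf_le_left) o (odd_conj (odd_conj o n₁) n₁)
    (fun b hb => Subgroup.mem_inf.2 ⟨a.norm H b hb.1,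
      mul_mem (mul_mem hc (Subgroup.mem_inf.1 hb).2) (inv_mem hc)⟩)
    (Subgroup.mem_inf.2 ⟨by
      have := mul_mem (sq_mem S1) (a.norm H _ (inv_mem (sq_mem S1)))
      convert this using 1
      group, mul_mem (Subgroup.mem_centralizer_singleton_iff.2 c'.eq.symm) (inv_mem hc)⟩)
  have e1 : u⁻¹ * n₁ * h * (u⁻¹ * n₁)⁻¹ = n₁ * h * n₁⁻¹ := by
    have := Subgroup.mem_centralizer_singleton_iff.1 hu.2
    calc _ = u⁻¹ * (n₁ * h * n₁⁻¹ * u) := by group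
      _ = _ := by rw [← this]; group
  refine ⟨u⁻¹ * n₁, sw_mul H S1 (inv_mem hu.1), e1 ▸ c, ?_⟩
  rw [e1]
  calc _ = u⁻¹ * (n₁ * (n₁ * h * n₁⁻¹) * n₁⁻¹) * u := by group
    _ = _ := by rw [← e]; group

/-- automorphisms fixing the torus and `V` -/
def KK (P : Par K C) : Subgroup (MulAut C) where
  carrier := {β | (∀ j, β (P.d j) = P.d j) ∧ (∀ t, β (P.nf (y4 0 t)) = P.nf (y4 0 t)) ∧
    ∀ t, β (P.nf (y6 0 t)) = P.nf (y6 0 t)}
  mul_mem' := fun a b => ⟨fun j => by rw [MulAut.mul_apply, b.1, a.1],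
    fun t => by rw [MulAut.mul_apply, b.2.1, a.2.1], fun t => by rw [MulAut.mul_apply, b.2.2, a.2.2]⟩
  one_mem' := ⟨fun _ => rfl, fun _ => rfl, fun _ => rfl⟩
  inv_mem' := fun a => ⟨fun j => (MulEquiv.symm_apply_eq _).2 (a.1 j).symm,
    fun t => (MulEquiv.symm_apply_eq _).2 (a.2.1 t).symm,
    fun t => (MulEquiv.symm_apply_eq _).2 (a.2.2 t).symm⟩

theorem T4 (c : Kˣ) (t : K) : P.T (c, 1) (P.nf (y4 0 t)) = P.nf (y4 0 (c * σ (c : K) * t)) := by
  rw [P.T_nf]; congr 1; ext <;> simp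

theorem T6 (c : Kˣ) (t : K) : P.T (c, 1) (P.nf (y6 0 t)) = P.nf (y6 0 t) := by
  rw [P.T_nf]; congr 1; ext <;> simp

theorem eqns_to : True := by
  have := @Act.eq_1.{0, 0, 0}
  have := @RR.eq_1.{0, 0, 0}
  have := @KK.eq_1.{0, 0}
  trivial

end TO

theorem Hyp.torus (H : Hyp P ι) {n : G} (S : Sw P ι n) :
    ∃ (ι' : C →* G) (n' : G) (k : Kˣ), Hyp P ι' ∧ ι'.range = ι.range ∧ ι' P.z = ι P.z ∧ Sw P ι' n' ∧
      Tor P ι' n' k := by
  obtain ⟨k, hk⟩ := IsCyclic.exists_generator (α := Kˣ)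
  obtain ⟨n', S', c, b⟩ := TO.back H S k
  have a := (TO.act_d (P := P) (ι := ι) k).sw S'
  have o := TO.odd_conj ((P.odd_d k).of_dvd_nat (orderOf_map_dvd ι _)) n'
  obtain ⟨α, hα⟩ := H.aut (H.nm_of_Z (a.1 1))
  haveI : Finite (MulAut C) := DFunLike.finite _
  have oα : Odd (orderOf α) := o.of_dvd_nat (orderOf_dvd_of_pow_eq_one (MulEquiv.ext fun x => by
    have : ∀ m : ℕ, (n' * ι (P.d k) * n'⁻¹) ^ m * ι x * ((n' * ι (P.d k) * n'⁻¹) ^ m)⁻¹ =
        ι ((α ^ m) x) := fun m => by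
      induction m with
      | zero => simp
      | succ m ih =>
        rw [pow_succ' α, MulAut.mul_apply, ← hα, ← ih]
        generalize n' * ι (P.d k) * n'⁻¹ = w
        group
    exact H.inj (by rw [← this, pow_orderOf_eq_one]; simp)))
  have i4 : ∀ t, (P.T (k, 1))⁻¹ (P.nf (y4 0 t)) = P.nf (y4 0 ((k * σ (k : K))⁻¹ * t)) := fun t =>
    (MulEquiv.symm_apply_eq _).2 (by
      rw [TO.T4, mul_inv_cancel_left₀ (mul_ne_zero k.ne_zero (σ_ne k.ne_zero))])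
  have i6 : ∀ t, (P.T (k, 1))⁻¹ (P.nf (y6 0 t)) = P.nf (y6 0 t) := fun t =>
    (MulEquiv.symm_apply_eq _).2 (TO.T6 k t).symm
  have id : ∀ j, (P.T (k, 1))⁻¹ (P.d j) = P.d j := fun j =>
    (MulEquiv.symm_apply_eq _).2 (P.T_d _ j).symm
  have can : ∀ t : K, k * σ (k : K) * ((k * σ (k : K))⁻¹ * t) = t := fun t =>
    mul_inv_cancel_left₀ (mul_ne_zero k.ne_zero (σ_ne k.ne_zero)) t
  obtain ⟨κ, hκ, e⟩ := conj_of_coset (A := TO.KK P) (fun β => (P.two_aut β β.2.2.1 β.2.2.2).imp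
    fun _ e => Subtype.ext e) (P.odd_T (k, 1)) oα (fun β hβ =>
      ⟨fun j => by rw [MulAut.mul_apply, MulAut.mul_apply, id, hβ.1, P.T_d],
        fun t => by rw [MulAut.mul_apply, MulAut.mul_apply, i4, hβ.2.1, TO.T4, can],
        fun t => by rw [MulAut.mul_apply, MulAut.mul_apply, i6, hβ.2.2, TO.T6]⟩)
    ⟨fun j => H.inj (by
      obtain ⟨m, rfl⟩ := hk j
      rw [MulAut.mul_apply, id, ← hα, map_zpow, map_zpow, (c.symm.zpow_right m).eq,
        mul_inv_cancel_right]),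
    fun t => H.inj (by rw [MulAut.mul_apply, i4, ← hα, a.1, Units.val_mul, σu_val, can]),
    fun t => H.inj (by rw [MulAut.mul_apply, i6, ← hα, a.2, Units.val_one, one_mul])⟩
  have hr : (ι.comp κ.toMonoidHom).range = ι.range := by
    rw [MonoidHom.range_comp, MonoidHom.range_eq_top.2 κ.surjective, ← MonoidHom.range_eq_map]
  have ap : ∀ x, ι.comp κ.toMonoidHom x = ι (κ x) := fun _ => rfl
  refine ⟨ι.comp κ.toMonoidHom, n', k, H.comp κ (hκ.2.1 1), hr, congrArg ι (hκ.2.1 1),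
    ⟨fun t => by rw [ap, ap, hκ.2.1, hκ.2.2, S'.z4], fun t => by rw [ap, ap, hκ.2.1, hκ.2.2, S'.z6],
      ?_, hr ▸ S'.gen⟩, hk, by rw [ap, hκ.1, b], fun x => ?_⟩
  · obtain ⟨r, h1, h2⟩ := S'.sq
    have h3 : Commute (P.nf r) (P.nf (y6 0 1)) := Commute.map (by
      rw [mem_R] at h1
      ext <;> simp [h1, add_comm]) P.nf
    have h4 := h3.map κ⁻¹
    rw [(inv_mem hκ).2.2] at h4
    obtain ⟨r', h5, h6⟩ := P.cent_z6 h4
    exact ⟨r', h5, by rw [ap, ← h6, h2]; simp⟩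
  · rw [ap, ap, ap, hκ.1, hα, ← e]
    simp

end H78.Oct
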