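import Mathlib
import Cfsg.Agent.Base
import Cfsg.Agent.Lib.Twist.F4Mat
import Cfsg.Agent.Lib.Oct.Defs
import Cfsg.Agent.Lib.Oct.Col

/-!
# The matrix group `²F₄(q)` in octagon coordinates (helper78)
-/

set_option autoImplicit false
set_option linter.unusedSectionVars false
set_option linter.dupNamespace false

namespace H78.Oct

open H38 H39 Cfsg Cfsg.Lie Co

/-- Transport along an isomorphism. -/
def Oct.map {K Γ Δ : Type*} [Field K] [Tits K] [Group Γ] [Group Δ] (O : Oct K Γ) (e : Γ ≃* Δ) :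
    Oct K Δ where
  nf := e.toMonoidHom.comp O.nf
  inj := e.injective.comp O.inj
  n1 := e O.n1
  n2 := e O.n2
  n11 := by rw [← map_mul, O.n11, map_one]
  n22 := by rw [← map_mul, O.n22, map_one]
  rho := by rw [← map_mul, ← map_pow, O.rho, map_one]
  n1_nf a ha := by simpa using congrArg e (O.n1_nf a ha)
  n2_nf a ha := by simpa using congrArg e (O.n2_nf a ha)
  h := e.toMonoidHom.comp O.h
  h_nf c k a := by simpa using congrArg e (O.h_nf c k a)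
  n1_h c k := by simpa using congrArg e (O.n1_h c k)
  n2_h c k := by simpa using congrArg e (O.n2_h c k)
  sl2 s hs := by
    obtain ⟨a, b, x, h⟩ := O.sl2 s hs
    exact ⟨a, b, x, by simpa using congrArg e h⟩
  n1_eq := by simpa using congrArg e O.n1_eq
  sz t v hs := by
    obtain ⟨a, b, a', b', x, h⟩ := O.sz t v hs
    exact ⟨a, b, a', b', x, by simpa using congrArg e h⟩
  opp a b h := O.opp a b (e.injective (by simpa using h))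
  gen X h0 h1 h2 := Subgroup.comap_injective (f := e.toMonoidHom) e.surjective
    (O.gen (X.comap e.toMonoidHom) h0 h1 h2)

/-- The exponents of the characters of the torus. -/
def ex (r : ℕ) : ℤ × ℤ × ℤ × ℤ :=
  [(-2, -1, 0, 0), (0, 0, -2, -1), (0, -1, 0, -1), (-1, -1, 0, 0), (-2, -1, 0, 1), (-2, -2, 2, 1), (0, -1,
   0, 0), (0, 0, -1, -1), (-1, 0, -1, 0), (-1, -1, 1, 0), (1, 0, -1, -1), (-2, -1, 1, 1), (0, 0, -1, 0), (0,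
   -1, 1, 0), (-1, -1, 1, 1), (0, 1, -2, -1), (0, 0, 0, -1), (2, 1, -2, -2), (-1, 0, 0, 0), (1, 1, -2, -1),
   (1, 0, 0, -1), (-2, 0, 0, 1), (0, 1, -2, 0), (-2, -1, 2, 1), (2, 1, -2, -1), (0, -1, 2, 0), (2, 0, 0,
   -1), (-1, 0, 0, 1), (-1, -1, 2, 1), (1, 0, 0, 0), (-2, -1, 2, 2), (0, 0, 0, 1), (0, -1, 2, 1), (1, 1, -1,
   -1), (0, 1, -1, 0), (0, 0, 1, 0), (2, 1, -1, -1), (-1, 0, 1, 1), (1, 1, -1, 0), (1, 0, 1, 0), (0, 0, 1,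
   1), (0, 1, 0, 0), (2, 2, -2, -1), (2, 1, 0, -1), (1, 1, 0, 0), (0, 1, 0, 1), (0, 0, 2, 1), (2, 1, 0, 0)].getD r 0

theorem ex_eq : ∀ r < 48, ex r = (chevF4.cartan 0 r + chevF4.cartan 1 r + 2 * chevF4.cartan 2 r +
    2 * chevF4.cartan 3 r, chevF4.cartan 0 r + chevF4.cartan 1 r + chevF4.cartan 2 r + chevF4.cartan 3 r,
    chevF4.cartan 1 r + 2 * chevF4.cartan 2 r, chevF4.cartan 1 r + chevF4.cartan 2 r) := by decide +kernel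

theorem ex_p1 : ∀ r < 48, ex (p1 r) = ((ex r).2.2.1, (ex r).2.2.2, (ex r).1, (ex r).2.1) := by
  decide +kernel

theorem ex_p2 : ∀ r < 48, ex (p2 r) =
    ((ex r).1 + 2 * (ex r).2.2.2, (ex r).2.1 + (ex r).2.2.1, -(ex r).2.2.1, -(ex r).2.2.2) := by
  decide +kernel

variable {K : Type*} [Field K] [Fintype K] [Tits K]

/-- The characters of the torus. -/
def chi (c k : Kˣ) (r : ℕ) : K :=
  (c : K) ^ (ex r).1 * σ (c : K) ^ (ex r).2.1 * (k : K) ^ (ex r).2.2.1 * σ (k : K) ^ (ex r).2.2.2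

theorem wd_tor (c k : Kˣ) (x : Co K) :
    (wd σ x).map (fun p => (p.1, chi c k p.1 * p.2)) = wd σ (tor c k x) := by
  have e : (wd σ x).map (fun p => (p.1, chi c k p.1 * p.2)) =
     [(33, (c : K) ^ (1 : ℤ) * σ (c : K) ^ (1 : ℤ) * (k : K) ^ (-1 : ℤ) * σ (k : K) ^ (-1 : ℤ) * x.a1),
      (24, (c : K) ^ (2 : ℤ) * σ (c : K) ^ (1 : ℤ) * (k : K) ^ (-2 : ℤ) * σ (k : K) ^ (-1 : ℤ) * σ x.a1),
      (34, (c : K) ^ (0 : ℤ) * σ (c : K) ^ (1 : ℤ) * (k : K) ^ (-1 : ℤ) * σ (k : K) ^ (0 : ℤ) * x.a2),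
      (26, (c : K) ^ (2 : ℤ) * σ (c : K) ^ (0 : ℤ) * (k : K) ^ (0 : ℤ) * σ (k : K) ^ (-1 : ℤ) * σ x.a2),
      (36, (c : K) ^ (2 : ℤ) * σ (c : K) ^ (1 : ℤ) * (k : K) ^ (-1 : ℤ) * σ (k : K) ^ (-1 : ℤ) * (x.a2 * σ x.a2 + x.b2)),
      (42, (c : K) ^ (2 : ℤ) * σ (c : K) ^ (2 : ℤ) * (k : K) ^ (-2 : ℤ) * σ (k : K) ^ (-1 : ℤ) * σ x.b2),
      (38, (c : K) ^ (1 : ℤ) * σ (c : K) ^ (1 : ℤ) * (k : K) ^ (-1 : ℤ) * σ (k : K) ^ (0 : ℤ) * x.a3),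
      (43, (c : K) ^ (2 : ℤ) * σ (c : K) ^ (1 : ℤ) * (k : K) ^ (0 : ℤ) * σ (k : K) ^ (-1 : ℤ) * σ x.a3),
      (29, (c : K) ^ (1 : ℤ) * σ (c : K) ^ (0 : ℤ) * (k : K) ^ (0 : ℤ) * σ (k : K) ^ (0 : ℤ) * x.a4),
      (41, (c : K) ^ (0 : ℤ) * σ (c : K) ^ (1 : ℤ) * (k : K) ^ (0 : ℤ) * σ (k : K) ^ (0 : ℤ) * σ x.a4),
      (44, (c : K) ^ (1 : ℤ) * σ (c : K) ^ (1 : ℤ) * (k : K) ^ (0 : ℤ) * σ (k : K) ^ (0 : ℤ) * (x.a4 * σ x.a4 + x.b4)),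
      (47, (c : K) ^ (2 : ℤ) * σ (c : K) ^ (1 : ℤ) * (k : K) ^ (0 : ℤ) * σ (k : K) ^ (0 : ℤ) * σ x.b4),
      (39, (c : K) ^ (1 : ℤ) * σ (c : K) ^ (0 : ℤ) * (k : K) ^ (1 : ℤ) * σ (k : K) ^ (0 : ℤ) * x.a5),
      (45, (c : K) ^ (0 : ℤ) * σ (c : K) ^ (1 : ℤ) * (k : K) ^ (0 : ℤ) * σ (k : K) ^ (1 : ℤ) * σ x.a5),
      (35, (c : K) ^ (0 : ℤ) * σ (c : K) ^ (0 : ℤ) * (k : K) ^ (1 : ℤ) * σ (k : K) ^ (0 : ℤ) * x.a6),
      (31, (c : K) ^ (0 : ℤ) * σ (c : K) ^ (0 : ℤ) * (k : K) ^ (0 : ℤ) * σ (k : K) ^ (1 : ℤ) * σ x.a6),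
      (40, (c : K) ^ (0 : ℤ) * σ (c : K) ^ (0 : ℤ) * (k : K) ^ (1 : ℤ) * σ (k : K) ^ (1 : ℤ) * (x.a6 * σ x.a6 + x.b6)),
      (46, (c : K) ^ (0 : ℤ) * σ (c : K) ^ (0 : ℤ) * (k : K) ^ (2 : ℤ) * σ (k : K) ^ (1 : ℤ) * σ x.b6),
      (37, (c : K) ^ (-1 : ℤ) * σ (c : K) ^ (0 : ℤ) * (k : K) ^ (1 : ℤ) * σ (k : K) ^ (1 : ℤ) * x.a7),
      (32, (c : K) ^ (0 : ℤ) * σ (c : K) ^ (-1 : ℤ) * (k : K) ^ (2 : ℤ) * σ (k : K) ^ (1 : ℤ) * σ x.a7),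
      (27, (c : K) ^ (-1 : ℤ) * σ (c : K) ^ (0 : ℤ) * (k : K) ^ (0 : ℤ) * σ (k : K) ^ (1 : ℤ) * x.a8),
      (25, (c : K) ^ (0 : ℤ) * σ (c : K) ^ (-1 : ℤ) * (k : K) ^ (2 : ℤ) * σ (k : K) ^ (0 : ℤ) * σ x.a8),
      (28, (c : K) ^ (-1 : ℤ) * σ (c : K) ^ (-1 : ℤ) * (k : K) ^ (2 : ℤ) * σ (k : K) ^ (1 : ℤ) * (x.a8 * σ x.a8 + x.b8)),
      (30, (c : K) ^ (-2 : ℤ) * σ (c : K) ^ (-1 : ℤ) * (k : K) ^ (2 : ℤ) * σ (k : K) ^ (2 : ℤ) * σ x.b8)] := rfl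
  have h1 := σ_ne c.ne_zero
  have h2 := σ_ne k.ne_zero
  rw [e]
  simp only [wd, tor_a1, tor_a2, tor_b2, tor_a3, tor_a4, tor_b4, tor_a5, tor_a6, tor_b6, tor_a7, tor_a8, tor_b8,
    List.cons.injEq, Prod.mk.injEq, true_and, and_true, map_mul, map_inv₀, map_pow, σσ, zpow_neg, zpow_ofNat]
  refine ⟨?_, ?_, ?_, ?_, ?_, ?_, ?_, ?_, ?_, ?_, ?_, ?_, ?_, ?_, ?_, ?_, ?_, ?_, ?_, ?_, ?_, ?_, ?_, ?_⟩ <;>
    field_simp

theorem wd_lt (x : Co K) : ∀ p ∈ wd σ x, 24 ≤ p.1 ∧ p.1 < 48 := by simp [wd]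

/-- The coordinates of the torus. -/
def tc : Kˣ × Kˣ →* (Fin 4 → Kˣ) := MonoidHom.mk'
  (fun x => ![x.1 * σu x.1, x.1 * x.2 * σu (x.1 * x.2), σu (x.1 * x.2 * σu (x.1 * x.2)), σu (x.1 * σu x.1)])
  fun x y => by
    funext j
    fin_cases j <;> ext <;> simp <;> ring

variable {G : Type*} [Group G] (S : StRel chevF4 K G)

/-- `g` permutes the root elements by `p`, with multipliers `χ`. -/
def Nc (g : G) (p : ℕ → ℕ) (χ : ℕ → K) : Prop :=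
  ∀ r < 48, p r < 48 ∧ ∀ t, g * xx S r t * g⁻¹ = xx S (p r) (χ r * t)

variable {S}

theorem Nc.mul {g g' : G} {p p' : ℕ → ℕ} {χ χ' : ℕ → K} (h : Nc S g p χ) (h' : Nc S g' p' χ') :
    Nc S (g * g') (fun r => p (p' r)) fun r => χ (p' r) * χ' r := fun r hr =>
  ⟨(h _ (h' r hr).1).1, fun t => by
    rw [mul_assoc (χ _), ← (h _ (h' r hr).1).2, ← (h' r hr).2]; group⟩

theorem Nc.congr {g : G} {p p' : ℕ → ℕ} {χ χ' : ℕ → K} (h : Nc S g p χ) (h1 : ∀ r < 48, p r = p' r)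
    (h2 : ∀ r < 48, χ r = χ' r) : Nc S g p' χ' := fun r hr => h1 r hr ▸ h2 r hr ▸ h r hr

theorem Nc.mul1 {g g' : G} {p p' : ℕ → ℕ} (h : Nc S g p 1) (h' : Nc S g' p' 1) :
    Nc S (g * g') (fun r => p (p' r)) 1 := (h.mul h').congr (fun _ _ => rfl) fun _ _ => mul_one _

theorem Nc.one : Nc S 1 id 1 := fun r hr => ⟨hr, fun t => by simp⟩

theorem Nc.ev {g : G} {p : ℕ → ℕ} {χ : ℕ → K} (h : Nc S g p χ) {w : List (ℕ × K)}
    (hw : ∀ x ∈ w, x.1 < 48) : g * ev S w * g⁻¹ = ev S (w.map fun x => (p x.1, χ x.1 * x.2)) := by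
  induction w with
  | nil => simp [Oct.ev]
  | cons a w ih =>
    rw [List.map_cons, ev_cons, ev_cons, ← ih fun x hx => hw x (List.mem_cons_of_mem _ hx),
      ← (h _ (hw a List.mem_cons_self)).2]
    group

theorem nf_x1 (s : K) : nfS S (x1 s) = xx S 33 s * xx S 24 (σ s) := by
  simp [nfS, wd, Oct.ev, xx_zero]

theorem nf_y8 (s u : K) :
    nfS S (y8 s u) = xx S 27 s * (xx S 25 (σ s) * (xx S 28 (s * σ s + u) * xx S 30 (σ u))) := by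
  simp [nfS, wd, Oct.ev, xx_zero]

theorem xx_commute {r s : ℕ} (h : r < 48 ∧ s < 48 ∧ s ≠ r ∧ s ≠ chevF4.neg r ∧ chevF4.commTerms r s = [])
    (t u : K) : Commute (xx S s u) (xx S r t) := by
  have := S.comm r h.1 s h.2.1 h.2.2.1 h.2.2.2.1 t u
  rw [ChevalleyDatum.commWord, h.2.2.2.2] at this
  simpa [xx, h.1, h.2.1, Commute, SemiconjBy] using this

variable {R : RS (Fin 48) (Fin 4)} {E : Elts R K G} {T : Tw E} {e : ℕ}

variable (S T e) in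
/-- The standing hypotheses. -/
structure Set0 : Prop where
  f4 : IsF4 T e
  hx : ∀ (r : Fin 48) t, E.x r t = xx S r t
  s_val : ∀ i r, (R.s i r : ℕ) = chevF4.reflectRoot i r
  sim_eq : ∀ i, (R.sim i : ℕ) = chevF4.simple i
  neg_val : ∀ r, (R.neg r : ℕ) = 47 - r
  wt : ∀ r i, R.wt r i = chevF4.cartan i r
  pos' : ∀ r, R.Pos r ↔ chevF4.IsPosRoot r
  hσ : ∀ t : K, σ t = t ^ (2 * e)

variable (E) in
/-- The reflection in `U₁`. -/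
def m1 : G := E.n (R.sim 0) 1 * E.n (R.sim 3) 1

variable (E) in
/-- The reflection in `U₈`. -/
def m2 : G := E.n (R.sim 1) 1 * (E.n (R.sim 2) 1 *
  (E.n (R.sim 1) 1 * E.n (R.sim 2) 1))

namespace Set0

variable (H : Set0 S T e)
include H

theorem eq {g g' : G} {p : ℕ → ℕ} {χ : ℕ → K} (h : Nc S g p χ) (h' : Nc S g' p χ) : g = g' := by
  have : g'⁻¹ * g ∈ Subgroup.center G := Subgroup.mem_center_iff.2 fun a => by
    refine E.XS_induction (P := fun a => a * (g'⁻¹ * g) = g'⁻¹ * g * a) (T.hG ▸ Subgroup.mem_top a :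
      a ∈ E.Gp) (fun r _ t => ?_) (by simp) fun a b _ _ h1 h2 => by
        rw [mul_assoc, h2, ← mul_assoc, h1, mul_assoc _ a]
    have e1 := ((h r r.2).2 t).trans ((h' r r.2).2 t).symm
    rw [H.hx]
    calc _ = g'⁻¹ * (g' * xx S r t * g'⁻¹) * g := by group
      _ = _ := by rw [← e1]; group
  rw [H.f4.hz, Subgroup.mem_bot, inv_mul_eq_one] at this
  exact this.symm

theorem nc_n (i : Fin 4) : Nc S (E.n (R.sim i) 1) (chevF4.reflectRoot i) 1 := fun r hr => by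
  have v := H.s_val i ⟨r, hr⟩
  refine ⟨v ▸ (R.s i ⟨r, hr⟩).2, fun t => ?_⟩
  have := nconj_char_two E (R.sim i) ⟨r, hr⟩ t
  rw [H.hx, H.hx, show R.refl (R.sim i) ⟨r, hr⟩ = R.s i ⟨r, hr⟩ from rfl, v] at this
  rwa [Pi.one_apply, one_mul]

theorem nc1 : Nc S (m1 E) p1 1 := ((H.nc_n 0).mul1 (H.nc_n 3)).congr (by decide +kernel) fun _ _ => rfl

theorem nc2 : Nc S (m2 E) p2 1 :=
  ((H.nc_n 1).mul1 ((H.nc_n 2).mul1 ((H.nc_n 1).mul1 (H.nc_n 2)))).congr (by decide +kernel) fun _ _ => rfl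

theorem m11 : m1 E * m1 E = 1 := H.eq ((H.nc1.mul1 H.nc1).congr (by decide +kernel) fun _ _ => rfl) Nc.one

theorem m22 : m2 E * m2 E = 1 := H.eq ((H.nc2.mul1 H.nc2).congr (by decide +kernel) fun _ _ => rfl) Nc.one

theorem nc4 : Nc S ((m1 E * m2 E) ^ 4) (47 - ·) 1 := by
  have h := H.nc1.mul1 H.nc2
  rw [show 4 = 2 + 2 from rfl, pow_add, sq]
  exact ((h.mul1 h).mul1 (h.mul1 h)).congr (by decide +kernel) fun _ _ => rfl

theorem rho : (m1 E * m2 E) ^ 8 = 1 := by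
  rw [show 8 = 4 + 4 from rfl, pow_add]
  exact H.eq ((H.nc4.mul1 H.nc4).congr (by decide +kernel) fun _ _ => rfl) Nc.one

theorem m1_mem : m1 E ∈ T.Γ := by
  rw [T.mem_Γ, m1, map_mul, T.σ_n, T.σ_n, H.f4.ρ0, H.f4.ρ3, map_one, map_one]
  exact H.eq (((H.nc_n 3).mul1 (H.nc_n 0)).congr (by decide +kernel) fun _ _ => rfl) H.nc1

theorem m2_mem : m2 E ∈ T.Γ := by
  rw [T.mem_Γ, m2, map_mul, map_mul, map_mul, T.σ_n, T.σ_n, H.f4.ρ1, H.f4.ρ2, map_one, map_one]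
  exact H.eq (((H.nc_n 2).mul1 ((H.nc_n 1).mul1 ((H.nc_n 2).mul1 (H.nc_n 1)))).congr (by decide +kernel)
    fun _ _ => rfl) H.nc2

theorem m1_nf {a : Co K} (ha : a ∈ Co.R) : m1 E * nfS S a * m1 E = nfS S (w1 a) := by
  have := H.nc1.ev fun x hx => (wd_lt a x hx).2
  simp only [Pi.one_apply, one_mul, inv_eq_of_mul_eq_one_right H.m11] at this
  exact this.trans (ev_w1 S ha)

theorem m2_nf {a : Co K} (ha : a ∈ Co.Q) : m2 E * nfS S a * m2 E = nfS S (w2 a) := by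
  have := H.nc2.ev fun x hx => (wd_lt a x hx).2
  simp only [Pi.one_apply, one_mul, inv_eq_of_mul_eq_one_right H.m22] at this
  exact this.trans (ev_w2 S ha)

theorem pos {r : ℕ} (hr : r < 48) : R.Pos ⟨r, hr⟩ ↔ 24 ≤ r :=
  (H.pos' _).trans ((by decide +kernel : ∀ r < 48, chevF4.IsPosRoot r ↔ 24 ≤ r) r hr)

theorem ev_mem {A : Set (Fin 48)} {w : List (ℕ × K)} (hw : ∀ x ∈ w, ∃ h : x.1 < 48, ⟨x.1, h⟩ ∈ A) :
    ev S w ∈ E.XS A := list_prod_mem fun g hg => by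
  obtain ⟨x, hx, rfl⟩ := List.mem_map.1 hg
  obtain ⟨h1, h2⟩ := hw x hx
  exact H.hx ⟨x.1, h1⟩ x.2 ▸ E.x_mem_XS h2 _

theorem inj : Function.Injective (nfS S) := (injective_iff_map_eq_one _).2 fun a ha => by
  classical
  have hn : ((wd σ a).map Prod.fst).Nodup := by simp [wd]
  let f : ℕ × K → Fin 48 := fun p => ⟨p.1 % 48, Nat.mod_lt _ (by decide)⟩
  have hf : ∀ p ∈ wd σ a, (f p : ℕ) = p.1 := fun p hp => Nat.mod_eq_of_lt (wd_lt a p hp).2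
  let t : Fin 48 → K := fun r => if h : ∃ p ∈ wd σ a, p.1 = r then h.choose.2 else 0
  have ht : ∀ p ∈ wd σ a, t (f p) = p.2 := fun p hp => by
    have h : ∃ q ∈ wd σ a, q.1 = f p := ⟨p, hp, (hf p hp).symm⟩
    exact (dif_pos h).trans (congrArg Prod.snd
      (List.inj_on_of_nodup_map hn h.choose_spec.1 hp (h.choose_spec.2.trans (hf p hp))))
  have key := T.hF.prod_inj (one_mem _) (L := (wd σ a).map f) (t := t) (t' := 0)
    (List.Nodup.of_map Fin.val (by rwa [List.map_map, List.map_congr_left (f := Fin.val ∘ f) hf]))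
    (fun r hr => by
      obtain ⟨p, hp, rfl⟩ := List.mem_map.1 hr
      exact (H.pos (f p).2).2 ((hf p hp).symm ▸ (wd_lt a p hp).1))
    (by
      rw [List.map_map, List.map_congr_left (g := fun p => xx S p.1 p.2) fun p hp => by
        rw [Function.comp_apply, ht p hp, H.hx, hf p hp]]
      exact ha.trans (List.prod_eq_one (by simp +contextual [E.x_zero, eq_comm])).symm)
  have : ∀ p ∈ wd σ a, p.2 = 0 := fun p hp => (ht p hp).symm.trans (key _ (List.mem_map_of_mem hp))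
  simp only [wd, List.forall_mem_cons, map_eq_zero] at this
  ext <;> simp only [this, one_a1, one_a2, one_b2, one_a3, one_a4, one_b4, one_a5, one_a6, one_b6, one_a7,
    one_a8, one_b8]

theorem opp (a b : Co K) (h : (m1 E * m2 E) ^ 4 * nfS S a * (m1 E * m2 E) ^ 4 = nfS S b) : a = 1 := by
  have h1 := H.nc4.ev fun x hx => (wd_lt a x hx).2
  replace h : (m1 E * m2 E) ^ 4 * nfS S a * ((m1 E * m2 E) ^ 4)⁻¹ = nfS S b := by
    rwa [inv_eq_of_mul_eq_one_right ((pow_add _ 4 4).symm.trans H.rho)]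
  have h3 := T.hF.B_inf_V (nfS S b)
    (E.U_le_B (H.ev_mem fun x hx => ⟨(wd_lt b x hx).2, (H.pos _).2 (wd_lt b x hx).1⟩))
    ((h1.symm.trans h) ▸ H.ev_mem fun x hx => by
      obtain ⟨y, hy, rfl⟩ := List.mem_map.1 hx
      have := wd_lt a y hy
      exact ⟨by omega, fun h => by have := (H.pos _).1 h; omega⟩)
  rw [← h, conj_eq_one_iff] at h3
  exact H.inj (h3.trans (map_one _).symm)

theorem xv {r : Fin 48} {k : ℕ} (h : (r : ℕ) = k) (t : K) : E.x r t = xx S k t := h ▸ H.hx r t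

theorem pe (t : K) : σ (t ^ e) = t := by rw [H.hσ, H.f4.pow_pow]

theorem ep (t : K) : σ t ^ e = t := by rw [H.hσ, H.f4.pow_pow']

theorem mem0 {g : G} : g ∈ E.XS (T.S.PJ 0) ⊓ T.Γ ↔ ∃ s, g = nfS S (x1 s) := by
  rw [H.f4.orth0.PJ_eq, H.f4.mem03 (Or.inl rfl)]
  simp only [H.xv (H.sim_eq 0), H.xv (H.sim_eq 3), nf_x1]
  exact ⟨fun ⟨t, h⟩ => ⟨t ^ e, by rw [H.pe]; exact h⟩, fun ⟨t, h⟩ => ⟨σ t, by rw [H.ep]; exact h⟩⟩

theorem mem1 {g : G} : g ∈ E.XS (T.S.PJ 1) ⊓ T.Γ ↔ ∃ s u, g = nfS S (y8 s u) := by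
  have v1 : (R.sim 1 : ℕ) = 27 := H.sim_eq _
  have v2 : (R.sim 2 : ℕ) = 25 := H.sim_eq _
  have vc : (R.s 2 (R.sim 1) : ℕ) = 28 :=
    (H.s_val _ _).trans (by rw [v1]; decide +kernel)
  have vd : (R.s 1 (R.sim 2) : ℕ) = 30 :=
    (H.s_val _ _).trans (by rw [v2]; decide +kernel)
  rw [H.f4.PJ1, H.f4.mem12 (Or.inl rfl)]
  simp only [H.xv v1, H.xv v2, H.xv vc, H.xv vd, nf_y8, ← H.hσ, pow_succ]
  exact ⟨fun ⟨t, u, h⟩ => ⟨t ^ e, u, by rw [H.pe]; exact h⟩, fun ⟨t, u, h⟩ => ⟨σ t, u, by rw [H.ep]; exact h⟩⟩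

theorem nf_mem (a : Co K) : nfS S a ∈ T.Γ := by
  have c1 : ∀ a ∈ Co.R, nfS S a ∈ T.Γ → nfS S (w1 a) ∈ T.Γ := fun a ha h =>
    H.m1_nf ha ▸ mul_mem (mul_mem H.m1_mem h) H.m1_mem
  have c2 : ∀ a ∈ Co.Q, nfS S a ∈ T.Γ → nfS S (w2 a) ∈ T.Γ := fun a ha h =>
    H.m2_nf ha ▸ mul_mem (mul_mem H.m2_mem h) H.m2_mem
  have h1 : ∀ s, nfS S (x1 s) ∈ T.Γ := fun s => (H.mem0.2 ⟨s, rfl⟩).2
  have h8 : ∀ s u, nfS S (y8 s u) ∈ T.Γ := fun s u => (H.mem1.2 ⟨s, u, rfl⟩).2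
  have h7 : ∀ s, nfS S (x7 s) ∈ T.Γ := fun s => by
    convert c2 _ (by simp) (h1 s) using 2; ext <;> simp
  have h2 : ∀ s u, nfS S (y2 s u) ∈ T.Γ := fun s u => by
    convert c1 _ (by simp) (h8 s u) using 2; ext <;> simp
  have h3 : ∀ s, nfS S (x3 s) ∈ T.Γ := fun s => by
    convert c1 _ (by simp) (h7 s) using 2; ext <;> simp
  have h6 : ∀ s u, nfS S (y6 s u) ∈ T.Γ := fun s u => by
    convert c2 _ (by simp) (h2 s u) using 2; ext <;> simp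
  have h5 : ∀ s, nfS S (x5 s) ∈ T.Γ := fun s => by
    convert c2 _ (by simp) (h3 s) using 2; ext <;> simp
  have h4 : ∀ s u, nfS S (y4 s u) ∈ T.Γ := fun s u => by
    convert c1 _ (by simp) (h6 s u) using 2; ext <;> simp
  rw [eq_prod a]
  simp only [map_mul]
  exact mul_mem (mul_mem (mul_mem (mul_mem (mul_mem (mul_mem (mul_mem (h1 _) (h2 _ _)) (h3 _)) (h4 _ _))
    (h5 _)) (h6 _ _)) (h7 _)) (h8 _ _)

/-- The torus. -/
noncomputable def hh : Kˣ × Kˣ →* G := (Elts.tor H.f4.h3).comp tc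

theorem nc_h (c k : Kˣ) : Nc S (H.hh (c, k)) id (chi c k) := fun r hr => ⟨hr, fun t => by
  have := Elts.tor_conj_x H.f4.h3 (tc (c, k)) ⟨r, hr⟩ t
  rw [H.hx, H.hx] at this
  refine this.trans (congrArg (fun z => xx S r (z * t)) ?_)
  have h1 := σ_ne c.ne_zero
  have h2 := σ_ne k.ne_zero
  simp only [Fin.prod_univ_four, H.wt, chi, ex_eq r hr, tc, MonoidHom.mk'_apply, Matrix.cons_val,
    Units.val_mul, Units.val_zpow_eq_zpow_val, σu_val, map_mul, σσ, mul_zpow, zpow_add₀ h1, zpow_add₀ h2,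
    zpow_add₀ c.ne_zero, zpow_add₀ k.ne_zero, two_mul, sq]
  simp only [Fin.val_zero, Fin.val_one, Fin.val_two, show ((3 : Fin 4) : ℕ) = 3 from rfl]
  ring⟩

theorem tc_mem (x : Kˣ × Kˣ) : tc x ∈ T.T1 :=
  H.f4.mem_T1.2 ⟨Units.ext (H.ep _).symm, Units.ext (H.ep _).symm⟩

theorem hh_surj {g : G} (h1 : g ∈ E.H) (h2 : g ∈ T.Γ) : ∃ x, g = H.hh x := by
  obtain ⟨c, hc, rfl⟩ : g ∈ T.T1.map (Elts.tor H.f4.h3) := H.f4.H_inf_Γ ▸ ⟨h1, h2⟩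
  obtain ⟨e0, e1⟩ := H.f4.mem_T1.1 hc
  obtain ⟨x, hx⟩ := N_surj (c 0 : K)
  obtain ⟨y, hy⟩ := N_surj (c 1 : K)
  have x0 : x ≠ 0 := fun h => (c _).ne_zero (by rw [← hx, h, zero_mul])
  have y0 : y ≠ 0 := fun h => (c _).ne_zero (by rw [← hy, h, zero_mul])
  refine ⟨(.mk0 x x0, (Units.mk0 x x0)⁻¹ * .mk0 y y0), congrArg (Elts.tor H.f4.h3) (funext fun j => ?_)⟩
  have e2 : (c 2 : K) = σ (c 1 : K) := by rw [e1, Units.val_pow_eq_pow_val, H.pe]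
  have e3 : (c 3 : K) = σ (c 0 : K) := by rw [e0, Units.val_pow_eq_pow_val, H.pe]
  simp only [tc, MonoidHom.mk'_apply, mul_inv_cancel_left]
  fin_cases j <;> ext
  exacts [hx.symm, hy.symm, e2.trans (congrArg σ hy.symm), e3.trans (congrArg σ hx.symm)]

theorem rep1 : E.Rep (m1 E) (T.S.wo 0) := by
  rw [H.f4.orth0.wo_eq]
  simpa [m1] using (E.rep_n_sim 0 one_ne_zero).mul (E.rep_n_sim 3 one_ne_zero)

theorem rep2 : E.Rep (m2 E) (T.S.wo 1) := by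
  have a1 := R.s_mem_WJ (J := {1, 2}) (i := 1) (Or.inl rfl)
  have a2 := R.s_mem_WJ (J := {1, 2}) (i := 2) (Or.inr rfl)
  have b1 := E.rep_n_sim 1 (c := 1) one_ne_zero
  have b2 := E.rep_n_sim 2 (c := 1) one_ne_zero
  rw [RTw.wo, H.f4.orb1, ← R.eq_wJ (mul_mem a1 (mul_mem a2 (mul_mem a1 a2))) ?_]
  · exact b1.mul (b2.mul (b1.mul b2))
  rintro i (rfl | rfl) <;> simp only [H.pos', Equiv.Perm.mul_apply, H.s_val, H.sim_eq] <;>
    decide +kernel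

theorem cell {i : Fin 4} {n v : G} (hn : E.Rep n (T.S.wo i)) (hΓ : n ∈ T.Γ) (hv : v ∈ E.XS (T.S.PJ i) ⊓ T.Γ)
    (h1 : v ≠ 1) : ∃ u ∈ E.XS (T.S.PJ i) ⊓ T.Γ, ∃ u' ∈ E.XS (T.S.PJ i) ⊓ T.Γ, ∃ x,
      n * v * n⁻¹ = u * H.hh x * n * u' := by
  have hw : n * v * n⁻¹ ∈ E.XS (T.NJ i) ⊓ T.Γ := by
    rw [← Tw.wo_image_PJ, ← T.map_conj_inf hn hΓ]; exact ⟨v, hv, rfl⟩
  have hL : n * v * n⁻¹ ∈ E.L (T.S.orb i) := Subgroup.mem_sup_left (E.XS_mono (fun _ h => h.2) hw.1)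
  obtain ⟨u0, h0, m, hm, w, hw1, hr, hJ, u, hu, e1⟩ :=
    T.bruhat_PS (R.stable_sub (T.S.orb i)) (E.PS_sub _ ▸ hL) hw.2
  rcases T.S.eq_one_or_wo hw1 hJ with rfl | rfl
  · refine absurd (T.hF.B_inf_V _ ?_ (E.XS_mono (fun _ h => h.1) hw.1)) (by rwa [conj_eq_one_iff])
    rw [e1]
    exact mul_mem (mul_mem (E.U_le_B (E.XS_mono (fun _ h => h.1) h0.1)) (E.H_le_B hr.mem_H))
      (E.U_le_B (E.XS_mono (fun _ h => h.1) hu.1))
  · rw [T.S.Inv_wo] at hu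
    obtain ⟨x, hx⟩ := H.hh_surj (Elts.Rep.mul_inv_mem_H E hr hn) (mul_mem hm (inv_mem hΓ))
    exact ⟨u0, h0, u, hu, x, by rw [e1, ← hx]; group⟩

theorem m1_eq : m1 E = nfS S (x1 1) * (m1 E * nfS S (x1 1) * m1 E) * nfS S (x1 1) := by
  have h := H.nc1.ev (w := [(33, 1), (24, 1)]) (by simp)
  have v : ∀ i : Fin 4, (R.neg (R.sim i) : ℕ) = 47 - chevF4.simple i := fun i => by
    rw [H.neg_val, H.sim_eq]
  simp only [inv_eq_of_mul_eq_one_right H.m11, Oct.ev, List.map_cons, List.map_nil, List.prod_cons,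
    List.prod_nil, mul_one, Pi.one_apply] at h
  rw [nf_x1, map_one, h, m1, PreElts.n, PreElts.n, H.xv (v 0), H.xv (v 3), H.xv (H.sim_eq 0),
    H.xv (H.sim_eq 3), inv_one, CharTwo.neg_eq]
  change xx S 33 1 * xx S 14 1 * xx S 33 1 * (xx S 24 1 * xx S 23 1 * xx S 24 1) =
    xx S 33 1 * xx S 24 1 * (xx S 14 1 * xx S 23 1) * (xx S 33 1 * xx S 24 1)
  have c1 := ((xx_commute (S := S) (r := 24) (s := 14) (by decide +kernel) 1 1).mul_left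
    (xx_commute (r := 24) (s := 33) (by decide +kernel) 1 1)).eq
  have c2 := (xx_commute (S := S) (r := 23) (s := 33) (by decide +kernel) 1 1).eq
  calc _ = xx S 33 1 * (xx S 14 1 * xx S 33 1 * xx S 24 1) * xx S 23 1 * xx S 24 1 := by group
    _ = xx S 33 1 * xx S 24 1 * xx S 14 1 * (xx S 33 1 * xx S 23 1) * xx S 24 1 := by rw [c1]; group
    _ = _ := by rw [c2]; group

theorem gen {X : Subgroup G} (h0 : ∀ a, nfS S a ∈ X) (h1 : m1 E ∈ X) (h2 : m2 E ∈ X) : T.Γ ≤ X := by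
  have k : ∀ {i : Fin 4} {n : G}, E.Rep n (T.S.wo i) → n ∈ T.Γ → n ∈ X → E.XS (T.S.PJ i) ⊓ T.Γ ≤ X →
      E.XS (T.NJ i) ⊓ T.Γ ≤ X := fun hn hΓ hX h => by
    rw [← Tw.wo_image_PJ, ← T.map_conj_inf hn hΓ]
    rintro _ ⟨v, hv, rfl⟩
    exact mul_mem (mul_mem hX (h hv)) (inv_mem hX)
  have a0 : E.XS (T.S.PJ 0) ⊓ T.Γ ≤ X := fun g hg => by obtain ⟨s, rfl⟩ := H.mem0.1 hg; exact h0 _
  have a1 : E.XS (T.S.PJ 1) ⊓ T.Γ ≤ X := fun g hg => by obtain ⟨s, u, rfl⟩ := H.mem1.1 hg; exact h0 _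
  have b0 := sup_le a0 (k H.rep1 H.m1_mem h1 a0)
  have b1 := sup_le a1 (k H.rep2 H.m2_mem h2 a1)
  rw [← H.f4.G1_eq]
  refine iSup_le fun i : Fin 4 => ?_
  fin_cases i
  exacts [b0, b1, H.f4.PJ2.symm ▸ H.f4.NJ2.symm ▸ b1, H.f4.PJ3.symm ▸ H.f4.NJ3.symm ▸ b0]

/-- The octagon data. -/
noncomputable def oct : Oct K T.Γ where
  nf := (nfS S).codRestrict _ H.nf_mem
  inj _ _ h := H.inj (congrArg Subtype.val h)
  n1 := ⟨_, H.m1_mem⟩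
  n2 := ⟨_, H.m2_mem⟩
  n11 := Subtype.ext H.m11
  n22 := Subtype.ext H.m22
  rho := Subtype.ext H.rho
  n1_nf _ ha := Subtype.ext (H.m1_nf ha)
  n2_nf _ ha := Subtype.ext (H.m2_nf ha)
  h := H.hh.codRestrict _ fun x => T.tor_mem_Γ H.f4.h3 (H.tc_mem x)
  h_nf c k a := Subtype.ext (((H.nc_h c k).ev fun x hx => (wd_lt a x hx).2).trans (congrArg _ (wd_tor c k a)))
  n1_h c k := Subtype.ext (H.eq (((H.nc1.mul (H.nc_h c k)).mul H.nc1).congr (by decide +kernel) fun r hr => by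
    simp only [chi, id, ex_p1 r hr, Pi.one_apply]; ring) (H.nc_h k c))
  n2_h c k := Subtype.ext (H.eq (((H.nc2.mul (H.nc_h c k)).mul H.nc2).congr (by decide +kernel) fun r hr => by
    simp only [chi, id, ex_p2 r hr, Pi.one_apply, Units.val_mul, σu_val, Units.val_inv_eq_inv_val, map_mul,
      map_inv₀, σσ, mul_zpow, inv_zpow, zpow_neg, zpow_add₀ (σ_ne c.ne_zero), zpow_add₀ c.ne_zero, two_mul, sq]
    ring) (H.nc_h c _))
  sl2 s hs := by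
    obtain ⟨u, hu, u', hu', x, h⟩ := H.cell H.rep1 H.m1_mem (H.mem0.2 ⟨s, rfl⟩) fun h =>
      hs (congrArg Co.a1 (H.inj (h.trans (map_one _).symm)))
    obtain ⟨a, rfl⟩ := H.mem0.1 hu
    obtain ⟨b, rfl⟩ := H.mem0.1 hu'
    exact ⟨a, b, x, Subtype.ext (inv_eq_of_mul_eq_one_right H.m11 ▸ h :)⟩
  n1_eq := Subtype.ext H.m1_eq
  sz t v hs := by
    obtain ⟨u, hu, u', hu', x, h⟩ := H.cell H.rep2 H.m2_mem (H.mem1.2 ⟨t, v, rfl⟩) fun h =>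
      hs ⟨congrArg Co.a8 (H.inj (h.trans (map_one _).symm)), congrArg Co.b8 (H.inj (h.trans (map_one _).symm))⟩
    obtain ⟨a, b, rfl⟩ := H.mem1.1 hu
    obtain ⟨a', b', rfl⟩ := H.mem1.1 hu'
    exact ⟨a, b, a', b', x, Subtype.ext (inv_eq_of_mul_eq_one_right H.m22 ▸ h :)⟩
  opp a b h := H.opp a b (congrArg Subtype.val h)
  gen X h0 h1 h2 := eq_top_iff.2 fun g _ => by
    obtain ⟨y, hy, e1⟩ := H.gen (X := X.map T.Γ.subtype) (fun a => ⟨_, h0 a, rfl⟩) ⟨_, h1, rfl⟩ ⟨_, h2, rfl⟩ g.2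
    exact Subtype.ext e1 ▸ hy

end Set0

theorem exists_oct {K : Type*} [Field K] [Fintype K] (m : ℕ) (hK : Fintype.card K = 2 ^ (2 * m + 1)) :
    ∃ _ : Tits K, Nonempty (Oct K (Cfsg.Lie.twistedF4 K (2 ^ m))) := by
  obtain ⟨R, E, hE, T, h, e⟩ := exists_F4 hK
  letI : Tits K := ⟨T.φ (0 : Fin 4), fun x => by
    rw [h.φ0, h.φ0, mul_comm 2, pow_mul, mul_comm _ 2, h.pow_pow']⟩
  have H : Set0 (R := R.toRS) hE.grpRel T (2 ^ m) :=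
    ⟨h, fun r t => (hE.grpRel_x r t).symm.trans (if_pos r.2).symm, R.s_val, R.sim_eq,
      fun r => (R.neg_eq r).trans (R.neg_val r), fun r i => (R.cartan_eq i r).symm,
      fun r => (R.isPosRoot_iff r).symm, h.φ0⟩
  exact ⟨_, ⟨e ▸ H.oct.map (T.Γ.equivMapOfInjective _ (Subgroup.subtype_injective _))⟩⟩

theorem auto_lemmas_model : True := by
  have := @ex.eq_1
  have := @chi.eq_1.{0}
  have := @tc.eq_1.{0}
  have := @m1.eq_1.{0, 0}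
  have := @m2.eq_1.{0, 0}
  trivial

end H78.Oct
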