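import Mathlib
import Cfsg.Agent.Lib.Oct.F2

/-!
# The case q = 2: the octagon relation
-/

set_option autoImplicit false
set_option linter.unusedSectionVars false

namespace H78.Oct

open Co IV

variable {K C G : Type*} [Field K] [Tits K] [Finite K] [Group C] [Finite C] [Group G] [Finite G]
  {P : Par K C} {ι : C →* G}

set_option hygiene false in
local notation "⟪" a "⟫" => ι (P.nf a)

theorem R8_ee (hK : ∀ x : K, x = 0 ∨ x = 1) (H : Hyp P ι) {g h : G} (e : g * ι P.z * g⁻¹ = h * ι P.z * h⁻¹) {a b : Co K}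
    (ha : a ∈ E) (hb : b ∈ E) : Commute (g * ⟪a⟫ * g⁻¹) (h * ⟪b⟫ * h⁻¹) := by
  obtain ⟨c, hc⟩ := H.cent_two hK (g := h⁻¹ * g) (mul_inv_eq_iff_eq_mul.1 (by
    rw [show h⁻¹ * g * ι P.z * (h⁻¹ * g)⁻¹ = h⁻¹ * (g * ι P.z * g⁻¹) * h by group, e]; group))
  obtain ⟨a', ha', e'⟩ := P.conj_E c ha
  rw [show g * ⟪a⟫ * g⁻¹ = h * (h⁻¹ * g * ⟪a⟫ * (h⁻¹ * g)⁻¹) * h⁻¹ by group, hc, ← map_inv, ← map_mul, ← map_mul, e']
  exact cj ((show Commute a' b from FC.EF hb (FC.E_le ha')).map P.nf |>.map ι)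

theorem R8_cm {a b : Co K} (h : a * b = b * a) : Commute ⟪a⟫ ⟪b⟫ := ((show Commute a b from h).map P.nf).map ι

set_option maxHeartbeats 1000000 in
theorem Fr2.rho (hK : ∀ x : K, x = 0 ∨ x = 1) (H : Hyp P ι) {n : G} (F : Fr2 P ι n) :
    (n * ι P.n) ^ 8 = 1 := by
  have e2 := r2 F
  have e4 := r4 F
  have e6 := r6 F
  have u2 := up2 F
  have d2 := dn2 F 0 1
  have op := fun q => F.opp_Q hK H (q := q)
  have ex : ∀ s, (n * ι P.n) ^ 3 * ⟪x1 s⟫ * ((n * ι P.n) ^ 3)⁻¹ = ⟪x7 s⟫ := fun s => by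
    rw [← r_nf F (a := x5 s) (b := x3 s) (c := x7 s) (by simp) (by ext <;> simp) (by simp) (by ext <;> simp),
      ← r_nf F (a := x3 s) (b := x5 s) (c := x5 s) (by simp) (by ext <;> simp) (by simp) (by ext <;> simp),
      ← r_nf F (a := x1 s) (b := x7 s) (c := x3 s) (by simp) (by ext <;> simp) (by simp) (by ext <;> simp)]
    generalize n * ι P.n = r
    rw [pow_three]; group
  have mr : ι P.n * (n * ι P.n) * (ι P.n)⁻¹ = (n * ι P.n)⁻¹ := by rw [mul_inv_rev, IV.n_inv F, ← mul_assoc, mul_inv_cancel_right, m_inv]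
  generalize n * ι P.n = r at *
  have rel : ι P.n * ⟪y8 0 1⟫ * (ι P.n)⁻¹ = ⟪y8 1 0⟫⁻¹ * ι P.n * ⟪y8 1 0⟫ := by
    rw [m_inv, ← map_mul, ← map_mul, F.rel, map_mul, map_mul, ← map_inv, ← map_inv,
      show (y8 1 0 : Co K)⁻¹ = y8 1 1 by ext <;> simp]
  have mq := fun a b => m_nf (P := P) (ι := ι) (a := a) (b := b)
  have m2 := mm (P := P) (ι := ι)
  have cz : ∀ c, Commute (ι c) (ι P.z) := fun c => (P.z_comm c 1).map ι
  have hu : ∀ c : C, Commute (ι c) (r ^ (2 : ℤ) * ι P.z * r ^ (-2 : ℤ)) → Commute (ι c) (r ^ (-2 : ℤ) * ι P.z * r ^ (- -2 : ℤ)) →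
      ∃ s t, c = P.nf (y4 s t) := fun c h1 h2 => by
    refine P.cent_U hK (H.inj ?_) (H.inj ?_)
    · rw [map_mul, map_mul, ← u2]; simpa [zpow_ofNat, Par.z] using h1.eq
    · rw [m_inv] at d2
      simp only [map_mul, ← d2]; simpa [zpow_ofNat, Par.z] using h2.eq
  have mτ := (cz P.n).eq
  generalize ι P.n = m at *
  obtain ⟨z, hz⟩ : ∃ z : ℤ → G, ∀ j, z j = r ^ j * ι P.z * r ^ (-j) := ⟨_, fun _ => rfl⟩
  have mz : ∀ j, m * z j * m⁻¹ = z (-j) := fun j => by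
    rw [hz, hz, show m * (r ^ j * ι P.z * r ^ (-j)) * m⁻¹ = (m * r ^ j * m⁻¹) * (m * ι P.z * m⁻¹) * (m * r ^ (-j) * m⁻¹) by
      group, ← conj_zpow, ← conj_zpow, mr, mτ]; group
  have z2 : z 2 = ⟪y8 0 1⟫ := by rw [hz, ← u2, Par.z]; group
  have A0 : z (-4) = (r ^ 4)⁻¹ * ι P.z * r ^ 4 := by rw [hz]; group
  have mi : ∀ x : G, m * (m * x * m⁻¹) * m⁻¹ = x := fun x => by
    rw [show m * (m * x * m⁻¹) * m⁻¹ = m * m * x * (m * m)⁻¹ by group, m2]; group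
  rw [← A0] at op
  have uA : Commute ⟪y8 1 0⟫ (z 4) := by
    have := cj (g := r ^ 2) (R8_cm (P := P) (ι := ι) (a := y4 1 0) (b := y8 0 1) (by ext <;> simp))
    rw [u2, ← z2, hz] at this
    convert this using 1
    rw [hz]; group
  have u0 := cj (g := m) uA
  rw [mz] at u0
  have hm : ∀ x, Commute x (m * ⟪y8 1 0⟫ * m⁻¹) → Commute x ⟪y8 0 1⟫ → m * x * m⁻¹ = x := fun x h1 h2 => by
    have := (h1.mul_right h2).mul_right h1.inv_right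
    rw [← mi ⟪y8 0 1⟫, rel, show m * ⟪y8 1 0⟫ * m⁻¹ * (m * (⟪y8 1 0⟫⁻¹ * m * ⟪y8 1 0⟫) * m⁻¹) * (m * ⟪y8 1 0⟫ * m⁻¹)⁻¹ = m by
      group] at this
    rw [← this.eq, mul_inv_cancel_right]
  obtain ⟨p, p1, p2, p3⟩ := F.exists_point hK H (t := z (-4)) (isConj_iff.2 ⟨r ^ (-4 : ℤ), by rw [hz, zpow_neg _ (-4)]⟩)
  obtain ⟨a, -, rfl⟩ := H.cent_V (fun t => p3 (y4 0 t) (by simp)) (fun t => p3 (y6 0 t) (by simp))
  have o := H9.orderOf_eq_of_isConj p1 ▸ H.order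
  have a8 := Par.pb_a8' (IV.sq H o)
  have b8 : a.b8 = 1 := (hK _).resolve_left fun e => by simp [op a ⟨a8, e⟩ p2] at o
  obtain ⟨q, hq, rfl⟩ : ∃ q ∈ Q, a = q * y8 0 1 :=
    ⟨a * (y8 0 1)⁻¹, by simp [a8, b8, CharTwo.add_self_eq_zero], by rw [inv_mul_cancel_right]⟩
  obtain ⟨c, hc⟩ : ∃ c, c = y8 1 0 * w2 q * (y8 1 0)⁻¹ := ⟨_, rfl⟩
  have cQ : y8 0 1 * c * (y8 0 1)⁻¹ ∈ Q := by simp [hc, CharTwo.add_self_eq_zero]
  have cQ' : c ∈ Q := by simp [hc, CharTwo.add_self_eq_zero]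
  have wQ : ∀ x : Co K, w2 x ∈ Q := fun x => by simp
  have h1 := cj (g := m) p2
  rw [mz, neg_neg] at h1
  have h2 := (uA.mul_left h1).mul_left uA.inv_left
  have h8 : Commute ⟪y8 0 1⟫ (z 4) := by
    rw [show (y8 0 1 : Co K) = y8 1 0 * y8 1 0 by ext <;> simp [CharTwo.add_self_eq_zero], map_mul, map_mul]
    exact uA.mul_left uA
  have h3 := cj (g := m) (((h2.mul_left h8).mul_left h2).mul_left h1.inv_left)
  have e1 : m * ⟪q * y8 0 1⟫ * m⁻¹ = ⟪w2 q⟫ * (⟪y8 1 0⟫⁻¹ * m * ⟪y8 1 0⟫) := by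
    rw [← rel, ← mq q _ hq rfl, map_mul, map_mul]; group
  have e3 : ⟪y8 1 0⟫ * (⟪w2 q⟫ * (⟪y8 1 0⟫⁻¹ * m * ⟪y8 1 0⟫)) * ⟪y8 1 0⟫⁻¹ = ⟪c⟫ * m := by
    simp only [hc, map_mul, map_inv]; group
  have e5 : ⟪c⟫ * m * ⟪y8 0 1⟫ * (⟪c⟫ * m) * (⟪w2 q⟫ * (⟪y8 1 0⟫⁻¹ * m * ⟪y8 1 0⟫))⁻¹ =
      ⟪c * w2 (y8 0 1 * c * (y8 0 1)⁻¹) * (w2 q)⁻¹⟫ := by
    rw [← rel, map_mul, map_mul, map_mul, map_mul, ← mq _ _ cQ rfl, show ⟪c⟫ * m * ⟪y8 0 1⟫ * (⟪c⟫ * m) =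
      ⟪c⟫ * m * ⟪y8 0 1⟫ * ⟪c⟫ * m⁻¹ * (m * m) by group]
    simp only [map_mul, map_inv, mul_inv_rev, mul_assoc]
    rw [← mul_assoc m m, m2]; group
  have hQ := mul_mem (mul_mem cQ' (wQ (y8 0 1 * c * (y8 0 1)⁻¹))) (inv_mem (wQ q))
  rw [mz, e1, e3, e5, mq _ _ hQ rfl] at h3
  have h4 := w2_w2 hQ
  rw [op _ (wQ _) h3, show w2 (1 : Co K) = 1 by ext <;> simp] at h4
  obtain ⟨s, t, e⟩ := B2.compl hK hq hc (mul_inv_eq_one.1 h4.symm)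
  have e7 := mq (x1 s * y2 0 t) (x7 s * y6 0 t) (by simp) (by ext <;> simp)
  have h5 := cj (g := m) (R8_cm (P := P) (ι := ι) (a := x7 s * y6 0 t) (b := y8 1 0) (by ext <;> simp))
  have h6 : Commute ⟪x1 s * y2 0 t⟫ (z (-3)) := by
    have := cj (g := (r ^ 3)⁻¹) (cz (P.nf (x7 s * y8 0 t)))
    rw [map_mul, map_mul, ← ex, ← e6, ← e4, ← e2] at this
    convert this using 1
    · rw [map_mul, map_mul, pow_three]; group
    · rw [hz]; group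
  have h7 := cj (g := m) h6
  rw [e, map_mul, map_mul, map_mul, map_mul, map_inv, map_inv] at p2
  rw [← e7, mi] at h5
  rw [mz, neg_neg] at h7
  generalize ⟪x1 s * y2 0 t⟫ = v at *
  have h9 := hm (v⁻¹ * z (-4) * v) ((h5.inv_left.mul_left u0.symm).mul_left h5) (by
    simpa [mul_assoc] using cj (g := v⁻¹) p2.symm)
  have h10 := R8_ee hK H (g := v⁻¹ * r ^ (-4 : ℤ)) (h := (m * v * m⁻¹)⁻¹ * r ^ (4 : ℤ)) (a := y6 0 1) (b := y2 0 1) (by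
    have : (m * v * m⁻¹)⁻¹ * (m * z (-4) * m⁻¹) * (m * v * m⁻¹) = v⁻¹ * z (-4) * v := by rw [← h9]; group
    rw [mz, hz, hz] at this
    calc _ = _ := by group
      _ = _ := this.symm
      _ = _ := by group) (by simp) (by simp)
  rw [show v⁻¹ * r ^ (-4 : ℤ) * ⟪y6 0 1⟫ * (v⁻¹ * r ^ (-4 : ℤ))⁻¹ = v⁻¹ * z (-3) * v by rw [← e4, hz, Par.z]; group,
    show (m * v * m⁻¹)⁻¹ * r ^ (4 : ℤ) * ⟪y2 0 1⟫ * ((m * v * m⁻¹)⁻¹ * r ^ (4 : ℤ))⁻¹ =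
      (m * v * m⁻¹)⁻¹ * z 3 * (m * v * m⁻¹) by rw [hz, Par.z, ← e2]; group,
    mul_assoc v⁻¹, ← h6.eq, inv_mul_cancel_left, mul_assoc _ (z 3), ← h7.eq, inv_mul_cancel_left] at h10
  have h11 := hm _ u0.symm (by
    have := cj (g := r⁻¹) h10
    rw [← z2]
    convert this using 1 <;> rw [hz, hz] <;> group)
  rw [mz, hz, hz] at h11
  have h12 : Commute (r ^ 8) (ι P.z) := by
    calc r ^ 8 * ι P.z = r ^ 4 * (r ^ (- -4 : ℤ) * ι P.z * r ^ (- - -4 : ℤ)) * r ^ 4 := by group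
      _ = _ := by rw [h11]; group
  obtain ⟨c, hc⟩ := H.cent_two hK h12
  have h13 : ∀ j : ℤ, Commute (r ^ 8) (r ^ j) := fun j => ((Commute.refl r).pow_left 8).zpow_right j
  obtain ⟨s, t, rfl⟩ := hu c (hc ▸ ((h13 _).mul_right h12).mul_right (h13 _))
    (hc ▸ ((h13 _).mul_right h12).mul_right (h13 _))
  have h14 : (y4 s t : Co K) = y6 s t := FC.inj2 H (by rw [← e4, ← hc]; group)
  obtain rfl : s = 0 := congrArg Co.a4 h14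
  obtain rfl : t = 0 := congrArg Co.b4 h14
  rw [hc, FC.z0, map_one, map_one]

end H78.Oct
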